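/-
An automorphism of `L₂(q)` of `r`-power order that centralizes a Sylow `r`-subgroup.
-/
import Cfsg.Agent.JR.Loc1
import Cfsg.Agent.JR.Loc3
import Cfsg.Agent.H28.Pgl2Torus
import Cfsg.Prelude.Def_KGroupFacts

set_option autoImplicit false

open Matrix Matrix.ProjGenLinGroup Subgroup OnePoint
open scoped MatrixGroups

namespace Cfsg.Agent.H60.AutL2

open H28 H29 H23 H23.Pgl

variable {F : Type*} [Field F] [Finite F]

theorem conj_eq (x : PSL(2, F)) : MulAut.conj x = iota F (pslInc F x) := by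
  obtain ⟨s, rfl⟩ := QuotientGroup.mk_surjective x
  exact conj_mk_eq_pslConj s

theorem comm_conj {X : Type*} [Group X] {α : MulAut X} {x : X} (h : α x = x) :
    α * MulAut.conj x * α⁻¹ = MulAut.conj x := by
  ext y; simp [h]

theorem isCyclic_of_odd (p : ℕ) [Fact p.Prime] [CharP F p] {r : ℕ} [hr : Fact r.Prime] (h2 : r ≠ 2)
    (hp : r ≠ p) {R : Subgroup PSL(2, F)} (hR : IsPGroup r R) (hc : IsMulCommutative R) :
    IsCyclic R := by
  classical
  let f := algebraMap F (AlgebraicClosure F)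
  let _ : MulAction PSL(2, F) (OnePoint (AlgebraicClosure F)) :=
    MulAction.compHom _ ((ProjGenLinGroup.map f).comp (pslInc F))
  have h := mob_of_hom f p (pslInc F) pslInc_injective
  have k : ∀ ℓ : ℕ, ℓ.Prime → ℓ ≠ r → ∀ g ∈ R, g ^ ℓ = 1 → g = 1 := fun ℓ hℓ ne g hg e => by
    obtain ⟨n, hn⟩ := hR ⟨g, hg⟩
    exact orderOf_eq_one_iff.1 (Nat.eq_one_of_dvd_coprimes
      (((Nat.coprime_primes hℓ hr.out).2 ne).pow_right n) (orderOf_dvd_of_pow_eq_one e)
      (orderOf_dvd_of_pow_eq_one (congrArg Subtype.val hn)))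
  rcases R.bot_or_exists_ne_one with rfl | ⟨x, hx, x1⟩
  · infer_instance
  obtain ⟨y, hy⟩ := h.fix x
  obtain ⟨z, ne, hz⟩ := h.ss x y hy fun e => x1 (k p Fact.out hp.symm x hx e)
  refine h.isCyclic_of_tame (x := y) (fun g hg => ?_) (k p Fact.out hp.symm)
  have c : ∀ w : OnePoint (AlgebraicClosure F), x • w = w → x • g • w = g • w := fun w hw => by
    rw [← mul_smul, show x * g = g * x from congrArg Subtype.val (hc.is_comm.comm ⟨x, hx⟩ ⟨g, hg⟩),
      mul_smul, hw]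
  refine (h.eq_or_eq_of_fix x1 ne.symm hy hz (c y hy)).elim id fun e => ?_
  rcases h.eq_or_eq_of_fix x1 ne.symm hy hz (c z hz) with e' | e'
  · rw [k 2 Nat.prime_two h2.symm g hg (by rw [pow_two, h.mul_self_of_swap ne.symm e e'])]
    exact one_mem _
  · exact absurd (smul_left_cancel g (e'.trans e.symm)) ne

theorem inner_of_uni {α : MulAut PSL(2, F)}
    (h : ∀ c : F, α * iota F (aff 1 c) * α⁻¹ = iota F (aff 1 c)) :
    α ∈ (MulAut.conj : PSL(2, F) →* _).range := by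
  classical
  obtain ⟨g, σ, rfl⟩ := exists_eq_iota α
  have h1 : ∀ c : F, g * aff 1 (σ c) * g⁻¹ = aff 1 c := fun c => by
    have := h c
    rw [conj_iota, map_aff, map_one] at this
    exact iota_inj this
  have h2 : g • (∞ : OnePoint F) = ∞ := by
    have : aff 1 (1 : F) • g • (∞ : OnePoint F) = g • ∞ := by
      rw [← h1 1, mul_smul, inv_smul_smul, mul_smul, aff_smul_infty]
    generalize g • (∞ : OnePoint F) = y at this
    induction y with
    | infty => rfl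
    | coe z => simp [aff_smul_coe] at this
  obtain ⟨a, b, rfl⟩ := exists_aff h2
  have h3 : ∀ c : F, a * σ c = c := fun c => by
    have := h1 c
    rw [mul_inv_eq_iff_eq_mul, aff_mul, aff_mul] at this
    simpa [add_comm] using (aff_inj this).2
  obtain rfl : a = 1 := Units.ext (by simpa using h3 1)
  obtain rfl : σ = 1 := RingEquiv.ext fun c => by simpa using h3 c
  rw [map_one, mul_one, ← map_pslIn]
  exact mem_map_of_mem _ (aff_one_mem_pslIn b)

theorem lte {ℓ j n : ℕ} (hj : j ≠ 0) (hn : n ≠ 0) (h : ℓ ^ j ∣ n ^ 2 - 1) :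
    ℓ ^ (j + 1) ∣ (n ^ ℓ) ^ 2 - 1 := by
  have h1 := Nat.one_le_pow 2 _ (Nat.pos_of_ne_zero hn)
  have h2 := Nat.one_le_pow 2 _ (Nat.pos_of_ne_zero (pow_ne_zero ℓ hn))
  have h4 : ((ℓ ^ j : ℕ) : ℤ) ∣ (n : ℤ) ^ 2 - 1 := by exact_mod_cast Int.natCast_dvd_natCast.2 h
  have h5 := mul_dvd_mul (dvd_geom_sum₂_self
    ((Int.natCast_dvd_natCast.2 (dvd_pow_self ℓ hj)).trans h4)) h4
  rw [geom_sum₂_mul, ← pow_mul, mul_comm 2, pow_mul, one_pow] at h5
  rw [← Int.natCast_dvd_natCast, pow_succ']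
  exact_mod_cast h5

theorem mem_range_of_odd (p : ℕ) [Fact p.Prime] [CharP F p] {r : ℕ} [hr : Fact r.Prime] (h2 : r ≠ 2)
    (hp : r ≠ p) (hd : r ∣ Nat.card PSL(2, F)) {α : MulAut PSL(2, F)} {k : ℕ} (hα : α ^ r ^ k = 1)
    (R : Sylow r PSL(2, F)) (hc : IsMulCommutative R) (hR : ∀ x ∈ (R : Subgroup _), α x = x) :
    α ∈ (iota F).range := by
  by_contra hn
  obtain ⟨i, ℓ, h1, h3, h4, h5⟩ := JR.exists_prime_pow (pow_ne_zero k hr.out.ne_zero) hn
    (hα ▸ one_mem _)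
  obtain rfl := (Nat.prime_dvd_prime_iff_eq h1 hr.out).1 (h1.dvd_of_dvd_pow h3)
  obtain ⟨x, hx⟩ := (Subgroup.isCyclic_iff_exists_zpowers_eq_top _).1
    (isCyclic_of_odd p h2 hp R.isPGroup' hc)
  obtain ⟨j, hj⟩ := R.isPGroup'.exists_card_eq
  have j0 : j ≠ 0 := fun e => R.ne_bot_of_dvd_card hd (card_eq_one.1 (by rw [hj, e, pow_zero]))
  have ox : orderOf (pslInc F x) = ℓ ^ j := by
    rw [orderOf_injective _ pslInc_injective, ← Nat.card_zpowers, hx, hj]
  have h6 := comm_conj (α := α ^ i) (pow_mem (show α ∈ MulAction.stabilizer _ x from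
    hR x (hx ▸ mem_zpowers x)) i)
  obtain ⟨g, σ, e⟩ := exists_eq_iota (α ^ i)
  rw [e] at h4 h5 h6
  have hq := H68.card_eq_fixF_pow σ
  rw [orderOf_eq_prime (pow_field h5) fun e => h4 ⟨g, by simp [e]⟩] at hq
  rw [conj_eq, conj_iota] at h6
  have h7 := congrArg th (iota_inj h6)
  rw [th_conj, th_map] at h7
  have h8 := JR.orderOf_dvd_of_th (fun e => h2 ((Nat.prime_dvd_prime_iff_eq h1 Nat.prime_two).1
    ((dvd_pow_self ℓ j0).trans (ox ▸ orderOf_dvd_of_pow_eq_one (by rwa [pow_two])))))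
    (H68.mem_fixF.2 h7)
  have h9 : ¬ ℓ ∣ Nat.card (H68.fixF σ) := fun e => by
    have := Fintype.ofFinite F
    obtain ⟨n, -, hn⟩ := FiniteField.card F p
    exact hp ((Nat.prime_dvd_prime_iff_eq h1 Fact.out).1 (h1.dvd_of_dvd_pow
      (hn ▸ Nat.card_eq_fintype_card (α := F) ▸ hq ▸ dvd_pow e h1.ne_zero)))
  rw [ox] at h8
  have h10 := (lte j0 Nat.card_pos.ne' (((h1.coprime_iff_not_dvd.2 h9).pow_left
    j).dvd_of_dvd_mul_left h8)).mul_left (Nat.card F)
  rw [← hq, ← gcd_mul_card_pslIn, ← Nat.card_congr (pslEquiv F).toEquiv] at h10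
  have h11 := R.pow_dvd_card_of_pow_dvd_card (((((Nat.coprime_primes h1 Nat.prime_two).2
    h2).coprime_dvd_right (Nat.gcd_dvd_left _ _)).pow_left _).dvd_of_dvd_mul_left h10)
  rw [hj, Nat.pow_dvd_pow_iff_le_right h1.one_lt] at h11
  omega

theorem mem_of_four {Γ : Type*} [Group Γ] [Finite Γ] {L P : Subgroup Γ} {tor : Γ → Subgroup Γ}
    {τ m p : ℕ} (h : PG L P tor τ m p) {t s β : Γ} (ht : t ∈ L) (t2 : t * t = 1) (t1 : t ≠ 1)
    (hs : s ∈ L) (c : s * t = t * s) (hn : s ∉ tor t) (hβ : β ∈ P) (ct : β * t = t * β)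
    (cs : s * β = β * s) : β ∈ L := by
  have k : ∀ z ∈ tor t, s * z = z * s → z ∈ L := fun z hz e => by
    have := h.refl_inverts (h.L_le ht) t1 (h.L_le hs) c hn hz
    rw [e, mul_inv_cancel_right, ← mul_eq_one_iff_eq_inv] at this
    by_cases z1 : z = 1
    · exact z1 ▸ one_mem _
    · exact h.eq_of_inv (h.L_le ht) t2 t1 hz this z1 ▸ ht
  by_cases e : β ∈ tor t
  · exact k β e cs
  · exact (mul_mem_cancel_right hs).1 (k _ (h.mul_mem t (h.L_le ht) β hβ s (h.L_le hs) ct c e hn)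
      (by rw [← mul_assoc, cs]))

theorem inner (hq : 3 < Nat.card F)
    (h8 : Nat.card F % 8 = 0 ∨ Nat.card F % 8 = 3 ∨ Nat.card F % 8 = 5) {r : ℕ} [hr : Fact r.Prime]
    (hd : r ∣ Nat.card PSL(2, F)) {α : MulAut PSL(2, F)} {k : ℕ} (hα : α ^ r ^ k = 1)
    (R : Sylow r PSL(2, F)) (hc : IsMulCommutative R) (hR : ∀ x ∈ (R : Subgroup _), α x = x) :
    α ∈ (MulAut.conj : PSL(2, F) →* _).range := by
  classical
  have := Fintype.ofFinite F
  obtain ⟨p, hp, n, pp, hn⟩ := FiniteField.card' F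
  have := Fact.mk pp
  have key : ∀ Q : Subgroup PSL(2, F), IsPGroup r Q → (∀ β : MulAut PSL(2, F), β ^ r ^ k = 1 →
      (∀ x ∈ Q, β x = x) → β ∈ (MulAut.conj : PSL(2, F) →* _).range) →
      α ∈ (MulAut.conj : PSL(2, F) →* _).range := fun Q hQ h => by
    obtain ⟨g, hg⟩ := H43.exists_conj_le_sylow R hQ
    have := (innNormal _).conj_mem _ (h ((MulAut.conj g)⁻¹ * α * (MulAut.conj g)⁻¹⁻¹)
      (by rw [conj_pow, hα]; simp) fun x hx => by
        rw [inv_inv, MulAut.mul_apply, MulAut.mul_apply, MulAut.conj_apply, hR _ (hg x hx)]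
        simp [mul_assoc]) (MulAut.conj g)
    simpa [mul_assoc] using this
  by_cases e : r = p
  · subst e
    let U : Subgroup PSL(2, F) := ⟨⟨⟨{x | ∃ c, pslInc F x = aff 1 c}, by
      rintro x y ⟨c, hc⟩ ⟨d, hd⟩
      exact ⟨_, by rw [map_mul, hc, hd, aff_mul, one_mul]⟩⟩, 0, by rw [map_one, aff_one_zero]⟩, by
      rintro x ⟨c, hc⟩
      exact ⟨_, by rw [map_inv, hc, aff_inv, inv_one]⟩⟩
    refine key U (fun ⟨x, c, hc⟩ => ⟨1, Subtype.ext (pslInc_injective ?_)⟩) fun β _ h =>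
      inner_of_uni fun c => ?_
    · simpa [hc] using (aff_pow_char r 1 c).2 rfl
    · obtain ⟨x, hx⟩ := exists_pslInc_eq (aff_one_mem_pslIn c)
      rw [← hx, ← conj_eq, comm_conj (h x ⟨c, hx⟩)]
  by_cases e2 : r = 2
  · subst e2
    rw [Nat.card_eq_fintype_card] at hq h8
    have ho : Odd (Fintype.card F) := hn ▸ (pp.odd_of_ne_two (Ne.symm e)).pow
    obtain ⟨P, tor, τ, m, p, a, hP, -, ha, h1, -⟩ := JR.exists_model F ho hq
    have h2 : Odd a := Nat.not_even_iff_odd.1 fun ⟨b, hb⟩ => by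
      obtain ⟨c, hc⟩ := (hP.p_prime.odd_of_ne_two hP.p_ne).pow (n := b)
      have := Nat.even_iff.1 (Nat.even_mul_succ_self c)
      rw [ha, hb, pow_add, hc, show (2 * c + 1) * (2 * c + 1) = 4 * (c * (c + 1)) + 1 by ring] at h8
      omega
    obtain ⟨_, ⟨t, rfl⟩, ot⟩ := H49.exists_orderOf_eq_of_dvd_card
      (H := (MulAut.conj : PSL(2, F) →* _).range) Nat.prime_two
      (by rw [hP.card_L]; exact ⟨τ * m * (τ + m), by ring⟩)
    have t2 := JR.mul_self_of_two ot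
    have t1 := JR.ne_one_of_two ot
    obtain ⟨_, ⟨s, rfl⟩, s2, s1, st, c⟩ := hP.exists_inv_ne (hP.L_le ⟨t, rfl⟩) t2 t1
    have inj : Function.Injective (MulAut.conj : PSL(2, F) →* _) := fun x y e =>
      pslInc_injective (iota_inj (by rwa [← conj_eq, ← conj_eq]))
    refine key (JR.four t s) ((JR.pi_four (orderOf_injective _ inj t ▸ ot) (JR.two_of_mul_self
      (inj (by rwa [map_mul, map_one])) fun e => s1 (by rw [e, map_one]))
      (inj (by rw [map_mul, map_mul, c]))).isPGroup Nat.prime_two) fun β hβ h =>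
      mem_of_four hP ⟨t, rfl⟩ t2 t1 ⟨s, rfl⟩ c (hP.not_mem_tor (hP.L_le ⟨t, rfl⟩) t2 t1 s2 s1 st) ?_
        (mul_inv_eq_iff_eq_mul.1 (comm_conj (h t (JR.left_mem_four t s))))
        (mul_inv_eq_iff_eq_mul.1 (comm_conj (h s (JR.right_mem_four t s)))).symm
    exact zpowers_le.2 (h1 β) (mem_zpowers_pow_iff.2 (((Nat.coprime_two_right.2 h2).pow_right
      k).coprime_dvd_right (orderOf_dvd_of_pow_eq_one hβ)))
  obtain ⟨g, rfl⟩ := mem_range_of_odd p e2 e hd hα R hc hR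
  obtain ⟨g, rfl⟩ := mk_surjective g
  refine mem_of_odd_of_sq_mem (n := r ^ k) (hr.out.odd_of_ne_two e2).pow (hα ▸ one_mem _) ?_
  rw [← map_mul, ← map_mul, ← map_pslIn]
  exact mem_map_of_mem _ (mem_pslIn_iff.2 ⟨_, gdet_mul g g⟩)

end Cfsg.Agent.H60.AutL2
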