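import Mathlib.GroupTheory.Sylow
import Mathlib.Tactic.Group

/-! Failure of factorization for a group all of whose 2-subgroups act quadratically on an elementary abelian
2-group: two elements act on a four-group section as the symmetric group of degree three. -/

set_option autoImplicit false

namespace Cfsg.Agent.H60

open Subgroup
open scoped Pointwise

section
variable {H W : Type*} [Group H] [CommGroup W] [MulDistribMulAction H W]

/-- fixed points of a subgroup -/
def fixSub (W : Type*) [CommGroup W] [MulDistribMulAction H W] (K : Subgroup H) : Subgroup W where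
  carrier := {w | ∀ k ∈ K, k • w = w}
  one_mem' := fun k _ => smul_one k
  mul_mem' := fun {a b} ha hb k hk => by rw [smul_mul', ha k hk, hb k hk]
  inv_mem' := fun {a} ha k hk => by rw [smul_inv', ha k hk]

theorem mem_fixSub {K : Subgroup H} {w : W} : w ∈ fixSub W K ↔ ∀ k ∈ K, k • w = w := Iff.rfl

/-- elements fixing `Z` pointwise and moving `w` inside its coset modulo `Z` -/
def stabCoset (H : Type*) [Group H] [MulDistribMulAction H W] (Z : Subgroup W) (w : W) : Subgroup H where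
  carrier := {h | (∀ z ∈ Z, h • z = z) ∧ h • w * w⁻¹ ∈ Z}
  one_mem' := ⟨fun z _ => one_smul _ z, by simp⟩
  mul_mem' := fun {a b} ha hb => ⟨fun z hz => by rw [mul_smul, hb.1 z hz, ha.1 z hz], by
    have h1 : (a * b) • w * w⁻¹ = (a • w * w⁻¹) * (b • w * w⁻¹) := by
      rw [← ha.1 _ hb.2, mul_smul, smul_mul', smul_inv', mul_comm (a • w * w⁻¹)]
      group
    rw [h1]; exact Z.mul_mem ha.2 hb.2⟩
  inv_mem' := fun {a} ha => by
    have h0 : ∀ z ∈ Z, a⁻¹ • z = z := fun z hz => by
      rw [inv_smul_eq_iff, ha.1 z hz]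
    refine ⟨h0, ?_⟩
    have h1 : a⁻¹ • w * w⁻¹ = (a • w * w⁻¹)⁻¹ := by
      rw [← h0 _ (Z.inv_mem ha.2), smul_inv', smul_mul', smul_inv', inv_smul_smul, mul_inv_rev, inv_inv]
    rw [h1]; exact Z.inv_mem ha.2

theorem mem_stabCoset {Z : Subgroup W} {w : W} {h : H} :
    h ∈ stabCoset H Z w ↔ (∀ z ∈ Z, h • z = z) ∧ h • w * w⁻¹ ∈ Z := Iff.rfl

theorem commute_of_quadratic (hfaith : ∀ h : H, (∀ w : W, h • w = w) → h = 1) {s t : H}
    (h1 : ∀ w : W, s • (t • w * w⁻¹) = t • w * w⁻¹) (h2 : ∀ w : W, t • (s • w * w⁻¹) = s • w * w⁻¹) :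
    s * t = t * s := by
  have key : ∀ w : W, (s * t) • w = (t * s) • w := by
    intro w
    have e1 := h1 w
    have e2 := h2 w
    rw [smul_mul', smul_inv', mul_inv_eq_iff_eq_mul] at e1 e2
    rw [mul_smul, mul_smul, e1, e2]
    simp only [mul_comm, mul_left_comm, mul_assoc]
  have := hfaith ((t * s)⁻¹ * (s * t)) (fun w => by rw [mul_smul, key, inv_smul_smul])
  exact (inv_mul_eq_one.mp this).symm

end

theorem quadratic_ff {H W : Type*} [Group H] [Finite H] [CommGroup W] [Finite W] [MulDistribMulAction H W]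
    (hfaith : ∀ h : H, (∀ w : W, h • w = w) → h = 1) (hexp : ∀ w : W, w * w = 1)
    (hq : ∀ P : Subgroup H, IsPGroup 2 P → ∀ s ∈ P, ∀ t ∈ P, ∀ w : W, s • (t • w * w⁻¹) = t • w * w⁻¹)
    (A : Subgroup H) (hA : IsPGroup 2 A)
    (hnot : ¬ ∃ D : Subgroup H, IsPGroup 2 D ∧ A ≤ D ∧ D.Normal)
    (hbest : ∀ A₀ ≤ A, Nat.card A₀ * Nat.card (fixSub W A₀) ≤ Nat.card A * Nat.card (fixSub W A)) :
    ∃ (Z : Subgroup W) (a b : H) (u w : W), (∀ z ∈ Z, a • z = z) ∧ (∀ z ∈ Z, b • z = z) ∧
      a • u = u ∧ b • w = w ∧ b • u = u * w ∧ (∃ z ∈ Z, a • w = u * w * z) ∧ u ∉ Z ∧ w ∉ Z ∧ u * w ∉ Z := by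
  classical
  have hF : Fact (Nat.Prime 2) := ⟨Nat.prime_two⟩
  have hcomm : ∀ P : Subgroup H, IsPGroup 2 P → ∀ s ∈ P, ∀ t ∈ P, s * t = t * s := fun P hP s hs t ht =>
    commute_of_quadratic hfaith (hq P hP s hs t ht) (hq P hP t ht s hs)
  have hsq : ∀ a ∈ A, a * a = 1 := by
    intro a ha
    apply hfaith
    intro w
    have e1 := hq A hA a ha a ha w
    rw [smul_mul', smul_inv', mul_inv_eq_iff_eq_mul] at e1
    rw [mul_smul, e1, mul_comm (a • w), mul_assoc, hexp, mul_one]
    exact inv_eq_of_mul_eq_one_right (hexp w)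
  -- minimal bad overgroup
  let Good : Subgroup H → Subgroup H → Prop := fun B M =>
    ∃ D : Subgroup H, IsPGroup 2 D ∧ B ≤ D ∧ M ≤ normalizer (D : Set H)
  have hex : ∃ L : Subgroup H, A ≤ L ∧ ¬ Good A L := by
    refine ⟨⊤, le_top, ?_⟩
    rintro ⟨D, h1, h2, h3⟩
    exact hnot ⟨D, h1, h2, normalizer_eq_top_iff.mp (top_le_iff.mp h3)⟩
  obtain ⟨L, ⟨hAL, hL⟩, hmin⟩ := (wellFounded_lt (α := Subgroup H)).has_min {L | A ≤ L ∧ ¬ Good A L} hex
  have hgood : ∀ M : Subgroup H, A ≤ M → M < L → Good A M := fun M h1 h2 => by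
    by_contra h
    exact hmin M ⟨h1, h⟩ h2
  -- a conjugate not commuting with A
  have hx : ∃ x ∈ L, ∃ a ∈ A, ∃ a' ∈ A, a * (x * a' * x⁻¹) ≠ (x * a' * x⁻¹) * a := by
    by_contra hc
    push Not at hc
    apply hL
    let T : Set H := {y | ∃ x ∈ L, ∃ a ∈ A, y = x * a * x⁻¹}
    have hT : ∀ y ∈ T, ∀ y' ∈ T, y * y' = y' * y := by
      rintro _ ⟨x, hx, a, ha, rfl⟩ _ ⟨x', hx', a', ha', rfl⟩
      have := hc (x⁻¹ * x') (L.mul_mem (L.inv_mem hx) hx') a ha a' ha'
      calc x * a * x⁻¹ * (x' * a' * x'⁻¹) = x * (a * (x⁻¹ * x' * a' * (x⁻¹ * x')⁻¹)) * x⁻¹ := by group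
        _ = x * ((x⁻¹ * x' * a' * (x⁻¹ * x')⁻¹) * a) * x⁻¹ := by rw [this]
        _ = x' * a' * x'⁻¹ * (x * a * x⁻¹) := by group
    have hTc : ∀ y ∈ closure T, ∀ y' ∈ closure T, y * y' = y' * y := by
      intro y hy y' hy'
      have h1 : closure T ≤ centralizer (closure T : Set H) := by
        rw [centralizer_closure, closure_le]
        intro y hy
        exact mem_centralizer_iff.mpr fun y' hy' => hT y' hy' y hy
      exact mem_centralizer_iff.mp (h1 hy') y hy
    refine ⟨closure T, ?_, fun a ha => subset_closure ⟨1, L.one_mem, a, ha, by group⟩, ?_⟩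
    · rintro ⟨y, hy⟩
      refine ⟨1, Subtype.ext ?_⟩
      change y ^ (2 ^ 1) = 1
      rw [pow_one, pow_two]
      induction hy using closure_induction with
      | mem y hy =>
        obtain ⟨x, _, a, ha, rfl⟩ := hy
        calc x * a * x⁻¹ * (x * a * x⁻¹) = x * (a * a) * x⁻¹ := by group
          _ = 1 := by rw [hsq a ha]; group
      | one => simp
      | mul y y' hy hy' e1 e2 =>
        calc y * y' * (y * y') = y * (y' * y) * y' := by group
          _ = y * (y * y') * y' := by rw [hTc y hy y' hy']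
          _ = (y * y) * (y' * y') := by group
          _ = 1 := by rw [e1, e2, one_mul]
      | inv y hy e => rw [← mul_inv_rev, e, inv_one]
    · intro l hl
      refine mem_normalizer_fintype ?_
      intro y hy
      induction hy using closure_induction with
      | mem y hy =>
        obtain ⟨x, hx, a, ha, rfl⟩ := hy
        exact subset_closure ⟨l * x, L.mul_mem hl hx, a, ha, by group⟩
      | one => simp
      | mul y y' _ _ e1 e2 =>
        rw [show l * (y * y') * l⁻¹ = (l * y * l⁻¹) * (l * y' * l⁻¹) by group]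
        exact mul_mem e1 e2
      | inv y _ e =>
        rw [show l * y⁻¹ * l⁻¹ = (l * y * l⁻¹)⁻¹ by group]
        exact inv_mem e
  obtain ⟨x, hxL, a₀, ha₀, a₁, ha₁, hnc⟩ := hx
  let B : Subgroup H := A.map (MulAut.conj x).toMonoidHom
  have hmemB : ∀ b, b ∈ B ↔ x⁻¹ * b * x ∈ A := by
    intro b
    constructor
    · rintro ⟨a, ha, rfl⟩
      simpa [mul_assoc] using ha
    · intro hb
      exact ⟨_, hb, by simp [mul_assoc]⟩
  have hB : IsPGroup 2 B := hA.map _
  have hBL : B ≤ L := fun b hb => by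
    have := L.mul_mem (L.mul_mem hxL (hAL ((hmemB b).mp hb))) (L.inv_mem hxL)
    simpa [mul_assoc] using this
  have hgoodB : ∀ M : Subgroup H, B ≤ M → M < L → Good B M := by
    intro M h1 h2
    let M' := M.comap (MulAut.conj x).toMonoidHom
    have hM' : ∀ m, m ∈ M' ↔ x * m * x⁻¹ ∈ M := fun m => Iff.rfl
    obtain ⟨D, hD, hAD, hMD⟩ := hgood M' (fun a ha => h1 ⟨a, ha, rfl⟩) (by
      refine lt_of_le_of_ne (fun m hm => ?_) (fun h => h2.ne ?_)
      · have := L.mul_mem (L.mul_mem (L.inv_mem hxL) (h2.le ((hM' m).mp hm))) hxL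
        simpa [mul_assoc] using this
      · refine le_antisymm h2.le fun l hl => ?_
        have : x⁻¹ * l * x ∈ M' := h ▸ L.mul_mem (L.mul_mem (L.inv_mem hxL) hl) hxL
        rw [hM'] at this
        simpa [mul_assoc] using this)
    refine ⟨D.map (MulAut.conj x).toMonoidHom, hD.map _, map_mono hAD, fun m hm => ?_⟩
    refine mem_normalizer_fintype ?_
    rintro _ ⟨d, hd, rfl⟩
    have h3 : x⁻¹ * m * x ∈ M' := by rw [hM']; simpa [mul_assoc] using hm
    exact ⟨_, (mem_normalizer_iff.mp (hMD h3) d).mp hd, by simp [mul_assoc]⟩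
  -- the dichotomy
  have hdich : ∀ (C : Subgroup H), C ≤ L → (∀ M : Subgroup H, C ≤ M → M < L → Good C M) → ∀ a ∈ L, a * a = 1 →
      (∀ c ∈ C, a * c = c * a) ∨ ∀ K : Subgroup H, a ∈ K → C ≤ K → L ≤ K := by
    intro C hCL hC a haL ha2
    by_cases h : zpowers a ⊔ C = L
    · right
      intro K h1 h2
      rw [← h]; exact sup_le ((zpowers_le).mpr h1) h2
    · left
      obtain ⟨D, hD, hCD, hMD⟩ := hC (zpowers a ⊔ C) le_sup_right
        (lt_of_le_of_ne (sup_le ((zpowers_le).mpr haL) hCL) h)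
      have hz : IsPGroup 2 (zpowers a) := by
        rintro ⟨_, k, rfl⟩
        refine ⟨1, Subtype.ext ?_⟩
        change (a ^ k) ^ (2 ^ 1) = 1
        rw [pow_one, ← zpow_natCast, ← zpow_mul, mul_comm, zpow_mul, zpow_natCast, pow_two, ha2, one_zpow]
      have h2 := IsPGroup.to_sup_of_normal_right' hz hD (le_sup_left.trans hMD)
      intro c hc
      exact hcomm _ h2 a (mem_sup_left (mem_zpowers a)) c (mem_sup_right (hCD hc))
  have hsqB : ∀ b ∈ B, b * b = 1 := by
    rintro _ ⟨a, ha, rfl⟩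
    rw [← map_mul, hsq a ha, map_one]
  have hb₁ : x * a₁ * x⁻¹ ∈ B := ⟨a₁, ha₁, rfl⟩
  have hgenAB : ∀ K : Subgroup H, A ≤ K → B ≤ K → L ≤ K := by
    intro K h1 h2
    rcases hdich B hBL hgoodB a₀ (hAL ha₀) (hsq a₀ ha₀) with h | h
    · exact absurd (h _ hb₁) hnc
    · exact h K (h1 ha₀) h2
  set A₀ : Subgroup H := A ⊓ centralizer (L : Set H) with hA₀
  have hA₀B : A₀ ≤ B := by
    intro a ha
    rw [hmemB]
    have := mem_centralizer_iff.mp ha.2 x hxL
    rw [mul_assoc, ← this, inv_mul_cancel_left]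
    exact ha.1
  have hdichA : ∀ a ∈ A, a ∉ A₀ → ∀ K : Subgroup H, a ∈ K → B ≤ K → L ≤ K := by
    intro a ha hna
    rcases hdich B hBL hgoodB a (hAL ha) (hsq a ha) with h | h
    · exfalso
      apply hna
      refine ⟨ha, ?_⟩
      have : L ≤ centralizer {a} := hgenAB _
        (fun c hc => mem_centralizer_singleton_iff.mpr (hcomm A hA c hc a ha))
        (fun c hc => mem_centralizer_singleton_iff.mpr (h c hc).symm)
      exact mem_centralizer_iff.mpr fun l hl => mem_centralizer_singleton_iff.mp (this hl)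
    · exact h
  set U := fixSub W A with hU
  set U' := fixSub W B with hU'
  set Z := U ⊓ U' with hZ
  have hxU : ∀ w : W, x • w ∈ U' ↔ w ∈ U := by
    intro w
    constructor
    · intro h a ha
      have := h _ ⟨a, ha, rfl⟩
      change (x * a * x⁻¹) • x • w = x • w at this
      rw [← mul_smul, inv_mul_cancel_right, mul_smul] at this
      exact smul_left_cancel x this
    · rintro h _ ⟨a, ha, rfl⟩
      change (x * a * x⁻¹) • x • w = x • w
      rw [← mul_smul, inv_mul_cancel_right, mul_smul, h a ha]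
  have hcardU : Nat.card U = Nat.card U' :=
    Nat.card_congr (Equiv.subtypeEquiv (MulAction.toPerm x) fun w => (hxU w).symm)
  have hZA : ∀ a ∈ A, ∀ z ∈ Z, a • z = z := fun a ha z hz => hz.1 a ha
  have hZB : ∀ b ∈ B, ∀ z ∈ Z, b • z = z := fun b hb z hz => hz.2 b hb
  have hUU' : ¬ U ≤ U' := by
    intro h
    have heq : U = U' := eq_of_le_of_card_ge h hcardU.ge
    apply hnc
    refine commute_of_quadratic hfaith (fun w => ?_) (fun w => ?_)
    · have : (x * a₁ * x⁻¹) • w * w⁻¹ ∈ U' := fun s hs => hq B hB s hs _ hb₁ w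
      rw [← heq] at this
      exact this a₀ ha₀
    · have : a₀ • w * w⁻¹ ∈ U := fun s hs => hq A hA s hs _ ha₀ w
      rw [heq] at this
      exact this _ hb₁
  obtain ⟨u, huU, huU'⟩ := SetLike.not_le_iff_exists.mp hUU'
  -- the chosen element of B
  set b := x * a₁ * x⁻¹ with hb
  have hbgen : ∀ K : Subgroup H, b ∈ K → A ≤ K → L ≤ K := by
    rcases hdich A hAL hgood b (hBL hb₁) (hsqB b hb₁) with h | h
    · exact absurd (h a₀ ha₀).symm hnc
    · exact h
  set w := b • u * u⁻¹ with hw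
  have hwU' : w ∈ U' := fun s hs => hq B hB s hs _ hb₁ u
  have hwZ : w ∉ Z := by
    intro h
    have h1 : L ≤ stabCoset H Z u := hbgen _ ⟨hZB b hb₁, h⟩ (fun a ha => ⟨hZA a ha, by
      rw [huU a ha, mul_inv_cancel]; exact Z.one_mem⟩)
    have h2 := (h1 hxL).2
    have h3 : x • u ∈ U' := (hxU u).mpr huU
    apply huU'
    have := U'.mul_mem (U'.inv_mem h2.2) h3
    simpa using this
  have hwU : w ∉ U := fun h => hwZ ⟨h, hwU'⟩
  -- counting
  let f : A →* W ⧸ Z :=
    { toFun := fun a => QuotientGroup.mk ((a : H) • w * w⁻¹)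
      map_one' := by simp
      map_mul' := fun s t => by
        rw [← QuotientGroup.mk_mul]
        congr 1
        have e1 := hq A hA s s.2 t t.2 w
        rw [← e1, coe_mul, mul_smul, smul_mul' (s : H) ((t : H) • w), smul_inv', mul_comm ((s : H) • w * w⁻¹)]
        simp only [mul_assoc, inv_mul_cancel_left] }
  have hf : ∀ a : A, f a = QuotientGroup.mk ((a : H) • w * w⁻¹) := fun a => rfl
  have hker : f.ker = A₀.subgroupOf A := by
    ext a
    rw [MonoidHom.mem_ker, hf, QuotientGroup.eq_one_iff, mem_subgroupOf]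
    constructor
    · intro h
      by_contra hna
      have h1 : L ≤ stabCoset H Z w := hdichA a a.2 hna _ ⟨hZA a a.2, h⟩ (fun c hc => ⟨hZB c hc, by
        rw [hwU' c hc, mul_inv_cancel]; exact Z.one_mem⟩)
      have h2 := (h1 (L.inv_mem hxL)).2
      have h3 : x⁻¹ • w ∈ U := by rw [← hxU, smul_inv_smul]; exact hwU'
      apply hwU
      have := U.mul_mem (U.inv_mem h2.1) h3
      simpa using this
    · intro h
      rw [hwU' _ (hA₀B h), mul_inv_cancel]; exact Z.one_mem
  have hrange : f.range ≤ U.map (QuotientGroup.mk' Z) := by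
    rintro _ ⟨a, rfl⟩
    exact ⟨_, fun s hs => hq A hA s hs a a.2 w, rfl⟩
  have hc1 : Nat.card A₀ * Nat.card f.range = Nat.card A := by
    rw [← index_ker, hker, ← card_mul_index (A₀.subgroupOf A)]
    congr 1
    exact (Nat.card_congr (subgroupOfEquivOfLe inf_le_left).toEquiv).symm
  have hc2 : Nat.card (U.map (QuotientGroup.mk' Z)) * Nat.card U' = Nat.card ↥(U ⊔ U') := by
    have e1 : Nat.card (U.map (QuotientGroup.mk' Z)) = Z.relIndex U := by
      rw [← relIndex_ker, QuotientGroup.ker_mk']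
    rw [e1, hZ, inf_comm, inf_relIndex_right, ← relIndex_sup_right U U', mul_comm]
    rw [← card_mul_index (U'.subgroupOf (U ⊔ U'))]
    congr 1
    exact (Nat.card_congr (subgroupOfEquivOfLe le_sup_right).toEquiv).symm
  have hc3 : Nat.card ↥(U ⊔ U') ≤ Nat.card (fixSub W A₀) := by
    refine card_le_of_le (sup_le ?_ ?_)
    · exact fun v hv a ha => hv a ha.1
    · exact fun v hv a ha => hv a (hA₀B ha)
  have hc4 := hbest A₀ inf_le_left
  have hc5 : Nat.card (U.map (QuotientGroup.mk' Z)) ≤ Nat.card f.range := by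
    have p1 : 0 < Nat.card A₀ := Nat.card_pos
    have p2 : 0 < Nat.card U := Nat.card_pos
    have : Nat.card A₀ * Nat.card U * Nat.card (U.map (QuotientGroup.mk' Z)) ≤
        Nat.card A₀ * Nat.card U * Nat.card f.range := by
      calc Nat.card A₀ * Nat.card U * Nat.card (U.map (QuotientGroup.mk' Z))
          = Nat.card A₀ * (Nat.card (U.map (QuotientGroup.mk' Z)) * Nat.card U') := by
            rw [← hcardU]; ring
        _ ≤ Nat.card A₀ * Nat.card (fixSub W A₀) := by rw [hc2]; exact Nat.mul_le_mul_left _ hc3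
        _ ≤ Nat.card A * Nat.card U := hc4
        _ = Nat.card A₀ * Nat.card U * Nat.card f.range := by rw [← hc1]; ring
    exact Nat.le_of_mul_le_mul_left this (Nat.mul_pos p1 p2)
  have heq := eq_of_le_of_card_ge hrange hc5
  have hu' : QuotientGroup.mk' Z u ∈ f.range := heq ▸ mem_map_of_mem _ huU
  obtain ⟨a, ha⟩ := hu'
  rw [hf, QuotientGroup.mk'_apply, eq_comm, QuotientGroup.eq] at ha
  refine ⟨Z, a, b, u, w, hZA a a.2, hZB b hb₁, huU a a.2, hwU' b hb₁, ?_, ⟨_, ha, ?_⟩,
    fun h => huU' h.2, hwZ, fun h => huU' ?_⟩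
  · rw [hw, mul_comm u, inv_mul_cancel_right]
  · rw [mul_comm u w, mul_assoc, mul_inv_cancel_left, mul_comm ((a : H) • w), mul_inv_cancel_left]
  · have := U'.mul_mem h.2 (U'.inv_mem hwU')
    simpa using this

end Cfsg.Agent.H60
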