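import Cfsg.Agent.H60.S4
import Cfsg.Agent.H60.QuadFF
import Cfsg.Agent.H21.Offender
import Cfsg.Agent.H21.Factor
import Cfsg.Agent.H22.PConstrained

/-! In an `S₄`-free group of characteristic two whose Sylow 2-subgroups have class at most two, the Thompson
subgroup of a Sylow 2-subgroup lies in the 2-core. -/

set_option autoImplicit false

namespace Cfsg.Agent.H60

open Subgroup
open scoped Pointwise commutatorElement

theorem involves_perm_four_mod {G : Type*} [Group G] [Finite G] (Z : Subgroup G) (u w a b : G)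
    (hu : u * u = 1) (hw : w * w = 1) (huw : u * w = w * u)
    (huZ : ∀ z ∈ Z, u * z = z * u) (hwZ : ∀ z ∈ Z, w * z = z * w)
    (haZ : ∀ z ∈ Z, a * z = z * a) (hbZ : ∀ z ∈ Z, b * z = z * b)
    (hu1 : u ∉ Z) (hw1 : w ∉ Z) (hne : u * w ∉ Z)
    (hau : a * u * a⁻¹ = u) (haw : ∃ z ∈ Z, a * w * a⁻¹ = u * w * z) (hbw : b * w * b⁻¹ = w)
    (hbu : b * u * b⁻¹ = u * w) :
    Cfsg.Involves (Equiv.Perm (Fin 4)) G := by
  have hN : ∀ g : G, (∀ z ∈ Z, g * z = z * g) → g ∈ normalizer (Z : Set G) := fun g hg =>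
    centralizer_le_normalizer _ (mem_centralizer_iff.mpr fun z hz => (hg z hz).symm)
  set N := normalizer (Z : Set G) with hNdef
  apply involves_of_subgroup N
  let π := QuotientGroup.mk' (Z.subgroupOf N)
  apply involves_of_surjective π (QuotientGroup.mk'_surjective _)
  have hπ : ∀ x : N, π x = 1 ↔ (x : G) ∈ Z := fun x => QuotientGroup.eq_one_iff x
  let u' : N := ⟨u, hN u huZ⟩
  let w' : N := ⟨w, hN w hwZ⟩
  let a' : N := ⟨a, hN a haZ⟩
  let b' : N := ⟨b, hN b hbZ⟩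
  have e1 : u' * u' = 1 := Subtype.ext hu
  have e2 : w' * w' = 1 := Subtype.ext hw
  have e3 : u' * w' = w' * u' := Subtype.ext huw
  have e4 : a' * u' * a'⁻¹ = u' := Subtype.ext hau
  have e5 : b' * w' * b'⁻¹ = w' := Subtype.ext hbw
  have e6 : b' * u' * b'⁻¹ = u' * w' := Subtype.ext hbu
  obtain ⟨z, hz, hz'⟩ := haw
  have e7 : a' * w' * a'⁻¹ = u' * w' * ⟨z, le_normalizer hz⟩ := Subtype.ext hz'
  refine involves_perm_four (π u') (π w') (π a') (π b') ?_ ?_ ?_ ?_ ?_ ?_ ?_ ?_ ?_ ?_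
  · rw [← map_mul, e1, map_one]
  · rw [← map_mul, e2, map_one]
  · rw [← map_mul, e3, map_mul]
  · exact fun h => hu1 ((hπ _).mp h)
  · exact fun h => hw1 ((hπ _).mp h)
  · intro h
    apply hne
    apply (hπ (u' * w')).mp
    rw [map_mul, h, ← map_mul, e2, map_one]
  · rw [← map_inv, ← map_mul, ← map_mul, e4]
  · rw [← map_inv, ← map_mul, ← map_mul, e7, map_mul, map_mul, (hπ ⟨z, _⟩).mpr hz, mul_one]
  · rw [← map_inv, ← map_mul, ← map_mul, e5]
  · rw [← map_inv, ← map_mul, ← map_mul, e6, map_mul]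

theorem class_two_of_sylow {G : Type*} [Group G] [Finite G] {p : ℕ} [Fact p.Prime] (S : Sylow p G)
    (hcl : Subgroup.lowerCentralSeries (S : Subgroup G) 2 = ⊥) (P : Subgroup G) (hP : IsPGroup p P)
    {x y z : G} (hx : x ∈ P) (hy : y ∈ P) (hz : z ∈ P) : ⁅x, y⁆ * z = z * ⁅x, y⁆ := by
  obtain ⟨T, hT⟩ := hP.exists_le_sylow
  obtain ⟨g, rfl⟩ := MulAction.exists_smul_eq G S T
  have h1 : Subgroup.lowerCentralSeries ((g • S : Sylow p G) : Subgroup G) 2 = ⊥ := by
    have : ((g • S : Sylow p G) : Subgroup G) = (S : Subgroup G).map (MulAut.conj g).toMonoidHom := rfl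
    rw [this, ← map_lowerCentralSeries, hcl, Subgroup.map_bot]
  have h2 : ⁅⁅x, y⁆, z⁆ ∈ Subgroup.lowerCentralSeries ((g • S : Sylow p G) : Subgroup G) 2 :=
    commutator_mem_commutator (commutator_mem_commutator (hT hx) (hT hy)) (hT hz)
  rw [h1, mem_bot, commutatorElement_eq_one_iff_mul_comm] at h2
  exact h2

/-- offenders on a normal elementary abelian subgroup act as part of a normal 2-subgroup -/
theorem exists_normal_of_bestOffender {G : Type*} [Group G] [Finite G]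
    (hS4 : ¬ Cfsg.Involves (Equiv.Perm (Fin 4)) G)
    (hcl : ∀ P : Subgroup G, IsPGroup 2 P → ∀ x ∈ P, ∀ y ∈ P, ∀ z ∈ P, ⁅x, y⁆ * z = z * ⁅x, y⁆)
    (W : Subgroup G) [W.Normal] (hW : IsElementaryAbelian 2 W) (A : Subgroup G) (hA : IsPGroup 2 A)
    (hbest : ∀ B ≤ A, Nat.card B * Nat.card ↥(W ⊓ centralizer (B : Set G)) ≤
      Nat.card A * Nat.card ↥(W ⊓ centralizer (A : Set G))) :
    ∃ R : Subgroup G, R.Normal ∧ A ≤ R ∧ ∀ r ∈ R, ∃ k : ℕ, r ^ (2 ^ k) ∈ centralizer (W : Set G) := by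
  classical
  have hF : Fact (Nat.Prime 2) := ⟨Nat.prime_two⟩
  have hWc := hW.1
  have hW2 : IsPGroup 2 W := H21.IsElementaryAbelian.isPGroup hW
  let _ : CommGroup W := { (inferInstance : Group W) with mul_comm := fun a b => hWc.is_comm.comm a b }
  let φ : G →* MulAut W := MulAut.conjNormal
  let H := φ.range
  let ψ : G →* H := φ.rangeRestrict
  have hψ : Function.Surjective ψ := φ.rangeRestrict_surjective
  let _ : MulDistribMulAction H W :=
    { smul := fun h w => (h : MulAut W) w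
      one_smul := fun w => rfl
      mul_smul := fun a b w => rfl
      smul_mul := fun h a b => map_mul (h : MulAut W) a b
      smul_one := fun h => map_one (h : MulAut W) }
  have hsm : ∀ (g : G) (w : W), ((ψ g • w : W) : G) = g * w * g⁻¹ := fun g w => rfl
  have hker : ∀ g : G, ψ g = 1 ↔ g ∈ centralizer (W : Set G) := by
    intro g
    rw [mem_centralizer_iff]
    constructor
    · intro h w hw
      have := hsm g ⟨w, hw⟩
      rw [h, one_smul] at this
      exact eq_mul_inv_iff_mul_eq.mp this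
    · intro h
      apply Subtype.ext
      ext w
      change g * w * g⁻¹ = w
      rw [← h w w.2, mul_inv_cancel_right]
  by_contra hcon
  have hfix : ∀ B : Subgroup G, Nat.card (fixSub W (B.map ψ)) = Nat.card ↥(W ⊓ centralizer (B : Set G)) := by
    intro B
    rw [← Nat.card_congr (subgroupOfEquivOfLe (inf_le_left : W ⊓ centralizer (B : Set G) ≤ W)).toEquiv]
    congr 2
    ext w
    rw [mem_fixSub, mem_subgroupOf, mem_inf, mem_centralizer_iff]
    constructor
    · intro h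
      refine ⟨w.2, fun b hb => ?_⟩
      have := congrArg Subtype.val (h _ ⟨b, hb, rfl⟩)
      rw [hsm] at this
      exact mul_inv_eq_iff_eq_mul.mp this
    · rintro ⟨_, h⟩ _ ⟨b, hb, rfl⟩
      apply Subtype.ext
      rw [hsm, h b hb, mul_inv_cancel_right]
  obtain ⟨Z, a, b, u, w, h1, h2, h3, h4, h5, ⟨z, hz, h6⟩, h7, h8, h9⟩ := quadratic_ff (H := H) (W := W)
    (fun h hh => Subtype.ext (MulEquiv.ext hh)) (fun w => Subtype.ext (by
      have := hW.2 w w.2
      rwa [pow_two] at this))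
    (fun P hP s hs t ht w => by
      obtain ⟨P₀, -, hP₀, rfl⟩ := H22.exists_isPGroup_map_eq ψ (H := ⊤) hP
        (by rw [← MonoidHom.range_eq_map, MonoidHom.range_eq_top.mpr hψ]; exact le_top)
      obtain ⟨s, hs, rfl⟩ := hs
      obtain ⟨t, ht, rfl⟩ := ht
      apply Subtype.ext
      rw [hsm, mul_inv_eq_iff_eq_mul]
      have := hcl _ (IsPGroup.to_sup_of_normal_right hP₀ hW2) t (mem_sup_left ht) w (mem_sup_right w.2)
        s (mem_sup_left hs)
      exact this.symm)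
    (A.map ψ) (hA.map ψ)
    (by
      rintro ⟨D, hD, hAD, hDn⟩
      refine hcon ⟨D.comap ψ, inferInstance, map_le_iff_le_comap.mp hAD, fun r hr => ?_⟩
      obtain ⟨k, hk⟩ := hD ⟨ψ r, hr⟩
      refine ⟨k, (hker _).mp ?_⟩
      rw [map_pow]
      exact congrArg Subtype.val hk)
    (by
      intro A₀ hA₀
      have e1 : (A ⊓ A₀.comap ψ).map ψ = A₀ := by
        refine le_antisymm (map_le_iff_le_comap.mpr inf_le_right) fun y hy => ?_
        obtain ⟨x, hx, rfl⟩ := hA₀ hy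
        exact ⟨x, ⟨hx, hy⟩, rfl⟩
      have e2 : ∀ B : Subgroup G, A ⊓ ψ.ker ≤ B → B ≤ A →
          Nat.card ↥(A ⊓ ψ.ker) * Nat.card (B.map ψ) = Nat.card B := by
        intro B hB1 hB2
        rw [← relIndex_ker, ← H21.card_inf_mul_relIndex ψ.ker B]
        congr 3
        exact le_antisymm (le_inf inf_le_right hB1) (le_inf (inf_le_right.trans hB2) inf_le_left)
      have e3 := hbest (A ⊓ A₀.comap ψ) inf_le_left
      rw [← e2 A inf_le_left le_rfl, ← e2 (A ⊓ A₀.comap ψ) (inf_le_inf_left _ (ker_le_comap _ _)) inf_le_left,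
        ← hfix, ← hfix, e1, mul_assoc, mul_assoc] at e3
      exact Nat.le_of_mul_le_mul_left e3 Nat.card_pos)
  obtain ⟨a, rfl⟩ := hψ a
  obtain ⟨b, rfl⟩ := hψ b
  apply hS4
  have hmem : ∀ v : W, (v : G) ∈ Z.map W.subtype ↔ v ∈ Z := fun v => mem_map_iff_mem W.subtype_injective
  refine involves_perm_four_mod (Z.map W.subtype) u w a b ?_ ?_ ?_ ?_ ?_ ?_ ?_ ?_ ?_ ?_ ?_ ?_ ?_ ?_
  · rw [← pow_two]; exact hW.2 _ u.2
  · rw [← pow_two]; exact hW.2 _ w.2
  · exact H21.mul_comm_of_mem u.2 w.2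
  · rintro _ ⟨z, -, rfl⟩; exact H21.mul_comm_of_mem u.2 z.2
  · rintro _ ⟨z, -, rfl⟩; exact H21.mul_comm_of_mem w.2 z.2
  · rintro _ ⟨z, hz, rfl⟩
    exact mul_inv_eq_iff_eq_mul.mp (congrArg Subtype.val (h1 z hz))
  · rintro _ ⟨z, hz, rfl⟩
    exact mul_inv_eq_iff_eq_mul.mp (congrArg Subtype.val (h2 z hz))
  · rw [hmem]; exact h7
  · rw [hmem]; exact h8
  · exact fun h => h9 ((hmem _).mp h)
  · exact congrArg Subtype.val h3
  · exact ⟨z, (hmem z).mpr hz, congrArg Subtype.val h6⟩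
  · exact congrArg Subtype.val h4
  · exact congrArg Subtype.val h5

theorem thompson_le_pCore_of_class_two {G : Type*} [Group G] [Finite G]
    (hchar : centralizer (pCore 2 G : Set G) ≤ pCore 2 G)
    (hS4 : ¬ Cfsg.Involves (Equiv.Perm (Fin 4)) G) (S : Sylow 2 G)
    (hcl : Subgroup.lowerCentralSeries (S : Subgroup G) 2 = ⊥) :
    thompsonSubgroupOf 2 (S : Subgroup G) ≤ pCore 2 G := by
  have hF : Fact (Nat.Prime 2) := ⟨Nat.prime_two⟩
  rw [H21.thompsonSubgroupOf_le_iff]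
  intro A hA
  have hcl' : ∀ P : Subgroup G, IsPGroup 2 P → ∀ x ∈ P, ∀ y ∈ P, ∀ z ∈ P, ⁅x, y⁆ * z = z * ⁅x, y⁆ :=
    fun P hP x hx y hy z hz => class_two_of_sylow S hcl P hP hx hy hz
  set Q := pCore 2 G with hQ
  have hQ2 : IsPGroup 2 Q := H22.isPGroup_pCore
  have hQS : Q ≤ S := H22.pCore_le_sylow S
  set W := omegaOne 2 (Q ⊓ centralizer (Q : Set G)) with hWdef
  have hWn : W.Normal := by
    rw [← normalizer_eq_top_iff, eq_top_iff]
    refine le_trans ?_ (H21.normalizer_le_normalizer_omegaOne 2 _)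
    exact (normalizer_eq_top _).ge
  have hW : IsElementaryAbelian 2 W := H21.isElementaryAbelian_omegaOne 2 _
  have hWQ : W ≤ Q ⊓ centralizer (Q : Set G) := H21.omegaOne_le _ _
  have hbest := H21.isBestOffenderOn_of_mem_maxEAOf hA ((hWQ.trans inf_le_left).trans hQS) hW
  obtain ⟨R, hRn, hAR, hR⟩ := exists_normal_of_bestOffender hS4 hcl' W hW A
    (H21.IsElementaryAbelian.isPGroup hA.2.1) hbest.1
  -- the elements acting trivially on Q/W
  let N : Subgroup G := (centralizer ((Q.map (QuotientGroup.mk' W) : Subgroup (G ⧸ W)) : Set (G ⧸ W))).comap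
    (QuotientGroup.mk' W)
  have hmemN : ∀ g, g ∈ N ↔ ∀ q ∈ Q, ⁅g, q⁆ ∈ W := by
    intro g
    rw [mem_comap, mem_centralizer_iff]
    constructor
    · intro h q hq
      rw [← QuotientGroup.eq_one_iff, ← QuotientGroup.mk'_apply, map_commutatorElement,
        commutatorElement_eq_one_iff_mul_comm]
      exact (h _ ⟨q, hq, rfl⟩).symm
    · rintro h _ ⟨q, hq, rfl⟩
      have := h q hq
      rw [← QuotientGroup.eq_one_iff, ← QuotientGroup.mk'_apply, map_commutatorElement,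
        commutatorElement_eq_one_iff_mul_comm] at this
      exact this.symm
  have hQm : (Q.map (QuotientGroup.mk' W)).Normal := Normal.map inferInstance _ (QuotientGroup.mk'_surjective _)
  have hAN : A ≤ N := by
    intro a ha
    rw [hmemN]
    intro q hq
    have haS : a ∈ (S : Subgroup G) := hA.1 ha
    have hc : ∀ z ∈ (S : Subgroup G), ⁅a, q⁆ * z = z * ⁅a, q⁆ := fun z hz =>
      hcl' S S.isPGroup' a haS q (hQS hq) z hz
    have hm : ⁅a, q⁆ ∈ Q := by
      rw [commutatorElement_def]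
      exact Q.mul_mem (Normal.conj_mem inferInstance q hq a) (Q.inv_mem hq)
    refine H21.mem_omegaOne ⟨hm, mem_centralizer_iff.mpr fun z hz => (hc z (hQS hz)).symm⟩ ?_
    have ha2 : a * a = 1 := by rw [← pow_two]; exact hA.2.1.2 a ha
    have hai : a⁻¹ = a := inv_eq_of_mul_eq_one_right ha2
    calc ⁅a, q⁆ ^ 2 = ⁅a, q⁆ * a * (q * a⁻¹ * q⁻¹) := by rw [pow_two, commutatorElement_def]; group
      _ = a * ⁅a, q⁆ * (q * a⁻¹ * q⁻¹) := by rw [hc a haS]
      _ = (a * a) * q * (a * a)⁻¹ * q⁻¹ := by rw [commutatorElement_def]; group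
      _ = 1 := by rw [ha2]; group
  have hP : IsPGroup 2 ↥(R ⊓ N) := by
    rintro ⟨r, hr⟩
    obtain ⟨k, hk⟩ := hR r hr.1
    set m := r ^ (2 ^ k) with hm
    have hmN : m ∈ N := N.pow_mem hr.2 _
    have h1 : m * m ∈ Q := by
      apply hchar
      rw [mem_centralizer_iff]
      intro q hq
      have h2 := (hmemN m).mp hmN q hq
      have h3 : ⁅m, q⁆ * m = m * ⁅m, q⁆ := mem_centralizer_iff.mp hk _ h2
      have h4 : ⁅m, q⁆ * ⁅m, q⁆ = 1 := by rw [← pow_two]; exact hW.2 _ h2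
      calc q * (m * m) = (⁅m, q⁆ * ⁅m, q⁆) * (q * (m * m)) := by rw [h4, one_mul]
        _ = (⁅m, q⁆ * m) * q * m := by rw [commutatorElement_def]; group
        _ = (m * ⁅m, q⁆) * q * m := by rw [h3]
        _ = m * m * q := by rw [commutatorElement_def]; group
    obtain ⟨j, hj⟩ := hQ2 ⟨_, h1⟩
    refine ⟨k + 1 + j, Subtype.ext ?_⟩
    have hj' : (m * m) ^ (2 ^ j) = 1 := congrArg Subtype.val hj
    change r ^ (2 ^ (k + 1 + j)) = 1
    rw [pow_add, pow_add, pow_mul, pow_mul, ← hm, pow_one, pow_two, hj']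
  exact (le_inf hAR hAN).trans (H22.le_pCore inferInstance hP)

theorem normalizer_thompson_sup_of_class_two {G : Type*} [Group G] [Finite G] (hcon : Cfsg.IsPConstrained 2 G)
    (hS4 : ¬ Cfsg.Involves (Equiv.Perm (Fin 4)) G) (S : Sylow 2 G)
    (hcl : Subgroup.lowerCentralSeries (S : Subgroup G) 2 = ⊥) :
    normalizer ((Cfsg.thompsonSubgroupOf 2 (S : Subgroup G)) : Set G) ⊔ Cfsg.pPrimeCore 2 G = ⊤ := by
  have hF : Fact (Nat.Prime 2) := ⟨Nat.prime_two⟩
  rw [H22.isPConstrained_iff] at hcon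
  let π := QuotientGroup.mk' (pPrimeCore 2 G)
  have hπ : Function.Surjective π := QuotientGroup.mk'_surjective _
  have hk : (Nat.card π.ker).Coprime 2 := H22.coprime_ker_mk'
  let S' : Sylow 2 (G ⧸ pPrimeCore 2 G) := S.mapSurjective hπ
  have hS' : (S' : Subgroup _) = (S : Subgroup G).map π := rfl
  have h1 := thompson_le_pCore_of_class_two hcon (fun h => hS4 (involves_of_surjective π hπ h)) S'
    (by rw [hS', ← map_lowerCentralSeries, hcl, Subgroup.map_bot])
  have h2 : thompsonSubgroupOf 2 (pCore 2 (G ⧸ pPrimeCore 2 G)) = thompsonSubgroupOf 2 (S' : Subgroup _) :=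
    H21.thompsonSubgroupOf_eq_of_le (H22.pCore_le_sylow S') h1
  have h3 : normalizer (thompsonSubgroupOf 2 (S' : Subgroup (G ⧸ pPrimeCore 2 G)) : Set (G ⧸ pPrimeCore 2 G)) = ⊤ := by
    rw [← h2, eq_top_iff]
    exact (normalizer_eq_top _).ge.trans (H21.normalizer_le_normalizer_thompsonSubgroupOf 2 _)
  have h4 : (S : Subgroup G) ⊓ π.ker = ⊥ := H22.inf_eq_bot_of_pgroup_coprime S.isPGroup' hk
  rw [hS', ← H21.thompsonSubgroupOf_map_of_disjoint 2 h4, ← H22.map_normalizer_of_ker_coprime π hπ hk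
    (S.isPGroup'.to_le (H21.thompsonSubgroupOf_le _ _))] at h3
  have h5 := congrArg (comap π) h3
  rw [comap_map_eq, comap_top, QuotientGroup.ker_mk'] at h5
  exact h5

end Cfsg.Agent.H60
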