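/-
Abstract form of the determination of the centralisers of elements of order 5 and 7 from the
2-local subgroup with quotient S5 x L3(2).
-/
import Cfsg.Agent.H60.J4Gen
import Cfsg.Agent.H56.Stab
import Cfsg.Prelude.Def_TwoFusion

set_option autoImplicit false

namespace Cfsg.Agent.H60.J4

open Subgroup Cfsg.Agent.H49

variable {G : Type*} [Group G]

theorem eq_one_of_pow_pow {x : G} {a b : ℕ} (h : a.Coprime b) (h1 : x ^ a = 1) (h2 : x ^ b = 1) :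
    x = 1 := orderOf_eq_one_iff.1 (Nat.eq_one_of_dvd_coprimes h (orderOf_dvd_of_pow_eq_one h1)
      (orderOf_dvd_of_pow_eq_one h2))

theorem pow_eq_one_of_mem_zpowers {x y : G} {n : ℕ} (hx : orderOf x = n) (h : y ∈ zpowers x) :
    y ^ n = 1 := orderOf_dvd_iff_pow_eq_one.1 (hx ▸ orderOf_dvd_of_mem_zpowers h)

theorem seven_a {M : Type*} [Group M] [Finite M] (φ : M →* S5 × L3) (hs : Function.Surjective φ)
    (hk : IsPGroup 2 φ.ker) {s : M} (os : orderOf s = 7) :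
    (φ s).1 = 1 ∧ (φ s).2 ≠ 1 ∧ ∀ σ : S5, ∃ m ∈ 𝒞[s], φ m = (σ, 1) := by
  have : Fact (Nat.Prime 2) := ⟨Nat.prime_two⟩
  have h7 : s ^ 7 = 1 := os ▸ pow_orderOf_eq_one s
  have h1 : (φ s).1 = 1 := eq_one_of_pow_pow (a := 7) (b := 120) (by decide)
    (by rw [← Prod.pow_fst, ← map_pow, h7, map_one]; rfl) (card_S5 ▸ pow_card_eq_one')
  obtain ⟨n, hn⟩ := hk.exists_card_eq
  refine ⟨h1, fun h => ?_, fun σ => ?_⟩
  · have := φ.ker.orderOf_dvd_natCard (show s ∈ φ.ker from Prod.ext h1 h)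
    rw [os, hn] at this
    exact absurd ((Nat.prime_dvd_prime_iff_eq (by decide) Nat.prime_two).1
      (Nat.Prime.dvd_of_dvd_pow (by decide) this)) (by decide)
  obtain ⟨x, hx⟩ := hs (σ, 1)
  obtain ⟨k, hk, e⟩ := coprime_lift_cent (A := zpowers s) (K := ⊤) (N := φ.ker) (le_norm_top _)
    (le_top.trans (normal_iff_top_le_norm.1 inferInstance))
    (by rw [Nat.card_zpowers, os, hn]; exact Nat.Coprime.pow_right _ (by decide))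
    (.inl inferInstance) (mem_top x) fun a ha => by
      obtain ⟨j, rfl⟩ := mem_zpowers_iff.1 ha
      rw [MonoidHom.mem_ker]
      simp only [map_mul, map_inv, map_zpow, hx]
      exact Prod.ext (by simp [h1]) (by simp)
  exact ⟨x * k, cent_zpowers s ▸ e, by rw [map_mul, hx, hk.1, mul_one]⟩

theorem card_cent_sub {I : Subgroup G} {A : Type*} [Group A] (κ : I ≃* A) (w : I) :
    Nat.card ↥(I ⊓ 𝒞[(w : G)]) = Nat.card 𝒞[κ w] := by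
  obtain ⟨e⟩ := H56.centralizer_equiv κ w
  rw [← H14.card_centralizer_subtype, Nat.card_congr e.toEquiv]

theorem seven_c [Finite G] {I : Subgroup G} {s : G} (os : orderOf s = 7) (hI : I ≤ 𝒞[s])
    (hd : zpowers s ⊓ I = ⊥) (κ : I ≃* S5)
    (hb : ∀ i, orderOf i = 2 → s ∈ 𝒞[i] → Nat.card ↥(𝒞[i] ⊓ 𝒞[s]) ≤ 84) :
    zpowers s ⊔ I = 𝒞[s] := by
  have hn : I ≤ 𝒩(zpowers s) := norm_of_cent (cent_zpowers s ▸ hI)
  have h0 : zpowers s ⊔ I ≤ 𝒞[s] := sup_le (zpowers_le.2 (self_mem_cent1 s)) hI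
  have h1 : ∀ w ∈ zpowers s ⊔ I, orderOf w = 2 → w ∈ I := fun w hw ow => by
    obtain ⟨a, ha, b, hb, rfl⟩ := (mem_sup_of_norm_left hn).1 hw
    have c : Commute a b := le_cent_iff.1 (cent_zpowers s ▸ hI) b hb a ha
    have h2 : a ^ 2 * b ^ 2 = 1 := by rw [← c.mul_pow, ← ow, pow_orderOf_eq_one]
    have h3 : a ^ 2 ∈ zpowers s ⊓ I :=
      ⟨pow_mem ha 2, eq_inv_of_mul_eq_one_left h2 ▸ I.inv_mem (pow_mem hb 2)⟩
    rw [eq_one_of_pow_pow (a := 2) (b := 7) (by decide) (mem_bot.1 (hd ▸ h3))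
      (pow_eq_one_of_mem_zpowers os ha), one_mul]
    exact hb
  have h2 : ∀ w : I, orderOf (w : G) = 2 →
      𝒞[(w : G)] ⊓ 𝒞[s] = zpowers s ⊔ I ⊓ 𝒞[(w : G)] ∧
      Nat.card ↥(𝒞[(w : G)] ⊓ 𝒞[s]) = 7 * Nat.card 𝒞[κ w] := fun w ow => by
    have a1 : s ∈ 𝒞[(w : G)] := mem_cent1_comm.1 (hI w.2)
    have a2 : zpowers s ⊔ I ⊓ 𝒞[(w : G)] ≤ 𝒞[(w : G)] ⊓ 𝒞[s] :=
      sup_le (zpowers_le.2 ⟨a1, self_mem_cent1 s⟩) (le_inf inf_le_right (inf_le_left.trans hI))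
    have a3 : Nat.card ↥(zpowers s ⊔ I ⊓ 𝒞[(w : G)]) = 7 * Nat.card 𝒞[κ w] := by
      rw [card_sup_of_disjoint (.inr (inf_le_left.trans hn))
        (eq_bot_iff.2 (hd ▸ inf_le_inf_left _ inf_le_left)), Nat.card_zpowers, os, card_cent_sub κ]
    have a4 := hb w ow a1
    obtain ⟨k, hk⟩ := card_dvd_of_le a2
    have a5 := card_pos' (𝒞[(w : G)] ⊓ 𝒞[s])
    have a6 : orderOf (κ w) = 2 := by rw [κ.orderOf_eq, ← ow, orderOf_coe]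
    have a7 : k = 1 := by
      rw [hk, a3] at a4 a5
      rcases s5_inv (κ w) (a6 ▸ pow_orderOf_eq_one _) (H8.ne_one_of_orderOf_two a6) with h | h
      · rw [h.1] at a4 a5; omega
      · rw [h] at a4 a5; omega
    rw [a7, mul_one] at hk
    exact ⟨(eq_of_le_of_card_eq a2 hk.symm).symm, hk.trans a3⟩
  have o : ∀ σ : S5, σ * σ = 1 → σ ≠ 1 → orderOf (κ.symm σ : G) = 2 := fun σ a b => by
    rw [orderOf_coe, κ.symm.orderOf_eq, H8.orderOf_two_of a b]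
  have oi := o (Equiv.swap 0 1) (by decide) (by decide)
  have oj := o (Equiv.swap 0 1 * Equiv.swap 2 3) (by decide) (by decide)
  have cc : ∀ g ∈ 𝒞[s], ∀ w : I, g * (κ.symm (Equiv.swap 0 1) : G) * g⁻¹ = w →
      Nat.card 𝒞[κ w] = 12 := fun g hg w e => by
    have a1 := (h2 _ oi).2
    rw [← card_cj g, cj_inf, cj_cent1, cj_eq_of_mem hg, e,
      (h2 w (e ▸ (H8.orderOf_conj' _ _).trans oi)).2, κ.apply_symm_apply, card_cent_swap] at a1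
    omega
  refine le_antisymm h0 (le_of_se h0 (fun w hw ow => ?_) (mem_sup_right (κ.symm _).2)
    (mem_sup_right (κ.symm _).2) oi oj (fun g hg e => ?_) fun g hg hm => ?_)
  · exact (h2 ⟨w, h1 w hw ow⟩ ow).1.le.trans (sup_le_sup_left inf_le_left _)
  · have := cc g hg _ e
    rw [κ.apply_symm_apply, card_cent_dbl] at this
    omega
  · have a1 := (H8.orderOf_conj' g _).trans oi
    have a2 := h1 _ hm a1
    have a3 := cc g hg ⟨_, a2⟩ rfl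
    have a6 : orderOf (κ ⟨_, a2⟩) = 2 := by rw [κ.orderOf_eq, ← a1, ← orderOf_coe]
    obtain ⟨-, τ, e⟩ := (s5_inv _ (a6 ▸ pow_orderOf_eq_one _)
      (H8.ne_one_of_orderOf_two a6)).resolve_right (by omega)
    have := congrArg (fun σ => (κ.symm σ : G)) e
    simp only [map_mul, map_inv, κ.symm_apply_apply, coe_mul, coe_inv] at this
    exact ⟨_, mem_sup_right (κ.symm τ).2, this⟩

theorem seven_core [Finite G] {M : Subgroup G} (φ : M →* S5 × L3) (hs : Function.Surjective φ)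
    (hk : IsPGroup 2 φ.ker) {s : G} (sM : s ∈ M) (os : orderOf s = 7)
    (hb : ∀ i, orderOf i = 2 → s ∈ 𝒞[i] → Nat.card ↥(𝒞[i] ⊓ 𝒞[s]) ≤ 84) :
    ∃ I : Subgroup G, I ≤ M ∧ IsInternalDirectProduct (zpowers s) I 𝒞[s] ∧ Nonempty (I ≃* S5) := by
  have : Fact (Nat.Prime 2) := ⟨Nat.prime_two⟩
  obtain ⟨-, h2, h3⟩ := seven_a φ hs hk (s := ⟨s, sM⟩) (by rw [← orderOf_coe]; exact os)
  let I' : Subgroup M := ((MonoidHom.snd _ _).comp φ).ker ⊓ 𝒞[(⟨s, sM⟩ : M)]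
  let ψ : I' →* S5 := ((MonoidHom.fst _ _).comp φ).comp I'.subtype
  have hc : ∀ a : I', ((a : M) : G) ∈ 𝒞[s] := fun a =>
    mem_cent1.2 (congrArg Subtype.val (mem_cent1.1 a.2.2))
  have h4 : Function.Surjective ψ := fun σ =>
    let ⟨m, h1, e⟩ := h3 σ; ⟨⟨m, congrArg Prod.snd e, h1⟩, congrArg Prod.fst e⟩
  have h5 : Function.Injective ψ := by
    rw [← MonoidHom.ker_eq_bot_iff]
    by_contra hne
    have hp : IsPGroup 2 ψ.ker := fun a => by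
      obtain ⟨k, e⟩ := hk ⟨a.1.1, Prod.ext a.2 a.1.2.1⟩
      exact ⟨k, Subtype.ext (Subtype.ext (congrArg (fun b : φ.ker => (b : M)) e))⟩
    obtain ⟨n, hn⟩ := hp.exists_card_eq
    obtain ⟨i, hi, oi⟩ := H8.exists_involution_of_even ψ.ker (by
      rw [hn, Nat.even_pow]
      exact ⟨even_two, fun h => hne (card_eq_one.1 (by rw [hn, h, pow_zero]))⟩)
    have a1 := H14.card_eq_cls_mul (⊤ : Subgroup I') i
    have a2 := card_map_mul ψ ⊤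
    rw [← MonoidHom.range_eq_map, MonoidHom.range_eq_top.2 h4, card_top, card_S5, inf_top_eq] at a2
    have a3 : (H14.cls ⊤ i).ncard ≤ Nat.card ψ.ker :=
      Set.ncard_le_ncard (t := (ψ.ker : Set I'))
        (fun _ ⟨g, _, e⟩ => e ▸ Normal.conj_mem inferInstance i hi g) (Set.toFinite _)
    have a4 : Nat.card ↥(⊤ ⊓ 𝒞[i]) ≤ Nat.card ↥(𝒞[((i : M) : G)] ⊓ 𝒞[s]) :=
      Nat.card_le_card_of_injective (fun a => ⟨a.1.1.1, mem_cent1.2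
        (congrArg (fun b : I' => ((b : M) : G)) (mem_cent1.1 a.2.2)), hc a.1⟩)
        fun a b e => Subtype.ext (Subtype.ext (Subtype.ext (Subtype.mk.inj e)))
    have a5 := hb i (by rw [orderOf_coe, orderOf_coe, oi]) (mem_cent1_comm.1 (hc i))
    have a6 := card_pos' ψ.ker
    have := Nat.mul_le_mul a3 (a4.trans a5)
    omega
  let κ : ↥(I'.map M.subtype) ≃* S5 :=
    (equivMapOfInjective _ _ M.subtype_injective).symm.trans (MulEquiv.ofBijective ψ ⟨h5, h4⟩)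
  have hI : I'.map M.subtype ≤ 𝒞[s] := by rintro _ ⟨a, ha, rfl⟩; exact hc ⟨a, ha⟩
  have hd : zpowers s ⊓ I'.map M.subtype = ⊥ :=
    (inf_eq_bot_or_le_of_prime_card (by rw [Nat.card_zpowers, os]; decide) _).resolve_right
      fun h => by
        obtain ⟨a, ha, e⟩ := h (mem_zpowers s)
        exact h2 ((show a = ⟨s, sM⟩ from Subtype.ext e) ▸ ha.1)
  exact ⟨_, map_subtype_le _, ⟨zpowers_le.2 (self_mem_cent1 s), hI,
    fun a ha b hb => le_cent_iff.1 (cent_zpowers s ▸ hI) b hb a ha, hd,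
    seven_c os hI hd κ hb⟩, ⟨κ⟩⟩

theorem card_of_idp {A B C : Subgroup G} (h : IsInternalDirectProduct A B C) :
    Nat.card C = Nat.card A * Nat.card B := by
  rw [← h.2.2.2.2, card_sup_of_disjoint (.inr (norm_of_cent (le_cent_iff.2 fun b hb a ha =>
    h.2.2.1 a ha b hb))) h.2.2.2.1]

theorem idp_cj {A B C : Subgroup G} (h : IsInternalDirectProduct A B C) (g : G) :
    IsInternalDirectProduct (cj g A) (cj g B) (cj g C) :=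
  ⟨cj_mono g h.1, cj_mono g h.2.1, fun a ha b hb => by
    have := congrArg (fun y => g * y * g⁻¹) (h.2.2.1 _ (mem_cj.1 ha) _ (mem_cj.1 hb))
    simpa [mul_assoc] using this, by rw [← cj_inf, h.2.2.2.1, cj_bot],
    by rw [← cj_sup, h.2.2.2.2]⟩

theorem elem_mul_self {Z : Subgroup G} (hZ : IsElementaryAbelian 2 Z) {y : G} (hy : y ∈ Z) :
    y * y = 1 := by rw [← sq, hZ.2 y hy]

section five

variable [Finite G] {Z : Subgroup G} {ρ : 𝒩(Z) →* L3} (hρ : Rep3 Z ρ) {x : G}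
  (ox : orderOf x = 5) (hx : x ∈ 𝒞(Z))
include hρ ox hx

theorem five_adjust (h25 : ¬ 5 * 5 ∣ Nat.card G) {r : G} (hr : r ∈ 𝒞(Z))
    (e : r * x * r⁻¹ = x ^ 2) (m : 𝒩(Z)) : ∃ c : 𝒩(Z), (c : G) ∈ 𝒞[x] ∧ ρ c = ρ m := by
  obtain ⟨k, hk, e1⟩ := exists_cj_zpowers (by decide) h25
    (conj_mem_of_norm (norm_cent le_rfl) m.2 hx) hx ((H8.orderOf_conj' _ _).trans ox) ox
  obtain ⟨j, e2⟩ := exists_conj_five ox e (e1 ▸ mem_zpowers _) fun h => by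
    have := congrArg orderOf h
    rw [H8.orderOf_conj', H8.orderOf_conj', ox, orderOf_one] at this
    omega
  have h1 : (r ^ j)⁻¹ * k ∈ 𝒞(Z) := mul_mem (inv_mem (pow_mem hr j)) hk
  refine ⟨⟨_, cent_le_norm Z h1⟩ * m, mem_cent1.2 ?_, by rw [map_mul, (hρ.ker _).2 h1, one_mul]⟩
  change (r ^ j)⁻¹ * k * m * x = x * ((r ^ j)⁻¹ * k * m)
  calc _ = (r ^ j)⁻¹ * (k * (m * x * (m : G)⁻¹) * k⁻¹) * k * m := by group
    _ = _ := by rw [← e2]; group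

omit hρ in
theorem five_inf (hZ : IsElementaryAbelian 2 Z) : Z ⊓ zpowers x = ⊥ :=
  eq_bot_iff.2 fun y hy => eq_one_of_pow_pow (a := 2) (b := 5) (by decide) (hZ.2 y hy.1)
    (pow_eq_one_of_mem_zpowers ox hy.2)

theorem five_card (hZ : IsElementaryAbelian 2 Z) (h8 : Nat.card Z = 8)
    (hZx : 𝒞(Z) ⊓ 𝒞[x] ≤ Z ⊔ zpowers x)
    (hs : ∀ A, ∃ c : 𝒩(Z), (c : G) ∈ 𝒞[x] ∧ ρ c = A) : Nat.card ↥(𝒩(Z) ⊓ 𝒞[x]) = 6720 := by
  have h1 := card_map_mul ρ (𝒞[x].subgroupOf 𝒩(Z))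
  have h2 : (𝒞[x].subgroupOf 𝒩(Z)).map ρ = ⊤ := eq_top_iff.2 fun A _ => hs A
  have h3 : 𝒞(Z) ⊓ 𝒞[x] = Z ⊔ zpowers x := le_antisymm hZx (sup_le (le_inf (abelian_iff.1 hZ.1)
    (le_cent1_iff.2 hx)) (zpowers_le.2 ⟨hx, self_mem_cent1 x⟩))
  have h4 : ρ.ker ⊓ 𝒞[x].subgroupOf 𝒩(Z) = (𝒞(Z) ⊓ 𝒞[x]).subgroupOf 𝒩(Z) :=
    Subgroup.ext fun m => and_congr_left' (hρ.ker m)
  rw [h2, card_top, card_L3, h4, card_subgroupOf_of_le (inf_le_left.trans (cent_le_norm Z)), h3,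
    card_sup_of_disjoint (.inr (zpowers_le.2 (cent_le_norm Z hx))) (five_inf ox hx hZ), h8,
    Nat.card_zpowers, ox, card_subgroupOf, inf_comm] at h1
  exact h1.symm

theorem five_core (hZ : IsElementaryAbelian 2 Z) (h8 : Nat.card Z = 8)
    (hZx : 𝒞(Z) ⊓ 𝒞[x] ≤ Z ⊔ zpowers x)
    (hs : ∀ A, ∃ c : 𝒩(Z), (c : G) ∈ 𝒞[x] ∧ ρ c = A) {z j : G} (hz : z ∈ Z) (z1 : z ≠ 1)
    (ht : ∀ y ∈ Z, y ≠ 1 → ∃ m ∈ 𝒩(Z), m * z * m⁻¹ = y) (hH : 𝒞[z] ⊓ 𝒞[x] ≤ 𝒩(Z))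
    (hi : ∀ i ∈ 𝒞[z] ⊓ 𝒞[x], orderOf i = 2 → (∀ y ∈ Z, i * y * i⁻¹ = y ∨ i * y * i⁻¹ = y * z) →
      i ∈ Z ∨ (¬ IsConj z i ∧ Nat.card ↥(𝒞[i] ⊓ 𝒞[x]) ≤ 80 ∧
        (H14.cls (𝒞[z] ⊓ 𝒞[x]) i).ncard ≤ 12))
    (hj : j ∈ 𝒞[z] ⊓ 𝒞[x]) (oj : orderOf j = 2) (nj : ¬ IsConj z j) :
    𝒞[x] ≤ 𝒩(Z) ∧ Nat.card 𝒞[x] = 6720 ∧ ∀ y ∈ 𝒞[x], IsConj z y → y ∈ Z := by
  have hc := five_card hρ ox hx hZ h8 hZx hs
  have hZC : Z ≤ 𝒩(Z) ⊓ 𝒞[x] := le_inf le_normalizer (le_cent1_iff.2 hx)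
  have oz : orderOf z = 2 := H8.orderOf_two_of (elem_mul_self hZ hz) z1
  have t1 : ∀ y ∈ Z, y ≠ 1 → ∃ c ∈ 𝒩(Z) ⊓ 𝒞[x], c * z * c⁻¹ = y := fun y hy y1 => by
    obtain ⟨m, hm, e⟩ := ht y hy y1
    obtain ⟨c, h1, h2⟩ := hs (ρ ⟨m, hm⟩)
    exact ⟨c, ⟨c.2, h1⟩, (hρ.conj_eq h2 hz).trans e⟩
  have t2 : ∀ c ∈ 𝒩(Z) ⊓ 𝒞[x], ∀ w, 𝒞[w] ⊓ 𝒞[x] ≤ 𝒩(Z) ⊓ 𝒞[x] →
      𝒞[c * w * c⁻¹] ⊓ 𝒞[x] ≤ 𝒩(Z) ⊓ 𝒞[x] := fun c hc w h => by
    have := cj_mono c h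
    rwa [cj_eq_of_mem hc, cj_inf, cj_cent1, cj_eq_of_mem hc.2] at this
  have t3 : 𝒞[z] ⊓ 𝒞[x] ≤ 𝒩(Z) ⊓ 𝒞[x] := le_inf hH inf_le_right
  have t4 : 960 ≤ Nat.card ↥(𝒞[z] ⊓ 𝒞[x]) := by
    have a1 := H14.card_eq_cls_mul (𝒩(Z) ⊓ 𝒞[x]) z
    have a2 : (H14.cls (𝒩(Z) ⊓ 𝒞[x]) z).ncard ≤ ((Z : Set G) \ {1}).ncard :=
      Set.ncard_le_ncard fun _ ⟨g, hg, e⟩ => e ▸ ⟨conj_mem_of_norm le_rfl hg.1 hz,
        fun h => z1 (conj_eq_one_iff.1 h)⟩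
    rw [Set.ncard_diff_singleton_of_mem Z.one_mem, show (Z : Set G).ncard = 8 from h8] at a2
    have a3 : Nat.card ↥(𝒩(Z) ⊓ 𝒞[x] ⊓ 𝒞[z]) ≤ Nat.card ↥(𝒞[z] ⊓ 𝒞[x]) :=
      card_le_of_le fun g hg => ⟨hg.2, hg.1.2⟩
    have := Nat.mul_le_mul a2 a3
    omega
  have t5 : ∀ w ∈ 𝒩(Z) ⊓ 𝒞[x], orderOf w = 2 →
      𝒞[w] ⊓ 𝒞[x] ≤ 𝒩(Z) ⊓ 𝒞[x] ∧ (IsConj z w → w ∈ Z) := fun w hw ow => by
    obtain ⟨v, v1, v2, v3, v4⟩ := hρ.inv ⟨w, hw.1⟩ (by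
      rw [← map_mul, ← map_one ρ]; exact congrArg ρ (Subtype.ext (H8.mul_self_of_orderOf_two ow)))
    obtain ⟨c, hc, rfl⟩ := t1 v v1 v2
    obtain ⟨i, rfl⟩ : ∃ i, w = c * i * c⁻¹ := ⟨c⁻¹ * w * c, by group⟩
    have i1 : i ∈ 𝒞[x] := (H14.conj_mem_iff hc.2 i).1 hw.2
    have i2 : i ∈ 𝒞[z] := mem_cent1.2 (by
      have := congrArg (fun y => c⁻¹ * y * c * i) v3
      simpa [mul_assoc] using this)
    have oi : orderOf i = 2 := (H8.orderOf_conj' _ _).symm.trans ow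
    rcases hi i ⟨i2, i1⟩ oi (fun y hy => (v4 _ (conj_mem_of_norm le_rfl hc.1 hy)).imp
      (fun e => by simpa [mul_assoc] using congrArg (fun y => c⁻¹ * y * c) e)
      fun e => by simpa [mul_assoc] using congrArg (fun y => c⁻¹ * y * c) e) with h | h
    · obtain ⟨d, hd, rfl⟩ := t1 i h (H8.ne_one_of_orderOf_two oi)
      exact ⟨t2 c hc _ (t2 d hd _ t3), fun _ => conj_mem_of_norm le_rfl hc.1 h⟩
    · refine ⟨t2 c hc _ ?_, fun k => absurd (k.trans (isConj_iff.2 ⟨c, rfl⟩).symm) h.1⟩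
      have a1 := H14.card_eq_cls_mul (𝒞[z] ⊓ 𝒞[x]) i
      have a2 := Nat.mul_le_mul_right (Nat.card ↥(𝒞[z] ⊓ 𝒞[x] ⊓ 𝒞[i])) h.2.2
      have a3 : 𝒞[z] ⊓ 𝒞[x] ⊓ 𝒞[i] ≤ 𝒞[i] ⊓ 𝒞[x] := fun g hg => ⟨hg.2, hg.1.2⟩
      rw [← eq_of_le_of_card_ge a3 (by have := h.2.1; omega)]
      exact inf_le_left.trans t3
  have t6 : 𝒞[x] ≤ 𝒩(Z) ⊓ 𝒞[x] := le_of_se inf_le_right (fun w hw ow => (t5 w hw ow).1) (hZC hz)
    (t3 hj) oz oj (fun g _ e => nj (isConj_iff.2 ⟨g, e⟩)) fun g _ hm =>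
      t1 _ ((t5 _ hm ((H8.orderOf_conj' _ _).trans oz)).2 (isConj_iff.2 ⟨g, rfl⟩))
        fun h => z1 (conj_eq_one_iff.1 h)
  exact ⟨t6.trans inf_le_left, by rw [← hc, le_antisymm inf_le_right t6], fun y hy k =>
    (t5 y (t6 hy) ((H8.orderOf_eq_of_isConj k).symm.trans oz)).2 k⟩

theorem five_struct (hZ : IsElementaryAbelian 2 Z) (h8 : Nat.card Z = 8)
    (hZx : 𝒞(Z) ⊓ 𝒞[x] ≤ Z ⊔ zpowers x) (hN : 𝒞[x] ≤ 𝒩(Z)) (hc : Nat.card 𝒞[x] = 6720)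
    {g : G} (hg : g ∈ 𝒞[x]) (g4 : g ^ 4 ∈ Z) (g1 : g ^ 4 ≠ 1) :
    ∃ J : Subgroup G, IsInternalDirectProduct (zpowers x) J 𝒞[x] ∧
      ∃ (E : Subgroup J) (_ : E.Normal), IsElementaryAbelian 2 E ∧ Nat.card E = 8 ∧
        Nonempty (J ⧸ E ≃* L3) ∧ ∀ K : Subgroup J, ¬ E.IsComplement' K := by
  have q1 : zpowers x ≤ 𝒞[x] := zpowers_le.2 (self_mem_cent1 x)
  have q2 : 𝒞[x] ≤ 𝒩(zpowers x) := norm_of_cent (cent_zpowers x).ge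
  have q3 := card_mul_relIndex q1
  rw [Nat.card_zpowers, ox, hc] at q3
  obtain ⟨J, hJ⟩ := exists_compl_of_coprime q1 q2 (by
    rw [Nat.card_zpowers, ox, show (zpowers x).relIndex 𝒞[x] = 1344 by omega]; decide)
  have j1 := hJ.right_le
  have j2 := hJ.card
  rw [Nat.card_zpowers, ox, hc] at j2
  have j3 : ∀ a ∈ zpowers x, ∀ b ∈ J, a * b = b * a := fun a ha b hb =>
    le_cent_iff.1 ((cent_zpowers x).symm ▸ j1) b hb a ha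
  have j4 : ∀ a ∈ zpowers x, a ∈ J → a = 1 := fun a h1 h2 => mem_bot.1 (hJ.2.1 ▸ ⟨h1, h2⟩)
  have j5 : ∀ c ∈ 𝒞[x], c ^ 8 = 1 → c ∈ J := fun c hc h => by
    obtain ⟨a, ha, b, hb, rfl⟩ := hJ.isProd.2.2 c hc
    rw [(show Commute a b from j3 a ha b hb).mul_pow] at h
    rw [eq_one_of_pow_pow (a := 8) (b := 5) (by decide) (j4 _ (pow_mem ha 8)
      (eq_inv_of_mul_eq_one_left h ▸ inv_mem (pow_mem hb 8))) (pow_eq_one_of_mem_zpowers ox ha),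
      one_mul]
    exact hb
  have j6 : Z ≤ J := fun y hy => j5 y (le_cent1_iff.2 hx hy)
    (by rw [show 8 = 2 * 4 from rfl, pow_mul, hZ.2 y hy, one_pow])
  let ψ : J →* L3 := ρ.comp (inclusion (j1.trans hN))
  have k1 : ψ.ker = Z.subgroupOf J := by
    ext b
    refine (hρ.ker _).trans ⟨fun h => ?_, fun h => abelian_iff.1 hZ.1 h⟩
    obtain ⟨y, hy, a, ha, e⟩ := (mem_sup_of_norm_left (zpowers_le.2 (cent_le_norm Z hx))).1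
      (hZx ⟨h, j1 b.2⟩)
    have e' : (b : G) = y * a := e
    rw [mem_subgroupOf, e', j4 a ha ((J.mul_mem_cancel_left (j6 hy)).1 (e' ▸ b.2)), mul_one]
    exact hy
  have k2 : Nat.card (Z.subgroupOf J) = 8 := by rw [card_subgroupOf_of_le j6, h8]
  have k3 : Function.Surjective ψ := by
    have := card_map_mul ψ ⊤
    rw [inf_top_eq, k1, k2, card_top, ← MonoidHom.range_eq_map] at this
    exact MonoidHom.range_eq_top.1 (eq_top_of_card_eq _ (by rw [card_L3]; omega))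
  have hn : (Z.subgroupOf J).Normal := k1 ▸ inferInstance
  refine ⟨J, ⟨q1, j1, j3, hJ.2.1, hJ.1⟩, Z.subgroupOf J, hn,
    ⟨⟨⟨fun a b => Subtype.ext (Subtype.ext (le_cent_iff.1 (abelian_iff.1 hZ.1) _ b.2 _ a.2))⟩⟩,
      fun a ha => Subtype.ext (hZ.2 a ha)⟩, k2,
    ⟨(QuotientGroup.quotientMulEquivOfEq k1.symm).trans
      (QuotientGroup.quotientKerEquivOfSurjective ψ k3)⟩, fun K hK => g1 ?_⟩
  have gJ : g ∈ J := j5 g hg (by rw [show 8 = 4 * 2 from rfl, pow_mul, hZ.2 _ g4])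
  obtain ⟨⟨e, k⟩, h, -⟩ := hK.existsUnique ⟨g, gJ⟩
  have a1 : ψ k ^ 4 = 1 := by
    have : ψ (⟨g, gJ⟩ ^ 4) = 1 := show _ ∈ ψ.ker from k1 ▸ g4
    rwa [← h, map_pow, map_mul, show ψ e = 1 from k1.ge e.2, one_mul] at this
  have a2 : (k : J) ^ 4 = 1 := mem_bot.1 (hK.disjoint.le_bot
    ⟨k1 ▸ (show ψ _ = 1 by rw [map_pow, a1]), pow_mem k.2 4⟩)
  have a3 := hρ.pow4 _ a1 _ e.2
  rw [show g = (e : J) * (k : J) from (congrArg Subtype.val h).symm]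
  exact a3.trans (congrArg Subtype.val a2)

end five

end Cfsg.Agent.H60.J4
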