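/-
Project SGJ4, pentad subgroup.  The model of the centraliser of the elementary abelian group of
order 8 belonging to a duad: the map onto S5 (action on five tetrads) and its kernel.
-/
import Cfsg.Agent.SGJ4.XDict
import Cfsg.Agent.H97.M24Cls
import Cfsg.Agent.H60.J4S5

set_option autoImplicit false

namespace Cfsg.Agent.H60.J4

open Cfsg.Agent.H14 Cfsg.Agent.SGJ4 AG Subgroup

/-- members of `X` with words in the generators: 0..15 the kernel on the tetrads, 16 of order 5,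
17 a transposition of tetrads, 18 of order 4, 19 an outer involution, 20 of order 7 -/
def xL : List (ℕ × List ℕ) := [(nat_lit 0x800400200100080040020010008004002001bdab49ca307b9ac5a928398a418820, []),
  (nat_lit 0x9fe5a8256d12c92591c64469c4c58342d001bb2b413a301c8b64916831daa7cc20, [2, 1, 3, 0, 3, 2, 2, 0, 1, 2]),
  (nat_lit 0x8565fe3a8b9dbe3ce0aebd18b3dd0cca21a9bcab45da30530ee9bc48694c322420, [3, 0, 2, 0, 1, 3, 0, 2, 2, 0, 2, 1, 1, 0]),
  (nat_lit 0x9a84563fe78f7f19316af96177988b88d1a9bbab44b230258d210e682b4ef52c20, [1, 1, 0, 2, 0, 2, 2, 3, 0, 2, 0, 3, 2, 1, 2]),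
  (nat_lit 0x9fe5a83a8c4dc65468c93590d1342c582001bb9015b2307d8b29a85531da41a680, [1, 2, 1, 0, 2, 2, 1, 0, 0, 2]),
  (nat_lit 0x8565fe256a94b42cb1a4ad49a34d0bca51a9bd90114a30238ec48d75694cf54e80, [2, 2, 3, 0, 0, 0, 2, 0, 3, 2, 2, 0, 0, 0, 2, 0]),
  (nat_lit 0x9a84562006d07068c86588986269249221a9bb1019ba30548d65bd352b4e320a80, [1, 1, 0, 2, 0, 2, 3, 2, 0, 3, 1, 2, 0, 0]),
  (nat_lit 0x8004003fe009021011081041101003005001bc9014da301b1ae11275398aa7ae80, [2, 2, 1]),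
  (nat_lit 0x8565fe3a884b835f0a895ea4943eb0f48057bda954ca30538ac13e6131da322d00, [2, 1, 3, 0, 2, 0, 3, 2, 2, 0, 2, 0, 1, 2]),
  (nat_lit 0x9fe5a8256ec4f4467be1a7d5e3263f7c71ffbba959b2301d8f259121694ca78900, [1, 1, 0, 2, 2, 3, 0, 2, 0, 3, 2, 2, 0, 1, 2]),
  (nat_lit 0x8004002002803002022082042202102401ffbca9515a307b0ce4a9612b4e41cd00, [1, 1, 0, 2, 1, 2, 0, 0]),
  (nat_lit 0x9a84563fe40f471b73487b75551a9facf057bb2955ba30249b698c41398af52500, [0, 1, 0, 1, 2, 2, 2, 0, 2, 0, 0, 2, 0, 1, 0]),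
  (nat_lit 0x9fe5a83a8fcdfe562aebb784f3b6387c01ffbb0284ba307c8f612a74694c41aea0, [2, 1, 3, 0, 2, 2, 3, 0, 2, 1, 0, 0, 2, 2, 1, 0]),
  (nat_lit 0x8565fe2569148c2ef3862f5d81cf1fee7057bc8289da30230ae58d3431daf50aa0, [3, 0, 2, 0, 0, 1, 2, 2, 0, 3, 2, 1, 1, 0]),
  (nat_lit 0x8004003fe3df3f73fb2ff3fd37f3bf3ef1ffbd8285ca301b8cc990542b4ea7a6a0, [0, 1, 1, 0, 2, 2, 0]),
  (nat_lit 0x9a84562005064d0b22426b24458a98ac8057bb82813230559b24bd74398a324ea0, [1, 3, 0, 2, 3, 0, 2, 0, 2, 1, 1, 0, 1, 2, 0]),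
  (nat_lit 0xbf87bd34b72f13d4a2aeb923d510f3d24335bd26b556306858821de9959c628c40, [2, 0, 2, 0, 2, 0, 0, 4, 2, 2, 1, 0, 2, 1, 0, 1]),
  (nat_lit 0x2b23878cac4da4a4683f73bf458d49ac8d4cbba69aca117d8ac42a8b399a320440, [0, 2, 2, 3, 0, 2, 0, 3, 2, 0, 1, 2, 0, 0, 1, 2]),
  (nat_lit 0x558c0775f7b59a126e4d1847b6d1acbd3564b9ab451e1173445248619ad3663d00, [2, 0, 2, 2, 2, 3, 0, 0, 2, 0, 2, 0, 3, 4, 2]),
  (nat_lit 0xf129bd947c08161d90b7988f37634fcd8f004a955da111b0ae9904131daa7a517, [1, 2, 0, 1, 2, 1, 0, 2, 0, 0, 1, 2, 2, 0, 3]),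
  (nat_lit 0xd6fa7be7f4e09a2ec20f612f6261b1a0b002bb49244227a94261a662b296e7b280, [0, 2, 0, 2, 1])]

def xC : List ℕ := xL.map Prod.fst
noncomputable def xc (i : ℕ) : ℕ := nthD xC cone i
noncomputable def xe (i : ℕ) : AG := ofC (xc i)

theorem inS_xc (i : ℕ) : InS X (xc i) := by
  rcases nthD_mem_or xC cone i with h | h
  · exact inS_of_wordsOK inS_xG (show wordsOK xG xL = true by decide +kernel) _ h
  · rw [xc, h]; exact InS.one _

theorem cd_xe (i : ℕ) : cd (xe i) = xc i := (inS_xc i).cd_ofC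
theorem xe_mem (i : ℕ) : xe i ∈ X := (inS_xc i).ofC_mem
theorem xe_v (i : ℕ) : (xe i).v = 0 := v_of_mem_X _ (xe_mem i)
theorem lin_xe (i : ℕ) : lin (xe i) = xe i := lin_eq_self.2 (xe_v i)
theorem xe_val (i : ℕ) (v : Vb) : ((xe i).m v).val = ap (cA (xc i)) v.val := by rw [val_m, cd_xe]
theorem pk_xe (i : ℕ) : GE.pk (xe i).p = cP (xc i) := by rw [← cP_cd, cd_xe]
theorem xe_zero : xe 0 = 1 := cd_inj.1 (by rw [cd_xe, cd_one]; rfl)

/-- the additive subgroup given by a list of numbers -/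
def lsub (l : List ℕ) (h : 0 ∈ l ∧ ∀ a ∈ l, ∀ b ∈ l, a ^^^ b ∈ l) : AddSubgroup Vb where
  carrier := {v | v.val ∈ l}
  zero_mem' := h.1
  add_mem' := fun ha hb => h.2 _ ha _ hb
  neg_mem' := fun ha => ha

theorem ncard_list (l : List ℕ) (h1 : l.Nodup) (h2 : ∀ a ∈ l, a < 4096) :
    {v : Vb | v.val ∈ l}.ncard = l.length := by
  rw [← Set.ncard_image_of_injective _ (f := Vb.val) fun _ _ => Vb.ext,
    ← List.toFinset_card_of_nodup h1, ← Set.ncard_coe_finset]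
  congr 1
  ext n
  simp only [Set.mem_image, Set.mem_setOf_eq, List.coe_toFinset]
  exact ⟨fun ⟨_, h, e⟩ => e ▸ h, fun h => ⟨⟨n, h2 n h⟩, h, rfl⟩⟩

def w1 : Vb := ⟨0x56, by decide⟩
def w2 : Vb := ⟨0x1a8, by decide⟩
/-- the point over the field with four elements belonging to the duad 16, 17 -/
def W1 : AddSubgroup Vb := lsub [0, 0x56, 0x1a8, 0x1fe] (by decide)

theorem mem_W1 {v : Vb} : v ∈ W1 ↔ v.val ∈ [0, 0x56, 0x1a8, 0x1fe] := Iff.rfl
theorem mem_W1' {v : Vb} : v ∈ W1 ↔ v = 0 ∨ v = w1 ∨ v = w2 ∨ v = w1 + w2 := by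
  simp only [mem_W1, List.mem_cons, List.not_mem_nil, or_false, ← Vb.val_inj]; rfl
theorem card_W1 : Nat.card W1 = 4 := ncard_list _ (by decide) (by decide)
theorem w1_mem : w1 ∈ W1 := mem_W1.2 (by decide)
theorem w2_mem : w2 ∈ W1 := mem_W1.2 (by decide)
theorem om_w1 : om.m w1 = w2 := Vb.ext (by rw [val_m, cd_om]; decide +kernel)
theorem om_w2 : om.m w2 = w1 + w2 := Vb.ext (by rw [val_m, cd_om]; decide +kernel)

/-- the polar form as a number -/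
def bB (v w : ℕ) : ℕ := Nat.mod (Nat.add (Nat.add (qn (Nat.xor v w)) (qn v)) (qn w)) (nat_lit 2)

theorem B_eq (v w : Vb) : B v w = (bB v.val w.val : ℕ) := by
  rw [B, q, q, q, ← Nat.cast_add, ← Nat.cast_add, zmod2_eq]; exact (Nat.mod_mod _ _).symm
theorem B_eq_zero {v w : Vb} : B v w = 0 ↔ bB v.val w.val = 0 := by
  rw [B_eq, ← Nat.cast_zero, zmod2_eq]
  have : bB v.val w.val < 2 := Nat.mod_lt _ (by decide)
  omega

/-- the perp of `W1` -/
def Pp : AddSubgroup Vb where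
  carrier := {v | B v w1 = 0 ∧ B v w2 = 0}
  zero_mem' := ⟨B_zero_left _, B_zero_left _⟩
  add_mem' := fun ha hb => ⟨by rw [B_add_left, ha.1, hb.1, add_zero],
    by rw [B_add_left, ha.2, hb.2, add_zero]⟩
  neg_mem' := fun ha => ha

theorem mem_Pp {v : Vb} : v ∈ Pp ↔ B v w1 = 0 ∧ B v w2 = 0 := Iff.rfl
def pB (v : ℕ) : Bool := Nat.beq (bB v (nat_lit 0x56)) 0 && Nat.beq (bB v (nat_lit 0x1a8)) 0
theorem mem_Pp' {v : Vb} : v ∈ Pp ↔ pB v.val = true := by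
  rw [mem_Pp, B_eq_zero, B_eq_zero, pB, Bool.and_eq_true, beq_iff, beq_iff]; rfl
theorem card_Pp : Nat.card Pp = 1024 :=
  (Vb.ncard_eq (fun v => v ∈ Pp) pB fun _ => mem_Pp'.symm).trans (by decide +kernel)
theorem B_of_mem_Pp {v w : Vb} (hv : v ∈ Pp) (hw : w ∈ W1) : B v w = 0 := by
  rcases mem_W1'.1 hw with rfl | rfl | rfl | rfl
  exacts [B_zero_right _, hv.1, hv.2, by rw [B_add_right, hv.1, hv.2, add_zero]]
theorem W1_le_Pp : W1 ≤ Pp := fun v hv => mem_Pp'.2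
  ((by decide +kernel : ∀ n ∈ [0, 0x56, 0x1a8, 0x1fe], pB n = true) _ hv)
theorem q_W1 : ∀ v ∈ W1, q v = 0 := fun v hv => q_eq_zero.2
  ((by decide +kernel : ∀ n ∈ [0, 0x56, 0x1a8, 0x1fe], ty n ≠ 3) _ hv)

/-- a projection onto `Pp` -/
def PM : ℕ := nat_lit 0x800400200108088042028012000006000001

theorem hom_PM {v : Vb} (hv : v ∈ Pp) : hom PM v = v := by
  have h : all2 64 64 (fun n => bimp (pB n) (Nat.beq (ap PM n) n)) = true := by decide +kernel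
  exact Vb.ext (beq_iff.1 (bimp_iff.1 (all2_iff.1 h _ v.lt) (mem_Pp'.1 hv)))

theorem Pp_induction {P : Vb → Prop} (h0 : P 0) (he : ∀ i < 12, P (Vb.of (col PM i)))
    (ha : ∀ a b, P a → P b → P (a + b)) : ∀ v ∈ Pp, P v := fun v hv => by
  rw [← hom_PM hv]
  refine Vb.induction (P := fun v => P (hom PM v)) (by rwa [map_zero]) (fun i hi => ?_)
    (fun a b h1 h2 => by rw [map_add]; exact ha _ _ h1 h2) v
  rw [← Vb.of_val (hom PM (Vb.e i)), val_hom_e _ hi]; exact he i hi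

theorem col_mem_Pp : ∀ i < 12, Vb.of (col PM i) ∈ Pp := fun i hi => mem_Pp'.2 (by
  rw [Vb.val_of_lt (col_lt _ _)]
  exact allN_iff.1 (show allN 12 (fun i => pB (col PM i)) = true by decide +kernel) i hi)

theorem mem_W1_of_perp {v : Vb} (h : ∀ w ∈ Pp, B v w = 0) : v ∈ W1 := by
  have k : all2 64 64 (fun n => bimp (allN 12 fun i => Nat.beq (bB n (col PM i)) 0)
    (anyL [0, 0x56, 0x1a8, 0x1fe] (Nat.beq n))) = true := by decide +kernel
  obtain ⟨a, ha, e⟩ := anyL_iff.1 (bimp_iff.1 (all2_iff.1 k _ v.lt) (allN_iff.2 fun i hi => by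
    have := B_eq_zero.1 (h _ (col_mem_Pp i hi))
    rwa [Vb.val_of_lt (col_lt _ _), ← beq_iff] at this))
  rw [mem_W1, beq_iff.1 e]; exact ha

/-- the image of the centraliser of the group of order 8 -/
def Dm : Subgroup AG where
  carrier := {a | a ∈ Hb ∧ a.m w1 = w1 ∧ a.m w2 = w2 ∧ a.v ∈ Pp}
  one_mem' := ⟨Hb.one_mem, rfl, rfl, Pp.zero_mem⟩
  mul_mem' := fun {a b} ha hb => ⟨Hb.mul_mem ha.1 hb.1, by rw [mul_m, hb.2.1, ha.2.1],
    by rw [mul_m, hb.2.2.1, ha.2.2.1], Pp.add_mem ha.2.2.2 ⟨by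
      rw [← ha.2.1, B_m ha.1, hb.2.2.2.1], by rw [← ha.2.2.1, B_m ha.1, hb.2.2.2.2]⟩⟩
  inv_mem' := fun {a} ha => ⟨Hb.inv_mem ha.1, by conv_lhs => rw [← ha.2.1, inv_m_m],
    by conv_lhs => rw [← ha.2.2.1, inv_m_m], by
      rw [inv_v', mem_Pp, ← B_m ha.1, ← B_m ha.1 _ w2, m_inv_m, ha.2.1, ha.2.2.1]; exact ha.2.2.2⟩

theorem mem_Dm {a : AG} : a ∈ Dm ↔ a ∈ Hb ∧ a.m w1 = w1 ∧ a.m w2 = w2 ∧ a.v ∈ Pp := Iff.rfl
theorem Dm_le_Hb : Dm ≤ Hb := fun _ h => h.1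
theorem tr_mem_Dm {v : Vb} : tr v ∈ Dm ↔ v ∈ Pp := ⟨fun h => h.2.2.2, fun h =>
  ⟨tr_mem_Hb v, rfl, rfl, h⟩⟩
theorem m_eq_of_W1 {a : AG} (h1 : a.m w1 = w1) (h2 : a.m w2 = w2) : ∀ w ∈ W1, a.m w = w := by
  intro w hw
  rcases mem_W1'.1 hw with rfl | rfl | rfl | rfl
  exacts [map_zero _, h1, h2, by rw [map_add, h1, h2]]

theorem xe_mem_Dm : ∀ i < 19, xe i ∈ Dm := fun i hi => by
  have h := allN_iff.1 (show allN 19 (fun i => force (cA (xc i)) fun A =>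
    Nat.beq (ap A 0x56) 0x56 && Nat.beq (ap A 0x1a8) 0x1a8) = true by decide +kernel) i hi
  rw [force_eq, Bool.and_eq_true, beq_iff, beq_iff] at h
  exact ⟨X_le_Hb (xe_mem i), Vb.ext ((xe_val _ _).trans h.1), Vb.ext ((xe_val _ _).trans h.2),
    xe_v i ▸ Pp.zero_mem⟩

theorem inner_of_fix {a : AG} (ha : a ∈ Hb) (h1 : a.m w1 = w1) (h2 : a.m w2 = w2) : Inner a := by
  by_contra h
  have := outer_m ha h w1
  rw [h1, om_w1, h2, om_w2] at this
  exact absurd this (by decide)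

theorem eq_of_p_eq {a b : AG} (ha : a ∈ X) (hb : b ∈ X) (h : a.p = b.p) (h1 : a.m w1 = w1)
    (h2 : b.m w1 = w1) : a = b := by
  have h3 : (a * b⁻¹).m w1 = w1 := by rw [mul_m]; conv_lhs => rw [← h2, inv_m_m, h1]
  rcases ker_X _ (mul_mem ha (inv_mem hb)) (by rw [mul_p, inv_p, h, mul_inv_cancel]) with e | e | e
  · exact mul_inv_eq_one.1 e
  · rw [e, om_w1] at h3; exact absurd h3 (by decide)
  · rw [e, mul_m, om_w1, om_w2] at h3; exact absurd h3 (by decide)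

theorem p_mem_M22 {a : AG} (ha : a ∈ Hb) (h : Inner a) : a.p ∈ Spor.M22 :=
  (mem_M22_iff (p_mem_M22x a ha)).2 h

theorem p_duad {a : AG} (ha : a ∈ Hb) (h1 : a.m w1 = w1) :
    (a.p (pt 16) = pt 16 ∧ a.p (pt 17) = pt 17) ∨ (a.p (pt 16) = pt 17 ∧ a.p (pt 17) = pt 16) := by
  have a1 : In22 (pt 16) := ⟨by decide, by decide⟩
  have a2 : In22 (pt 17) := ⟨by decide, by decide⟩
  have a3 : pt 16 ≠ pt 17 := by decide
  have a4 : dv (pt 16) (pt 17) = w1 := Vb.ext (by decide +kernel)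
  have := dv_equivariant ha a1 a2 a3
  rw [a4, h1, ← a4] at this
  exact (dv_inj ((in22_p ha).2 a1) ((in22_p ha).2 a2) (a.p.injective.ne a3) a1 a2 a3 this).imp
    (fun h => ⟨h.1.symm, h.2.symm⟩) fun h => ⟨h.2.symm, h.1.symm⟩

/-- number of the tetrad of a point (5 for the tetrad of the two duads) -/
def tc (i : ℕ) : ℕ := papp (nat_lit 0x29000090a5110640882018c6210405) i

/-- `g` induces `σ` on the five tetrads -/
def Blk (g : Equiv.Perm GolayPt) (σ : S5) : Prop :=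
  ∀ (x : GolayPt) (i : Fin 5), tc (idx x) = i → tc (idx (g x)) = σ i

noncomputable def blkN (P s : ℕ) : Bool := allN 24 fun i => force (tc i) fun c =>
  bimp (Nat.ble c 4) (Nat.beq (tc (papp P i)) (app (nat_lit 3) (nat_lit 8) s c))

theorem blk_of {g : Equiv.Perm GolayPt} {σ : S5} (h : blkN (GE.pk g) (E5.pk σ) = true) :
    Blk g σ := fun x i e => by
  have := allN_iff.1 h _ (idx_lt x)
  rw [force_eq, e] at this
  have h1 := beq_iff.1 (bimp_iff.1 this (ble_iff.2 (Nat.le_of_lt_succ i.2)))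
  rw [show papp (GE.pk g) (idx x) = idx (g x) from GE.app_pk g x] at h1
  exact h1.trans (E5.app_pk σ i)

theorem Blk.mul {g h : Equiv.Perm GolayPt} {σ τ : S5} (h1 : Blk g σ) (h2 : Blk h τ) :
    Blk (g * h) (σ * τ) := fun x i e => h1 _ _ (h2 x i e)

theorem Blk.unique {g : Equiv.Perm GolayPt} {σ τ : S5} (h1 : Blk g σ) (h2 : Blk g τ) : σ = τ := by
  have k : ∀ i : Fin 5, ∃ x, tc (idx x) = i := by decide +kernel
  ext i
  obtain ⟨x, hx⟩ := k i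
  rw [← h1 x i hx, h2 x i hx]

noncomputable def leaf (P : ℕ) : Bool :=
  force (pack (nat_lit 3) (nat_lit 5) fun c => tc (papp P (papp (nat_lit 0xc28c41) c))) fun s =>
    valid (nat_lit 3) (nat_lit 8) (nat_lit 5) s && blkN P s &&
      bimp (Nat.beq s 18056) (anyN 16 fun k => Nat.beq (cP (xc k)) P)

theorem search_ok : allI (nat_lit 5) (nat_lit 32) (nat_lit 24) m24CertL.tail.tail (nat_lit 8388609)
    [] [(nat_lit 0x420, nat_lit 0x420)] (fun H => force (comp3 (nat_lit 5) (nat_lit 32) (nat_lit 24)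
      (nat_lit 0xbd87424ccc4364b4d42253cee2c600) H (nat_lit 0xbd95493441311d061d6f2c473aa120))
      leaf) = true := by decide +kernel

theorem leaf_ok {g : Equiv.Perm GolayPt} (hg : g ∈ Spor.M22)
    (h : (g (pt 16) = pt 16 ∧ g (pt 17) = pt 17) ∨ (g (pt 16) = pt 17 ∧ g (pt 17) = pt 16)) :
    leaf (GE.pk g) = true := by
  obtain ⟨c, hc, e⟩ := m22_chain.inG_of_sift (P := nat_lit 0xbd87424ccc4364b4d42253cee2c600)
    (by decide +kernel) (by decide +kernel)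
  have e1 : GE.pk c⁻¹ = nat_lit 0xbd95493441311d061d6f2c473aa120 := by
    rw [GE.pk_inv, e]; decide +kernel
  have e2 : c (pt 1) = pt 16 := (GE.apply_pt c (i := 1) (by decide)).trans (by rw [e]; rfl)
  have e3 : c (pt 2) = pt 17 := (GE.apply_pt c (i := 2) (by decide)).trans (by rw [e]; rfl)
  have k : ∀ p, app (nat_lit 5) (nat_lit 32) (nat_lit 0x420) (GE.ix p) =
    if p = pt 1 ∨ p = pt 2 then 1 else 0 := by decide +kernel
  have := m22_chain.forall_of_allI fixes_M22 search_ok (c⁻¹ * g * c)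
    (mul_mem (mul_mem (inv_mem hc) hg) hc) ⟨by simp, fun d hd p => by
      rw [List.mem_singleton.1 hd, k, k]
      refine if_congr ?_ rfl rfl
      simp only [Equiv.Perm.mul_apply, Equiv.Perm.inv_eq_iff_eq, e2, e3]
      rw [← c.injective.eq_iff (a := p), ← c.injective.eq_iff (a := p), e2, e3]
      rcases h with h | h
      · conv_lhs => rw [← h.1, ← h.2, g.injective.eq_iff, g.injective.eq_iff]
      · conv_lhs => rw [← h.1]; lhs; rw [← h.2]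
        rw [g.injective.eq_iff, g.injective.eq_iff, or_comm]⟩
  rwa [force_eq, ← e, ← e1, ← GE.pk_mul3, show c * (c⁻¹ * g * c) * c⁻¹ = g by group] at this

theorem exists_blk {a : AG} (ha : a ∈ Dm) :
    ∃ σ, Blk a.p σ ∧ (σ = 1 → ∃ k < 16, lin a = xe k) := by
  have h := leaf_ok (p_mem_M22 ha.1 (inner_of_fix ha.1 ha.2.1 ha.2.2.1)) (p_duad ha.1 ha.2.1)
  rw [leaf, force_eq, Bool.and_eq_true, Bool.and_eq_true] at h
  obtain ⟨σ, e⟩ := E5.exists_pk_of_valid h.1.1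
  rw [← e] at h
  refine ⟨σ, blk_of h.1.2, fun h1 => ?_⟩
  obtain ⟨k, hk, e⟩ := anyN_iff.1 (bimp_iff.1 h.2 (beq_iff.2 (pk_eq_one.2 h1)))
  exact ⟨k, hk, eq_of_p_eq ha.1 (xe_mem k) (GE.pk_injective ((beq_iff.1 e).symm.trans
    (pk_xe k).symm)) ha.2.1 (xe_mem_Dm k (by omega)).2.1⟩

/-- the action on the five tetrads -/
noncomputable def psiM : Dm →* S5 :=
  MonoidHom.mk' (fun a => (exists_blk a.2).choose) fun a b =>
    (exists_blk (a * b).2).choose_spec.1.unique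
      ((exists_blk a.2).choose_spec.1.mul (exists_blk b.2).choose_spec.1)

theorem psiM_eq {a : Dm} {σ : S5} (h : Blk a.1.p σ) : psiM a = σ :=
  (exists_blk a.2).choose_spec.1.unique h

theorem psiM_surj : Function.Surjective psiM := by
  rw [← MonoidHom.range_eq_top, eq_top_iff, ← s5_closure, closure_le]
  rintro _ (rfl | rfl)
  · exact ⟨⟨_, xe_mem_Dm 16 (by decide)⟩, psiM_eq (blk_of (by
      rw [pk_xe, pk_rot]; decide +kernel))⟩
  · exact ⟨⟨_, xe_mem_Dm 17 (by decide)⟩, psiM_eq (blk_of (by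
      rw [pk_xe, pk_swap]; decide +kernel))⟩

theorem psiM_eq_one {a : Dm} : psiM a = 1 ↔ ∃ k < 16, lin a.1 = xe k := by
  refine ⟨(exists_blk a.2).choose_spec.2, fun ⟨k, hk, e⟩ => psiM_eq (blk_of ?_)⟩
  rw [← lin_p, e, pk_xe, pk_one5]
  exact allN_iff.1 (show allN 16 (fun k => blkN (cP (xc k)) 18056) = true by decide +kernel) k hk

/-- the kernel of the action on the tetrads -/
noncomputable def Lm : Subgroup AG := psiM.ker.map Dm.subtype

theorem Lm_le_Dm : Lm ≤ Dm := map_subtype_le _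
theorem mem_Lm' {a : Dm} : a.1 ∈ Lm ↔ psiM a = 1 :=
  ⟨fun ⟨_, h, e⟩ => Subtype.ext e ▸ h, fun h => ⟨a, h, rfl⟩⟩
theorem mem_Lm {a : AG} : a ∈ Lm ↔ ∃ v ∈ Pp, ∃ k < 16, a = tr v * xe k := by
  constructor
  · intro h
    obtain ⟨k, hk, e⟩ := psiM_eq_one.1 ((mem_Lm' (a := ⟨a, Lm_le_Dm h⟩)).1 h)
    exact ⟨_, (Lm_le_Dm h).2.2.2, k, hk, by rw [← e, tr_mul_lin]⟩
  · rintro ⟨v, hv, k, hk, rfl⟩
    exact (mem_Lm' (a := ⟨_, mul_mem (tr_mem_Dm.2 hv) (xe_mem_Dm k (by omega))⟩)).2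
      (psiM_eq_one.2 ⟨k, hk, by rw [map_mul, lin_tr, one_mul, lin_xe]⟩)
theorem tr_mem_Lm {v : Vb} (h : v ∈ Pp) : tr v ∈ Lm :=
  mem_Lm.2 ⟨v, h, 0, by decide, by rw [xe_zero, mul_one]⟩
theorem xe_mem_Lm {k : ℕ} (h : k < 16) : xe k ∈ Lm :=
  mem_Lm.2 ⟨0, Pp.zero_mem, k, h, by rw [tr_zero, one_mul]⟩

theorem xe_facts : ∀ k < 16, ∀ l < 16, (xe k = xe l → k = l) ∧ xe k * xe l = xe l * xe k ∧
    xe k * xe k = 1 := fun k hk l hl => by
  have h : allN 16 (fun k => force (xc k) fun a => Nat.beq (cmul a a) cone && allN k fun l =>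
    force (xc l) fun b => !(Nat.beq a b) && Nat.beq (cmul a b) (cmul b a)) = true := by
    decide +kernel
  have h1 : ∀ k < 16, xe k * xe k = 1 ∧ ∀ l < k, xe k ≠ xe l ∧ xe k * xe l = xe l * xe k :=
    fun k hk => by
      have := allN_iff.1 h k hk
      simp only [force_eq, Bool.and_eq_true, allN_iff, beq_iff, ← cd_xe, ← cd_mul, ← cd_one,
        cd_inj, Bool.not_eq_true', ← Bool.not_eq_true] at this
      exact this
  rcases lt_trichotomy k l with h | rfl | h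
  · exact ⟨fun e => absurd e.symm ((h1 l hl).2 k h).1, ((h1 l hl).2 k h).2.symm, (h1 k hk).1⟩
  · exact ⟨fun _ => rfl, rfl, (h1 k hk).1⟩
  · exact ⟨fun e => absurd e ((h1 k hk).2 l h).1, ((h1 k hk).2 l h).2, (h1 k hk).1⟩

theorem card_Lm : Nat.card Lm = 2 ^ 14 := by
  refine (Nat.card_congr (Equiv.ofBijective (fun x : Pp × Fin 16 =>
    (⟨tr x.1 * xe x.2, mem_Lm.2 ⟨_, x.1.2, _, x.2.2, rfl⟩⟩ : Lm))
      ⟨fun a b e => ?_, fun a => ?_⟩)).symm.trans (by rw [Nat.card_prod, card_Pp, Nat.card_fin]; rfl)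
  · have e1 := Subtype.mk.inj e
    have e2 := congrArg lin e1
    simp only [map_mul, lin_tr, one_mul, lin_xe] at e2
    rw [e2, mul_left_inj, tr_inj] at e1
    exact Prod.ext (Subtype.ext e1) (Fin.ext ((xe_facts _ a.2.2 _ b.2.2).1 e2))
  · obtain ⟨v, hv, k, hk, e⟩ := mem_Lm.1 a.2
    exact ⟨(⟨v, hv⟩, ⟨k, hk⟩), Subtype.ext e.symm⟩

theorem add_xe_mem {k : ℕ} (hk : k < 16) : ∀ v ∈ Pp, v + (xe k).m v ∈ W1 := by
  have h : allN 16 (fun k => force (cA (xc k)) fun A => allN 12 fun i => force (col PM i) fun v =>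
    anyL [0, 0x56, 0x1a8, 0x1fe] (Nat.beq (Nat.xor v (ap A v)))) = true := by decide +kernel
  refine Pp_induction (by rw [map_zero, add_zero]; exact W1.zero_mem) (fun i hi => ?_)
    fun a b h1 h2 => by rw [map_add, add_add_add_comm]; exact W1.add_mem h1 h2
  have := allN_iff.1 h k hk
  rw [force_eq, allN_iff] at this
  have := this i hi
  rw [force_eq, anyL_iff] at this
  obtain ⟨a, ha, e⟩ := this
  rw [mem_W1, Vb.val_add, xe_val, Vb.val_of_lt (col_lt _ _)]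
  rw [← beq_iff.1 e] at ha; exact ha

theorem sq_mem_of_Lm {a : AG} (ha : a ∈ Lm) : a * a ∈ trS W1 := by
  obtain ⟨v, hv, k, hk, rfl⟩ := mem_Lm.1 ha
  rw [tr_mul_sq, (xe_facts k hk k hk).2.2, mul_one, tr_mem_trS]
  exact add_xe_mem hk v hv

theorem comm_mem_of_Lm {a b : AG} (ha : a ∈ Lm) (hb : b ∈ Lm) : a * b * a⁻¹ * b⁻¹ ∈ trS W1 := by
  obtain ⟨v, hv, k, hk, rfl⟩ := mem_Lm.1 ha
  obtain ⟨w, hw, l, hl, rfl⟩ := mem_Lm.1 hb
  have e : ∀ (v w : Vb) (a b : AG), tr v * a * (tr w * b) = tr (v + a.m w) * (a * b) :=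
    fun v w a b => by rw [tr_add, mul_assoc, ← mul_assoc a, mul_tr]; simp only [mul_assoc]
  rw [mul_assoc _ _⁻¹, ← mul_inv_rev, e, e, (xe_facts k hk l hl).2.1, mul_inv_rev, ← mul_assoc,
    mul_inv_cancel_right, tr_inv, ← tr_add, tr_mem_trS,
    show v + (xe k).m w + (w + (xe l).m v) = v + (xe l).m v + (w + (xe k).m w) by abel]
  exact W1.add_mem (add_xe_mem hl v hv) (add_xe_mem hk w hw)

theorem lin_eq_one_of_Lm {a : AG} (ha : a ∈ Lm) (h : ∀ v ∈ Pp, a.m v = v) : lin a = 1 := by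
  obtain ⟨v, hv, k, hk, rfl⟩ := mem_Lm.1 ha
  have k1 : allN 16 (fun k => force (cA (xc k)) fun A => bimp (allN 12 fun i =>
    Nat.beq (ap A (col PM i)) (col PM i)) (Nat.beq k 0)) = true := by decide +kernel
  have := allN_iff.1 k1 k hk
  rw [force_eq] at this
  rw [beq_iff.1 (bimp_iff.1 this (allN_iff.2 fun i hi => beq_iff.2 ?_)), xe_zero, mul_one, lin_tr]
  have := congrArg Vb.val (h _ (col_mem_Pp i hi))
  rwa [mul_m, tr_m, xe_val, Vb.val_of_lt (col_lt _ _)] at this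

theorem exists_comm_w : (∃ v ∈ Pp, v + (xe 1).m v = w1) ∧ (∃ v ∈ Pp, v + (xe 1).m v = w2) ∧
    ∃ v ∈ Pp, ∃ w ∈ Pp, B v w = 1 :=
  ⟨⟨⟨0x12, by decide⟩, mem_Pp'.2 (by decide +kernel), Vb.ext (by
      rw [Vb.val_add, xe_val]; decide +kernel)⟩,
    ⟨⟨0x6, by decide⟩, mem_Pp'.2 (by decide +kernel), Vb.ext (by
      rw [Vb.val_add, xe_val]; decide +kernel)⟩,
    ⟨⟨1, by decide⟩, mem_Pp'.2 (by decide +kernel), ⟨0x200, by decide⟩,
      mem_Pp'.2 (by decide +kernel), by rw [B_eq]; decide +kernel⟩⟩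

end Cfsg.Agent.H60.J4
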