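/-
Project SGJ4, pentad subgroup.  Elements of order 5 and 7 in the two models; a subgroup L3(2) of
the trio group.
-/
import Cfsg.Agent.SGJ4.NFacts
import Cfsg.Agent.H60.J4Mod
import Cfsg.Agent.H60.J4Gen

set_option autoImplicit false

namespace Cfsg.Agent.H60.J4

open Cfsg.Agent.H14 Cfsg.Agent.SGJ4 AG Subgroup Cfsg.Agent.H49
open scoped Pointwise

theorem m22_cent {g : Equiv.Perm GolayPt} (hg : g ∈ Spor.M22) {n : ℕ} (hn : n = 5 ∨ n = 7)
    (h : orderOf g = n) : Nat.card ↥(Spor.M22 ⊓ 𝒞[g]) = n := by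
  have k : allL m22Cl (fun c => force (ordN (nat_lit 5) (nat_lit 32) (nat_lit 24) c.X 24) fun o =>
    !(Nat.beq o 0) && bimp (Nat.beq o 5 || Nat.beq o 7) (Nat.beq c.c o)) = true := by decide +kernel
  obtain ⟨c, hc, -, h1, h2⟩ := m22_classes.conj' hg
  have := allL_iff.1 k c hc
  simp only [force_eq, Bool.and_eq_true, Bool.not_eq_true', ← Bool.not_eq_true, beq_iff, bimp_iff,
    Bool.or_eq_true] at this
  have h4 := (m22_classes.orderOf_eq hc rfl this.1).symm.trans (h1.trans h)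
  rw [h2, this.2 (h4 ▸ hn), h4]

theorem m22x_cent (g : Equiv.Perm GolayPt) :
    Nat.card ↥(M22x ⊓ 𝒞[g]) ≤ 2 * Nat.card ↥(Spor.M22 ⊓ 𝒞[g]) := by
  rw [card_eq_orbit_mul (M22x ⊓ 𝒞[g]) (none : GolayPt)]
  refine Nat.mul_le_mul ?_ (card_le_of_le fun a ha => ⟨(mem_M22_iff ha.1.1).2 ha.2, ha.1.2⟩)
  refine (Set.ncard_le_ncard (t := (({none, some 0} : Finset GolayPt) : Set GolayPt)) ?_).trans
    (by rw [Set.ncard_coe_finset]; decide)
  rintro _ ⟨a, ha, rfl⟩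
  rw [← (show a • ({none, some 0} : Finset GolayPt) = _ from ha.1.2)]
  exact Finset.smul_mem_smul_finset (Finset.mem_insert_self _ _)

/-- elements of order 7 of M24 are not real -/
theorem m24_seven {g : Equiv.Perm GolayPt} (hg : g ∈ M24) (h : orderOf g = 7) :
    ∀ a ∈ M24, a * g * a⁻¹ ≠ g⁻¹ := by
  have k : allL m24Cl (fun c => bimp (Nat.beq (ordN (nat_lit 5) (nat_lit 32) (nat_lit 24) c.X 24) 7)
    (allI (nat_lit 5) (nat_lit 32) (nat_lit 24) m24CertL 0 [(c.X, pinv c.X)] [] fun _ => false)) =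
      true := by decide +kernel
  obtain ⟨c, hc, ⟨b, hb, rfl⟩, h1, -⟩ := H97.m24_rep hg
  intro a ha e
  refine m24_chain.not_conj (GE.fixes_zero _) (bimp_iff.1 (allL_iff.1 k c hc) (beq_iff.2 (by omega)))
    (b⁻¹ * a * b) (mul_mem (mul_mem (inv_mem hb) ha) hb) ?_
  have e1 : GE.perm (pinv c.X) = (GE.perm c.X)⁻¹ := by
    conv_lhs => rw [← m24_classes.pk_perm hc]
    exact (congrArg GE.perm (GE.pk_inv _).symm).trans (GE.perm_pk _)
  rw [e1]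
  calc _ = b⁻¹ * (a * (b * GE.perm c.X * b⁻¹) * a⁻¹) * b := by group
    _ = _ := by rw [e]; group

theorem fix_of_comm {a y : AG} (hy : y.v = 0) (h : a * y = y * a) : y.m a.v = a.v := by
  have := congrArg AG.v h
  rwa [mul_v, mul_v, hy, map_zero, add_zero, zero_add, eq_comm] at this

theorem orderOf_p {a : AG} {n : ℕ} [Fact n.Prime] (h : a ^ n = 1) (h1 : a.p ≠ 1) :
    orderOf a.p = n := orderOf_eq_prime (by rw [← pr_apply, ← map_pow, h, map_one]) h1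

theorem xe_pow {i n : ℕ} (h : cpow (xc i) n = cone) : xe i ^ n = 1 :=
  cd_inj.1 (by rw [cd_pow, cd_xe, h, cd_one])
theorem xe_p_ne {i : ℕ} (h : cP (xc i) ≠ pone) : (xe i).p ≠ 1 := fun e =>
  h (by rw [← pk_xe, e, pk_one'])
theorem xe_inner {i : ℕ} (h : papp (cP (xc i)) 23 = 23) : Inner (xe i) := by
  have := p_pt (xe i) (i := 23) (by decide)
  rwa [cd_xe, h] at this

theorem d_pow : xe 16 ^ 5 = 1 := xe_pow (by decide +kernel)
theorem orderOf_dp : orderOf (xe 16).p = 5 :=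
  haveI : Fact (Nat.Prime 5) := ⟨by decide⟩
  orderOf_p d_pow (xe_p_ne (by decide +kernel))
theorem dp_mem : (xe 16).p ∈ Spor.M22 :=
  p_mem_M22 (X_le_Hb (xe_mem _)) (xe_inner (by decide +kernel))
theorem r_conj : xe 18 * xe 16 * (xe 18)⁻¹ = xe 16 ^ 2 := by
  rw [mul_inv_eq_iff_eq_mul, sq, ← cd_inj]
  simp only [cd_mul, cd_xe]; decide +kernel
theorem r_pow : xe 18 * xe 18 * (xe 18 * xe 18) = 1 := by
  rw [← cd_inj]; simp only [cd_mul, cd_xe, cd_one]; decide +kernel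
theorem l_comm : xe 19 * xe 16 = xe 16 * xe 19 := by
  rw [← cd_inj]; simp only [cd_mul, cd_xe]; decide +kernel
theorem l_sq : xe 19 * xe 19 = 1 := by
  rw [← cd_inj]; simp only [cd_mul, cd_xe, cd_one]; decide +kernel

theorem fix_list (A : ℕ) (f : ℕ → Bool) (l : List ℕ) (h : all2 64 64 (fun n =>
    bimp (Nat.beq (ap A n) n && f n) (anyL l (Nat.beq n))) = true) (v : Vb)
    (h1 : ap A v.val = v.val) (h2 : f v.val = true) : v.val ∈ l := by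
  obtain ⟨a, ha, e⟩ := anyL_iff.1 (bimp_iff.1 (all2_iff.1 h _ v.lt) (by
    rw [Bool.and_eq_true, beq_iff]; exact ⟨h1, h2⟩))
  rw [beq_iff.1 e]; exact ha

theorem fix_d {v : Vb} (h : (xe 16).m v = v) :
    (ty v.val = 1 → v ∈ W1) ∧ (v ∈ Pp → v ∈ W1) ∧ (q v = 0 → v ∈ W1 ∨ ty v.val = 2) ∧
      (ty v.val = 2 → v.val ∈ [0x68b, 0x723, 0x830, 0x9ce, 0xf13, 0xf45]) := by
  have h1 := fix_list (cA (xc 16)) (fun _ => true) [0x0, 0x56, 0x1a8, 0x1fe, 0x68b, 0x6dd, 0x723,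
    0x775, 0x830, 0x866, 0x998, 0x9ce, 0xebb, 0xeed, 0xf13, 0xf45] (by decide +kernel) v
    (by rw [← xe_val, h]) rfl
  rw [mem_W1, mem_Pp', q_eq_zero]
  revert h1
  generalize v.val = n
  revert n
  decide +kernel

theorem ty_W1 : ∀ v ∈ W1, v = 0 ∨ ty v.val = 1 := fun v hv => by
  rcases mem_W1'.1 hv with rfl | rfl | rfl | rfl
  · exact .inl rfl
  all_goals exact .inr (by decide +kernel)

theorem m_mem_W1_of_comm {a : AG} (ha : a ∈ Hb) (h : a * xe 16 = xe 16 * a) :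
    ∀ w ∈ W1, a.m w ∈ W1 := fun w hw => by
  rcases ty_W1 w hw with rfl | h1
  · rw [map_zero]; exact W1.zero_mem
  · have h2 := xe_mem_Dm 16 (by decide)
    exact (fix_d (by rw [← mul_m, ← h, mul_m, m_eq_of_W1 h2.2.1 h2.2.2.1 w hw])).1
      (by rw [ty_m ha, h1])

theorem lin_mem_of_comm {a : AG} (ha : a ∈ Hb) (h : a * xe 16 = xe 16 * a) (h1 : a.m w1 = w1)
    (h2 : a.m w2 = w2) : ∃ n : ℕ, lin a = xe 16 ^ n := by
  have e : zpowers (xe 16).p = Spor.M22 ⊓ 𝒞[(xe 16).p] := eq_of_le_of_card_eq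
    (zpowers_le.2 ⟨dp_mem, self_mem_cent1 _⟩) (by
      rw [Nat.card_zpowers, orderOf_dp, m22_cent dp_mem (.inl rfl) orderOf_dp])
  obtain ⟨n, -, hn⟩ := exists_pow_lt orderOf_dp (e.ge
    ⟨p_mem_M22 ha (inner_of_fix ha h1 h2), mem_cent1.2 (congrArg AG.p h)⟩)
  exact ⟨n, eq_of_p_eq ha (pow_mem (xe_mem _) n) (hn.trans (map_pow pr _ n).symm) h1
    (pow_mem (xe_mem_Dm 16 (by decide)) n).2.1⟩

def v8 : Vb := ⟨0x68b, by decide⟩
theorem v8_fix : (xe 16).m v8 = v8 := Vb.ext (by rw [xe_val]; decide +kernel)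
theorem v8_ty : ty v8.val = 2 := by decide +kernel
theorem v8_q : q (v8 + (xe 19).m v8) = 1 := q_eq_one.2 (by rw [Vb.val_add, xe_val]; decide +kernel)

theorem y_pow : xe 20 ^ 7 = 1 := xe_pow (by decide +kernel)
theorem orderOf_yp : orderOf (xe 20).p = 7 :=
  haveI : Fact (Nat.Prime 7) := ⟨by decide⟩
  orderOf_p y_pow (xe_p_ne (by decide +kernel))
theorem yp_mem : (xe 20).p ∈ Spor.M22 :=
  p_mem_M22 (X_le_Hb (xe_mem _)) (xe_inner (by decide +kernel))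

theorem card_cent_y : Nat.card ↥(Hb ⊓ 𝒞[xe 20]) ≤ 42 := by
  refine (card_le_mul pr (P := Hb ⊓ 𝒞[xe 20]) (A := zpowers om) (B := M22x ⊓ 𝒞[(xe 20).p])
    (fun a ha =>
    ⟨p_mem_M22x a ha.1, mem_cent1.2 (congrArg AG.p (mem_cent1.1 ha.2))⟩) fun a ha e => ?_).trans ?_
  · have h1 := fix_list (cA (xc 20)) (fun _ => true) [0] (by decide +kernel) a.v
      (by rw [← xe_val, fix_of_comm (xe_v 20) (mem_cent1.1 ha.2)]) rfl
    have h2 : lin a = a := lin_eq_self.2 (Vb.ext (List.mem_singleton.1 h1))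
    rcases ker_X a (h2 ▸ ha.1) e with rfl | rfl | rfl
    exacts [one_mem _, mem_zpowers _, mul_mem (mem_zpowers _) (mem_zpowers _)]
  · have := m22x_cent (xe 20).p
    rw [m22_cent yp_mem (.inr rfl) orderOf_yp] at this
    rw [Nat.card_zpowers, orderOf_om]; omega

theorem val_m_Nf {a : AG} (ha : a ∈ Nf) (v : Vb) : (a.m v).val = ap (cocM (GE.pk a.p)) v.val := by
  rw [← mk_of_mem_Nf ha, ap_mk]

theorem comm_tr_iff {a : AG} {v : Vb} : a * tr v = tr v * a ↔ a.m v = v := by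
  rw [mul_tr, mul_left_inj, tr_inj]

/-- an element of order 5 or 7 of the complement centralising `tN` -/
theorem exists_centN {i n : ℕ} (hn : n = 5 ∨ n = 7) (h1 : (xe i).p ∈ Spor.M22)
    (h2 : orderOf (xe i).p = n) (l : List ℕ) (hl : 0 ∈ l ∧ ∀ a ∈ l, ∀ b ∈ l, a ^^^ b ∈ l)
    (h3 : l.Nodup) (h4 : ∀ a ∈ l, a < 4096) (h : force (cocM (cP (xc i))) (fun A => all2 64 64
      fun n => bimp (Nat.beq (ap A n) n && Nat.beq (pn n) 0) (anyL l (Nat.beq n))) = true) :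
    ∃ y ∈ Ns, orderOf y = n ∧ y ∈ 𝒞[tN] ∧ Nat.card ↥(Ns ⊓ 𝒞[tN] ⊓ 𝒞[y]) ≤ 2 * n * l.length := by
  have k := kof_mem ⟨_, h1.1.1⟩
  refine ⟨_, Ks_le_Ns k, ?_, mem_cent1.2 (comm_tr_iff.2 ((fix_ts_iff k.1).2 (M22_le_M22x h1))), ?_⟩
  · rw [← h2]
    exact (orderOf_coe (ksEquiv.symm ⟨_, h1.1.1⟩)).trans
      ((ksEquiv.symm.orderOf_eq _).trans (orderOf_coe _).symm)
  refine (card_le_mul pr (P := Ns ⊓ 𝒞[tN] ⊓ 𝒞[kof ⟨_, h1.1.1⟩]) (A := trS (lsub l hl))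
    (B := M22x ⊓ 𝒞[(xe i).p]) (fun a ha =>
    ⟨(fix_ts_iff ha.1.1.1).1 (comm_tr_iff.1 (mem_cent1.1 ha.1.2)),
      mem_cent1.2 (congrArg AG.p (mem_cent1.1 ha.2))⟩) fun a ha e => ?_).trans ?_
  · rw [lin_eq_one.1 (lin_eq_of_p ha.1.1.1 Nf.one_mem e), tr_mem_trS]
    rw [force_eq] at h
    refine fix_list _ _ l h _ ?_ (beq_iff.2 (mem_Ev'.1 ha.1.1.2))
    rw [← pk_xe]
    exact (val_m_Nf k.1 _).symm.trans (congrArg Vb.val (fix_of_comm rfl (mem_cent1.1 ha.2)))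
  · have := m22x_cent (xe i).p
    rw [m22_cent h1 hn h2] at this
    rw [card_trS, show Nat.card (lsub l hl) = l.length from ncard_list l h3 h4]
    exact Nat.mul_le_mul_right _ this

theorem exists_centN5 :
    ∃ y ∈ Ns, orderOf y = 5 ∧ y ∈ 𝒞[tN] ∧ Nat.card ↥(Ns ⊓ 𝒞[tN] ⊓ 𝒞[y]) ≤ 80 :=
  exists_centN (.inl rfl) dp_mem orderOf_dp [0x0, 0x30, 0x445, 0x475, 0x810, 0x820, 0xc55, 0xc65]
    (by decide) (by decide) (by decide) (by decide +kernel)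

theorem exists_centN7 :
    ∃ y ∈ Ns, orderOf y = 7 ∧ y ∈ 𝒞[tN] ∧ Nat.card ↥(Ns ⊓ 𝒞[tN] ⊓ 𝒞[y]) ≤ 56 :=
  exists_centN (.inr rfl) yp_mem orderOf_yp [0x0, 0x475, 0x820, 0xc55]
    (by decide) (by decide) (by decide) (by decide +kernel)

/-! ### the trio -/

def zL : List ℕ := [0, 0x342, 0x88c, 0xbce, 0x838, 0xb7a, 0xb4, 0x3f6]
/-- the seven sextets refining the trio, and zero -/
def Zs : AddSubgroup Vb := lsub zL (by decide)
theorem mem_Zs {v : Vb} : v ∈ Zs ↔ v.val ∈ zL := Iff.rfl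
theorem card_Zs : Nat.card Zs = 8 := ncard_list _ (by decide) (by decide)
theorem Zs_le_Ev : Zs ≤ Ev := fun v hv => mem_Ev'.2
  ((by decide +kernel : ∀ n ∈ zL, pn n = 0) _ hv)
def z1 : Vb := ⟨0x88c, by decide⟩
def z2 : Vb := ⟨0x838, by decide⟩
theorem mem_Zs' {v : Vb} (h : v ∈ Zs) : ∃ w, (w = 0 ∨ w = z1 ∨ w = z2 ∨ w = z1 + z2) ∧
    (v = w ∨ v = w + zs) := by
  have k : ∀ n ∈ zL, ∃ m ∈ [0, 0x88c, 0x838, 0xb4], n = m ∨ n = m ^^^ 0x342 := by decide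
  obtain ⟨m, hm, e⟩ := k _ h
  refine ⟨Vb.of m, ?_, ?_⟩
  · simp only [List.mem_cons, List.not_mem_nil, or_false] at hm
    rcases hm with rfl | rfl | rfl | rfl <;> decide
  · refine e.imp (fun e => ?_) fun e => ?_
    · rw [← e, Vb.of_val]
    · rw [← Vb.of_val v, e, Vb.of_xor]; rfl

theorem gam_tr {v w : Vb} (l : List ℕ) (h1 : cw gN l = ctr v.val) (h2 : cw gH l = ctr w.val) :
    (tr v, tr w) ∈ Gam := gam_of_cw l (by rw [h1, cd_tr]) (by rw [h2, cd_tr])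
theorem gam_z1 : (tr z1, tr w1) ∈ Gam := gam_tr [1] (by decide +kernel) (by decide +kernel)
theorem gam_z2 : (tr z2, tr w2) ∈ Gam := gam_tr [2] (by decide +kernel) (by decide +kernel)

theorem isDuad_of {v : Vb} (i j : ℕ) (h : pt i ≠ pt j)
    (e : v.val = syn (2 ^ idx (pt i) ||| 2 ^ idx (pt j))) : IsDuad v := ⟨pt i, pt j, h, Vb.ext (by
  rw [show ({pt i, pt j} : Finset GolayPt) = bits (2 ^ idx (pt i) ||| 2 ^ idx (pt j)) by
    rw [bits_or, bits_two_pow, bits_two_pow]; rfl, val_cl_bits (Nat.or_lt_two_pow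
      (Nat.pow_lt_pow_right (by decide) (idx_lt _)) (Nat.pow_lt_pow_right (by decide) (idx_lt _))), e])⟩

theorem exists_ty_two : ∃ v w : Vb, (tr v, tr w) ∈ Gam ∧ ty w.val = 2 ∧ IsDuad v ∧
    IsDuad (v + zs) :=
  ⟨⟨0x8ea, by decide⟩, ⟨0xcc, by decide⟩, gam_tr [1, 3] (by decide +kernel) (by decide +kernel),
    by decide +kernel, isDuad_of 0 1 (by decide) (by decide +kernel),
    isDuad_of 2 3 (by decide) (by decide +kernel)⟩

def k2G : List ℕ := [nat_lit 0x9d2ab725e88464468cd7658a111d40, nat_lit 0x9c92bbd90e2c0c3a06b1035e261147]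
def k2L0 : Lev := ⟨nat_lit 1, nat_lit 0x149f, (.node (nat_lit 4) (.node (nat_lit 2) (.node (nat_lit 1) (.leaf (nat_lit 0x7da898b5d02cd6c90aa801ae450ce1)) (.leaf (nat_lit 0xbdab49ca307b9ac5a928398a418820))) (.node (nat_lit 3) (.leaf (nat_lit 0x724cd9d2f12a2c25aaaf04a072046c)) (.leaf (nat_lit 0x89ad272e6f2de8768eb00250c0a844)))) (.node (nat_lit 10) (.node (nat_lit 7) (.leaf (nat_lit 0x9d2ab725e88464468cd7658a111d40)) (.leaf (nat_lit 0x8b6b27d913bc0ca49e8e0aca361040))) (.node (nat_lit 12) (.leaf (nat_lit 0x9c92bbd90e2c0c3a06b1035e261147)) (.leaf (nat_lit 0x72ead89a1743d2190ad3250aa3b060)))))⟩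
def k2C0 : LevCert := ⟨k2L0,
    [(nat_lit 4, nat_lit 0), (nat_lit 10, nat_lit 1), (nat_lit 12, nat_lit 0), (nat_lit 2, nat_lit 1), (nat_lit 7, nat_lit 0), (nat_lit 3, nat_lit 1), (nat_lit 0, nat_lit 1)],
    [[nat_lit 0, nat_lit 0, nat_lit 2, nat_lit 0, nat_lit 2], [nat_lit 4, nat_lit 2, nat_lit 4, nat_lit 4]],
    [nat_lit 0xbd53474a33440ca68ec522de060827, nat_lit 0xbad34854b1722c2331b31c9ea20027]⟩
def k2L1 : Lev := ⟨nat_lit 0, nat_lit 0x149d, (.node (nat_lit 4) (.node (nat_lit 2) (.leaf (nat_lit 0xbdab49ca307b9ac5a928398a418820)) (.node (nat_lit 3) (.leaf (nat_lit 0xbad34854b1722c2331b31c9ea20027)) (.leaf (nat_lit 0xbb6d49a5f1816a25a8ce6490301c24)))) (.node (nat_lit 10) (.node (nat_lit 7) (.leaf (nat_lit 0xbd53474a33440ca68ec522de060827)) (.leaf (nat_lit 0xba6d484a2e2cd63332af0350750824))) (.node (nat_lit 12) (.leaf (nat_lit 0xbd8d42a5f37464aa81a81ae0411c2c)) (.leaf (nat_lit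 0xb99b48a5e544d6090ad0255cc51c23)))))⟩
def k2C1 : LevCert := ⟨k2L1,
    [(nat_lit 4, nat_lit 0), (nat_lit 2, nat_lit 1), (nat_lit 7, nat_lit 0), (nat_lit 3, nat_lit 1), (nat_lit 12, nat_lit 1), (nat_lit 10, nat_lit 0)],
    [[nat_lit 0, nat_lit 0, nat_lit 2]],
    [nat_lit 0xb9ab4759119bd2268d70548ac39020]⟩
def k2L2 : Lev := ⟨nat_lit 2, nat_lit 0x1014, (.node (nat_lit 4) (.leaf (nat_lit 0xbdab49ca307b9ac5a928398a418820)) (.node (nat_lit 12) (.leaf (nat_lit 0xbcab479a0874d6449db11d8a253020)) (.leaf (nat_lit 0xb9ab4759119bd2268d70548ac39020))))⟩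
def k2C2 : LevCert := ⟨k2L2,
    [(nat_lit 12, nat_lit 0), (nat_lit 4, nat_lit 0)],
    [],
    []⟩
def k2 : List LevCert := [k2C0, k2C1, k2C2]
def k2L : List Lev := [k2L0, k2L1, k2L2]

theorem inG_k2G : ∀ P ∈ k2G, GE.InG M24 P := fun P hP =>
  have := (by decide +kernel : ∀ P ∈ k2G, pvalid P = true ∧ inM24 P = true) P hP
  inG_M24 this.1 this.2

theorem k2_chain : GE.IsChain k2L (GE.grp k2G) :=
  Enc.isChain_of_ssOK (cs := k2) (fun P hP => let ⟨g, _, e⟩ := inG_k2G P hP; ⟨g, e⟩)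
    (by decide +kernel)

/-- a subgroup L3(2) of the trio group -/
def K2 : Subgroup AG := Ks ⊓ (GE.grp k2G).comap pr

theorem K2_le_Ns : K2 ≤ Ns := inf_le_left.trans Ks_le_Ns

theorem card_K2 : Nat.card K2 = 168 := by
  have h := Enc.grp_le inG_k2G
  rw [Nat.card_congr (Equiv.ofBijective (fun a : K2 => (⟨a.1.p, a.2.2⟩ : GE.grp k2G))
    ⟨fun a b e => Subtype.ext (by
      rw [← lin_eq_self.2 a.2.1.2, ← lin_eq_self.2 b.2.1.2]
      exact lin_eq_of_p a.2.1.1 b.2.1.1 (Subtype.mk.inj e)),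
    fun g => ⟨⟨kof ⟨g, h g.2⟩, kof_mem _, g.2⟩, rfl⟩⟩), k2_chain.card]
  decide +kernel

theorem K2_facts {a : AG} (ha : a ∈ K2) :
    (∀ v ∈ Zs, a.m v ∈ Zs) ∧ ((∀ v ∈ Zs, a.m v = v) → a = 1) := by
  have h := k2_chain.forall_of_allElts (f := fun P => force (cocM P) fun A =>
    allL zL (fun v => force (ap A v) fun w => anyL zL (Nat.beq w)) &&
      bimp (allL zL fun v => Nat.beq (ap A v) v) (Nat.beq P pone)) (by decide +kernel) a.p ha.2
  simp only [force_eq, Bool.and_eq_true, allL_iff, anyL_iff, bimp_iff, beq_iff] at h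
  refine ⟨fun v hv => ?_, fun k => ?_⟩
  · obtain ⟨w, hw, e⟩ := h.1 _ hv
    rw [mem_Zs, val_m_Nf ha.1.1, e]; exact hw
  · rw [← lin_eq_self.2 ha.1.2]
    refine lin_eq_of_p ha.1.1 Nf.one_mem (GE.pk_injective ((h.2 fun n hn => ?_).trans pk_one'.symm))
    have h1 : n < 4096 := (by decide : ∀ n ∈ zL, n < 4096) n hn
    exact (val_m_Nf ha.1.1 ⟨n, h1⟩).symm.trans (congrArg Vb.val (k ⟨n, h1⟩ hn))

theorem inS_K2 {c : ℕ} (h1 : inNf c = true) (h2 : cV c = 0)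
    (h3 : sift (nat_lit 5) (nat_lit 32) (nat_lit 24) k2L (cP c) = true) : InS K2 c := by
  obtain ⟨a, ha, rfl⟩ := inS_Nf h1
  exact ⟨a, ⟨⟨ha, Vb.ext (by rw [← cV_cd, h2]; rfl)⟩, k2_chain.mem_iff_sift.2 (cP_cd a ▸ h3)⟩, rfl⟩

theorem exists_seven : ∃ s ∈ K2, ∃ u ∈ K2, orderOf s = 7 ∧ u * s * u⁻¹ = s ^ 2 ∧
    ∀ v ∈ Zs, v ≠ 0 → ∃ k : ℕ, (s ^ k).m zs = v := by
  obtain ⟨s, hs, e1⟩ := inS_K2
    (c := nat_lit 0x80100200e3a0047b40083da0100200409b39d2ab725e88464468cd7658a111d40)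
    (by decide +kernel) (by decide +kernel) (by decide +kernel)
  obtain ⟨u, hu, e2⟩ := inS_K2
    (c := nat_lit 0x80400200e3a020100800008004010ecc1ed9daab8d2ef740c7909a81a4a460540)
    (by decide +kernel) (by decide +kernel) (by decide +kernel)
  have : Fact (Nat.Prime 7) := ⟨by decide⟩
  refine ⟨s, hs, u, hu, orderOf_eq_prime (cd_inj.1 ?_) (cd_inj.ne.1 ?_), ?_, fun v hv h0 => ?_⟩
  · rw [cd_pow, e1, cd_one]; decide +kernel
  · rw [e1, cd_one]; decide +kernel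
  · rw [mul_inv_eq_iff_eq_mul, sq, ← cd_inj]
    simp only [cd_mul, e1, e2]; decide +kernel
  · have k : allL zL (fun n => Nat.beq n 0 || anyN 7 fun k => Nat.beq (ap (cA (cpow
      (nat_lit 0x80100200e3a0047b40083da0100200409b39d2ab725e88464468cd7658a111d40) k)) 834) n) =
        true := by decide +kernel
    have := allL_iff.1 k _ hv
    rw [Bool.or_eq_true, beq_iff, anyN_iff] at this
    obtain ⟨k, -, e⟩ := this.resolve_left fun e => h0 (Vb.ext e)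
    exact ⟨k, Vb.ext (by rw [val_m, cd_pow, e1]; exact beq_iff.1 e)⟩

end Cfsg.Agent.H60.J4
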