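/-
Project SGJ4, pentad subgroup.  The special group of order 2^15 and its normaliser.
-/
import Cfsg.Agent.SGJ4.Link
import Cfsg.Agent.H60.J4Mod2
import Cfsg.Agent.H60.J4Core
import Cfsg.Agent.H1.Frattini

set_option autoImplicit false

namespace Cfsg.Agent.H60.J4

open Cfsg.Agent.SGJ4 AG Subgroup Cfsg.Agent.H49 Setup1

variable {G : Type*} [Group G]

section one

variable {S : Setup1 G}

/-- the elementary abelian group of order 8 -/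
def ZZ (S : Setup1 G) : Subgroup G := S.pre (trS W1)
/-- the special group of order 2^15 -/
noncomputable def LL (S : Setup1 G) : Subgroup G := S.pre Lm

theorem mem_ZZ {g : G} : g ∈ ZZ S ↔ g ∈ S.H ∧ ∃ w ∈ W1, tr w = S.pi g := by
  rw [ZZ, mem_pre, mem_trS]
theorem ZZ_le_H : ZZ S ≤ S.H := pre_le_H _
theorem z_mem_ZZ : S.z ∈ ZZ S := z_mem_pre _
theorem card_ZZ : Nat.card (ZZ S) = 8 := by
  rw [ZZ, card_pre (A := trS W1) fun _ ⟨v, _, e⟩ => e ▸ tr_mem_Hb _, card_trS, card_W1]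

theorem comm_iff_B {g h : G} (hg : g ∈ S.H) (hh : h ∈ S.H) {v w : Vb} (e1 : S.pi g = tr v)
    (e2 : S.pi h = tr w) : g * h = h * g ↔ B v w = 0 := by
  rw [comm_of_pi hg hh e1 e2, mul_eq_left, zp_eq_one S.z_ne_one]

theorem ZZ_elem : IsElementaryAbelian 2 (ZZ S) := by
  refine ⟨abelian_iff.2 (le_cent_iff.2 fun a ha b hb => ?_), fun a ha => ?_⟩
  · obtain ⟨h1, v, hv, e1⟩ := mem_ZZ.1 ha
    obtain ⟨h2, w, hw, e2⟩ := mem_ZZ.1 hb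
    exact (comm_iff_B h2 h1 e2.symm e1.symm).2 (B_of_mem_Pp (W1_le_Pp hw) hv)
  · obtain ⟨h1, v, hv, e1⟩ := mem_ZZ.1 ha
    rw [sq, sq_of_pi h1 e1.symm, q_W1 v hv, zp_zero]

theorem comm_iff_of_fix {g e : G} (hg : g ∈ S.H) (h1 : (S.pi g).m w1 = w1)
    (h2 : (S.pi g).m w2 = w2) (he : e ∈ S.H) {w : Vb} (hw : w ∈ W1) (e1 : S.pi e = tr w) :
    g * e = e * g ↔ B (S.pi g).v w = 0 := by
  obtain ⟨a, ha, l, hl, e2, e3, e4⟩ := decomp hg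
  have := cent_of_fix hl (e3 ▸ lin_mem_X (pi_mem g))
    (e3 ▸ inner_lin.2 (inner_of_fix (pi_mem g) h1 h2)) he e1 (e3 ▸ m_eq_of_W1 h1 h2 w hw)
  rw [← comm_iff_B ha he e2 e1, e4, mul_assoc, this, ← mul_assoc, ← mul_assoc, mul_left_inj]

theorem m_eq_of_comm {g e : G} (hg : g ∈ S.H) (he : e ∈ S.H) {w : Vb} (e1 : S.pi e = tr w)
    (h : g * e = e * g) : (S.pi g).m w = w := by
  rw [← tr_inj, ← pi_conj_tr hg he e1, h, mul_inv_cancel_right, e1]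

theorem cent_ZZ : 𝒞(ZZ S) = S.pre Dm := by
  ext g
  rw [mem_pre, mem_Dm]
  refine ⟨fun h => ?_, fun ⟨hg, _, h1, h2, h3⟩ e he => ?_⟩
  · have hg : g ∈ S.H := S.mem_H.2 (h _ z_mem_ZZ).symm
    obtain ⟨a, ha, e1⟩ := exists_tr (S := S) w1
    obtain ⟨b, hb, e2⟩ := exists_tr (S := S) w2
    have c1 := (h a (mem_ZZ.2 ⟨ha, _, w1_mem, e1.symm⟩)).symm
    have c2 := (h b (mem_ZZ.2 ⟨hb, _, w2_mem, e2.symm⟩)).symm
    have h1 := m_eq_of_comm hg ha e1 c1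
    have h2 := m_eq_of_comm hg hb e2 c2
    exact ⟨hg, pi_mem g, h1, h2, (comm_iff_of_fix hg h1 h2 ha w1_mem e1).1 c1,
      (comm_iff_of_fix hg h1 h2 hb w2_mem e2).1 c2⟩
  · obtain ⟨h4, w, hw, e1⟩ := mem_ZZ.1 he
    exact ((comm_iff_of_fix hg h1 h2 h4 hw e1.symm).2 (B_of_mem_Pp h3 hw)).symm

theorem mem_cent_ZZ {g : G} : g ∈ 𝒞(ZZ S) ↔ g ∈ S.H ∧ S.pi g ∈ Dm := by rw [cent_ZZ, mem_pre]

theorem mem_norm_ZZ [Finite G] {g : G} (hg : g ∈ S.H) (h : ∀ w ∈ W1, (S.pi g).m w ∈ W1) :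
    g ∈ 𝒩(ZZ S) := mem_norm_of_cj_le fun y hy => by
  obtain ⟨e, he, rfl⟩ := mem_cj'.1 hy
  obtain ⟨h1, w, hw, e1⟩ := mem_ZZ.1 he
  exact mem_ZZ.2 ⟨conj_mem_H hg h1, _, h w hw, (pi_conj_tr hg h1 e1.symm).symm⟩

/-- the action on the five tetrads -/
noncomputable def psi (S : Setup1 G) : 𝒞(ZZ S) →* S5 :=
  MonoidHom.mk' (fun d => psiM ⟨S.pi d, (mem_cent_ZZ.1 d.2).2⟩) fun a b => by
    rw [← map_mul]
    exact congrArg psiM (Subtype.ext (pi_mul (mem_cent_ZZ.1 a.2).1 (mem_cent_ZZ.1 b.2).1))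

theorem psi_surj : Function.Surjective (psi S) := fun σ => by
  obtain ⟨⟨a, ha⟩, rfl⟩ := psiM_surj σ
  obtain ⟨g, hg, rfl⟩ := exists_pi (S := S) (Dm_le_Hb ha)
  exact ⟨⟨g, mem_cent_ZZ.2 ⟨hg, ha⟩⟩, rfl⟩

theorem mem_LL {g : G} : g ∈ LL S ↔ g ∈ S.H ∧ S.pi g ∈ Lm := mem_pre
theorem psi_eq_one {d : 𝒞(ZZ S)} : psi S d = 1 ↔ (d : G) ∈ LL S := by
  rw [mem_LL, and_iff_right (mem_cent_ZZ.1 d.2).1]
  exact (mem_Lm' (a := ⟨S.pi d, _⟩)).symm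
theorem LL_le_cent : LL S ≤ 𝒞(ZZ S) := cent_ZZ (S := S) ▸ pre_mono Lm_le_Dm
theorem ZZ_le_LL : ZZ S ≤ LL S := pre_mono fun _ ⟨_, hv, e⟩ => e ▸ tr_mem_Lm (W1_le_Pp hv)
theorem card_LL : Nat.card (LL S) = 2 ^ 15 := by
  rw [LL, card_pre (Lm_le_Dm.trans Dm_le_Hb), card_Lm]; rfl

theorem sq_mem_ZZ {g : G} (h : g ∈ LL S) : g * g ∈ ZZ S :=
  have ⟨h1, h2⟩ := mem_LL.1 h
  mem_pre.2 ⟨mul_mem h1 h1, by rw [pi_mul h1 h1]; exact sq_mem_of_Lm h2⟩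

theorem comm_mem_ZZ {g h : G} (hg : g ∈ LL S) (hh : h ∈ LL S) : g * h * g⁻¹ * h⁻¹ ∈ ZZ S :=
  have ⟨h1, h2⟩ := mem_LL.1 hg
  have ⟨h3, h4⟩ := mem_LL.1 hh
  mem_pre.2 ⟨mul_mem (conj_mem_H h1 h3) (inv_mem h3), by
    rw [pi_mul (conj_mem_H h1 h3) (inv_mem h3), pi_conj h1 h3, pi_inv h3]
    exact comm_mem_of_Lm h2 h4⟩

theorem pow_four_LL {g : G} (h : g ∈ LL S) : g ^ 4 = 1 := by
  rw [show g ^ 4 = g * g * (g * g) by simp only [pow_succ, pow_zero]; group]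
  exact elem_mul_self ZZ_elem (sq_mem_ZZ h)

theorem LL_inf_cent : LL S ⊓ 𝒞(LL S) = ZZ S := by
  refine le_antisymm (fun g ⟨hg, h⟩ => ?_) (le_inf ZZ_le_LL (cent_symm LL_le_cent))
  obtain ⟨h1, h2⟩ := mem_LL.1 hg
  have k : ∀ v ∈ Pp, ∃ e ∈ S.H, S.pi e = tr v ∧ g * e = e * g := fun v hv =>
    let ⟨e, he, e1⟩ := exists_tr (S := S) v
    ⟨e, he, e1, (h e (mem_LL.2 ⟨he, e1 ▸ tr_mem_Lm hv⟩)).symm⟩
  have h3 := lin_eq_one.1 (lin_eq_one_of_Lm h2 fun v hv =>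
    let ⟨_, he, e1, e2⟩ := k v hv; m_eq_of_comm h1 he e1 e2)
  exact mem_ZZ.2 ⟨h1, _, mem_W1_of_perp fun v hv =>
    let ⟨_, he, e1, e2⟩ := k v hv; (comm_iff_B h1 he h3 e1).1 e2, h3.symm⟩

theorem der_LL : ⁅LL S, LL S⁆ = ZZ S := by
  refine le_antisymm (commutator_le.2 fun a ha b hb => comm_mem_ZZ ha hb) ?_
  obtain ⟨⟨v1, a1, a2⟩, ⟨v2, b1, b2⟩, v, c1, w, c2, c3⟩ := exists_comm_w
  have h1 : ⁅LL S, LL S⁆ ≤ S.H := der_le.trans (pre_le_H _)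
  have h2 : S.z ∈ ⁅LL S, LL S⁆ := by
    obtain ⟨e, he, e1⟩ := exists_tr (S := S) v
    obtain ⟨f, hf, e2⟩ := exists_tr (S := S) w
    have := commutator_mem_commutator (mem_LL.2 ⟨he, e1 ▸ tr_mem_Lm c1⟩)
      (mem_LL.2 ⟨hf, e2 ▸ tr_mem_Lm c2⟩)
    rwa [commutatorElement_def, comm_of_pi he hf e1 e2, c3, zp_one, mul_assoc f, S.mem_H.1 he,
      ← mul_assoc, mul_inv_cancel_right, S.conj_z hf] at this
  have h3 : ∀ v ∈ Pp, tr (v + (xe 1).m v) ∈ S.bar ⁅LL S, LL S⁆ := fun v hv => by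
    obtain ⟨e, he, e1⟩ := exists_tr (S := S) v
    obtain ⟨f, hf, e2⟩ := exists_pi (S := S) (X_le_Hb (xe_mem 1))
    have := commutator_mem_commutator (mem_LL.2 ⟨he, e1 ▸ tr_mem_Lm hv⟩)
      (mem_LL.2 ⟨hf, e2 ▸ xe_mem_Lm (by decide)⟩)
    have := pi_mem_bar this (h1 this)
    rwa [commutatorElement_def, pi_mul (conj_mem_H he hf) (inv_mem hf), pi_conj he hf, pi_inv hf,
      e1, e2, tr_conj, mul_inv_cancel_right] at this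
  rw [← pre_bar h1 h2]
  refine pre_mono ?_
  rintro _ ⟨u, hu, rfl⟩
  have h4 := a2 ▸ h3 v1 a1
  have h5 := b2 ▸ h3 v2 b1
  change tr u ∈ _
  rcases mem_W1'.1 hu with rfl | rfl | rfl | rfl
  exacts [tr_zero ▸ one_mem _, h4, h5, tr_add _ _ ▸ mul_mem h4 h5]

theorem center_LL : center (LL S) = (ZZ S).subgroupOf (LL S) := by
  ext a
  rw [mem_subgroupOf, ← LL_inf_cent, mem_inf, and_iff_right a.2, mem_center_iff]
  exact ⟨fun h b hb => congrArg Subtype.val (h ⟨b, hb⟩), fun h b => Subtype.ext (h b b.2)⟩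

theorem special_LL [Finite G] : IsSpecial 2 (LL S) := by
  have : Fact (Nat.Prime 2) := ⟨Nat.prime_two⟩
  have h1 : IsPGroup 2 (LL S) := IsPGroup.of_card card_LL
  have h2 : commutator (LL S) = center (LL S) := by
    rw [center_LL, ← der_LL, ← map_subtype_commutator, subgroupOf,
      comap_map_eq_self_of_injective (subtype_injective _)]
  refine ⟨h1, le_antisymm (H1.frattini_le_of_elementary Nat.prime_two h2.le fun a => ?_)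
    (h2 ▸ H1.commutator_le_frattini h1), h2⟩
  rw [center_LL, mem_subgroupOf, sq]
  exact sq_mem_ZZ a.2

theorem norm_LL_le : 𝒩(LL S) ≤ 𝒩(ZZ S) := by
  rw [← LL_inf_cent]; exact norm_inf le_rfl (norm_cent le_rfl)

theorem exists_lift_odd {b : AG} (hb : b ∈ Hb) {n : ℕ} (hn : Odd n) (h : b ^ n = 1) :
    ∃ g ∈ S.H, S.pi g = b ∧ g ^ n = 1 := by
  obtain ⟨g, hg, rfl⟩ := exists_pi (S := S) hb
  refine ⟨_, pow_mem hg (n + 1), by rw [pi_pow hg, pow_succ, h, one_mul], ?_⟩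
  obtain ⟨k, hk⟩ := hn.add_one
  rw [← pow_mul, mul_comm, pow_mul, hk, pow_add, ← Commute.mul_pow (Commute.refl _)]
  rcases (pi_eq_one (pow_mem hg n)).1 ((pi_pow hg n).trans h) with e | e
  · rw [e, one_mul, one_pow]
  · rw [e, S.z_mul_z, one_pow]

theorem conj_eq_odd {g a b : G} (hg : g ∈ S.H) (ha : a ∈ S.H) (hb : b ∈ S.H) {n : ℕ} (hn : Odd n)
    (h1 : a ^ n = 1) (h2 : b ^ n = 1) (h : S.pi g * S.pi a * (S.pi g)⁻¹ = S.pi b) :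
    g * a * g⁻¹ = b :=
  eq_of_pi_odd (conj_mem_H hg ha) hb ((pi_conj hg ha).trans h) hn
    (by rw [conj_pow, h1, mul_one, mul_inv_cancel]) h2

theorem comm_of_odd {g a : G} (hg : g ∈ S.H) (ha : a ∈ S.H) {n : ℕ} (hn : Odd n) (h1 : a ^ n = 1)
    (h : S.pi g * S.pi a = S.pi a * S.pi g) : g ∈ 𝒞[a] :=
  mem_cent1.2 (mul_inv_eq_iff_eq_mul.1 (conj_eq_odd hg ha ha hn h1 h1 (mul_inv_eq_iff_eq_mul.2 h)))

theorem pi_comm {g a : G} (hg : g ∈ S.H) (ha : a ∈ S.H) (h : g ∈ 𝒞[a]) :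
    S.pi g * S.pi a = S.pi a * S.pi g := by rw [← pi_mul hg ha, mem_cent1.1 h, pi_mul ha hg]

end one

variable {S : Setup G}

open Setup

theorem th_gam {a b : AG} (h : (a, b) ∈ Gam) : S.th a ∈ S.H ∧ S.pi (S.th a) = b :=
  ⟨(th_mem_H (gam_fst h).1).2 (gam_fst h), pi_th (gam_fst h).1 h⟩

theorem th_mem_ZZ {v : Vb} (hv : v ∈ Zs) : S.th (tr v) ∈ ZZ S.toSetup1 := by
  have h1 : S.th (tr z1) ∈ ZZ S.toSetup1 :=
    mem_ZZ.2 ⟨(th_gam gam_z1).1, _, w1_mem, (th_gam gam_z1).2.symm⟩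
  have h2 : S.th (tr z2) ∈ ZZ S.toSetup1 :=
    mem_ZZ.2 ⟨(th_gam gam_z2).1, _, w2_mem, (th_gam gam_z2).2.symm⟩
  have e1 : z1 ∈ Ev := Zs_le_Ev (mem_Zs.2 (by decide))
  have e2 : z2 ∈ Ev := Zs_le_Ev (mem_Zs.2 (by decide))
  obtain ⟨w, hw, e⟩ := mem_Zs' hv
  have h3 : w ∈ Ev ∧ S.th (tr w) ∈ ZZ S.toSetup1 := by
    rcases hw with rfl | rfl | rfl | rfl
    exacts [⟨Ev.zero_mem, by rw [tr_zero, th_one]; exact one_mem _⟩, ⟨e1, h1⟩, ⟨e2, h2⟩,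
      ⟨Ev.add_mem e1 e2, by rw [th_tr_add e1 e2]; exact mul_mem h1 h2⟩]
  rcases e with rfl | rfl
  · exact h3.2
  · rw [th_tr_add h3.1 zs_mem]
    exact mul_mem h3.2 (th_zN (S := S) ▸ z_mem_ZZ :)

theorem exists_th_of_ZZ [Finite G] {y : G} (hy : y ∈ ZZ S.toSetup1) :
    ∃ v ∈ Zs, S.th (tr v) = y := by
  have : S.im (trS Zs) = ZZ S.toSetup1 := eq_of_le_of_card_eq (fun g hg => by
    obtain ⟨_, ⟨v, hv, rfl⟩, -, rfl⟩ := mem_im.1 hg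
    exact th_mem_ZZ hv) (by
      rw [card_im (A := trS Zs) fun _ ⟨v, hv, e⟩ => e ▸ tr_mem_Ns.2 (Zs_le_Ev hv), card_trS,
        card_Zs, card_ZZ])
  obtain ⟨_, ⟨v, hv, rfl⟩, -, rfl⟩ := mem_im.1 (this.ge hy)
  exact ⟨v, hv, rfl⟩

variable [Finite G]

theorem K2_le_norm : S.im K2 ≤ 𝒩(ZZ S.toSetup1) := le_norm_iff.2 fun g hg y hy => by
  obtain ⟨a, ha, h1, rfl⟩ := mem_im.1 hg
  obtain ⟨v, hv, rfl⟩ := exists_th_of_ZZ hy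
  rw [conj_th_tr h1 (Zs_le_Ev hv)]
  exact th_mem_ZZ ((K2_facts ha).1 v hv)

omit [Finite G] in
theorem K2_inf_cent {g : G} (hg : g ∈ S.im K2) (h : g ∈ 𝒞(ZZ S.toSetup1)) : g = 1 := by
  obtain ⟨a, ha, h1, rfl⟩ := mem_im.1 hg
  refine (th_eq_one h1).2 ((K2_facts ha).2 fun v hv => ?_)
  have h2 := Zs_le_Ev hv
  rw [← tr_inj, ← th_inj (S := S) (tr_mem_Ns.2 ((m_mem_Ev h1.1).2 h2)) (tr_mem_Ns.2 h2),
    ← conj_th_tr h1 h2, ← h _ (th_mem_ZZ hv), mul_inv_cancel_right]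

theorem ZZ_trans : ∀ y ∈ ZZ S.toSetup1, y ≠ 1 → ∃ m ∈ 𝒩(ZZ S.toSetup1), m * S.z * m⁻¹ = y := by
  intro y hy y1
  obtain ⟨v, hv, rfl⟩ := exists_th_of_ZZ hy
  obtain ⟨s, hs, -, -, -, -, h⟩ := exists_seven
  obtain ⟨k, e⟩ := h v hv fun e => y1 (by rw [e, tr_zero, th_one])
  have h1 := K2_le_Ns (pow_mem hs k)
  exact ⟨_, K2_le_norm ((th_mem_im h1).2 (pow_mem hs k)), by
    rw [← e, ← conj_th_tr h1 zs_mem, ← th_zN]; rfl⟩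

theorem K2_bij {ρ : 𝒩(ZZ S.toSetup1) →* L3} (hρ : Rep3 _ ρ) :
    Function.Bijective (ρ.comp (inclusion (K2_le_norm (S := S)))) :=
  (Nat.bijective_iff_injective_and_card _).2 ⟨(injective_iff_map_eq_one _).2 fun a h =>
    Subtype.ext (K2_inf_cent a.2 ((hρ.ker _).1 h)), by rw [card_im K2_le_Ns, card_K2, card_L3]⟩

theorem rho_surj {ρ : 𝒩(ZZ S.toSetup1) →* L3} (hρ : Rep3 _ ρ) : Function.Surjective ρ :=
  fun A => let ⟨_, e⟩ := (K2_bij hρ).2 A; ⟨_, e⟩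

variable (S) in
theorem exists_phi : ∃ φ : 𝒩(ZZ S.toSetup1) →* S5 × L3, Rep3 _ ((MonoidHom.snd _ _).comp φ) ∧
    Function.Surjective φ ∧ ∀ m, φ m = 1 ↔ (m : G) ∈ LL S.toSetup1 := by
  obtain ⟨ρ, hρ⟩ := exists_rep3 (ZZ_elem (S := S.toSetup1)) card_ZZ
  obtain ⟨φ, hφ⟩ := exists_ext (cent_le_norm _) (norm_cent le_rfl) (psi S.toSetup1) psi_surj
    fun d hd => pow_four_LL (psi_eq_one.1 hd)
  refine ⟨φ.prod ρ, hρ, fun x => ?_, fun m => ⟨fun h => ?_, fun h => Prod.ext ?_ ?_⟩⟩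
  · obtain ⟨k, e1⟩ := rho_surj hρ x.2
    obtain ⟨d, e2⟩ := psi_surj (S := S.toSetup1) (x.1 * (φ k)⁻¹)
    refine ⟨⟨d, cent_le_norm _ d.2⟩ * k, Prod.ext ?_ ?_⟩
    · rw [MonoidHom.prod_apply, map_mul, hφ, e2, inv_mul_cancel_right]
    · rw [MonoidHom.prod_apply, map_mul ρ, (hρ.ker _).2 d.2, one_mul, e1]
  · exact psi_eq_one.1 ((hφ ⟨m, (hρ.ker m).1 (congrArg Prod.snd h)⟩).symm.trans
      (congrArg Prod.fst h))
  · exact (hφ ⟨m, LL_le_cent h⟩).trans (psi_eq_one.2 h)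
  · exact (hρ.ker m).2 (LL_le_cent h)

theorem norm_LL : 𝒩(LL S.toSetup1) = 𝒩(ZZ S.toSetup1) := by
  obtain ⟨φ, -, -, h⟩ := exists_phi S
  refine le_antisymm norm_LL_le (le_norm_iff.2 fun m hm l hl => ?_)
  have h1 := cent_le_norm _ (LL_le_cent hl)
  exact (h (⟨m, hm⟩ * ⟨l, h1⟩ * ⟨m, hm⟩⁻¹)).1 (by
    rw [map_mul, map_mul, (h ⟨l, h1⟩).2 hl, mul_one, map_inv, mul_inv_cancel])

end Cfsg.Agent.H60.J4
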