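/-
Project SGJ4.  The elements of order 5.
-/
import Cfsg.Agent.H60.J4Pent

set_option autoImplicit false

namespace Cfsg.Agent.H60.J4

open Cfsg.Agent.SGJ4 AG Subgroup Cfsg.Agent.H49 Setup1 Setup

variable {G : Type*} [Group G]

/-- the local data at an element of order 5 -/
structure Five (Z : Subgroup G) (z x r g : G) : Prop where
  elem : IsElementaryAbelian 2 Z
  card : Nat.card Z = 8
  z_mem : z ∈ Z
  z_ne : z ≠ 1
  ord : orderOf x = 5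
  x_mem : x ∈ 𝒞(Z)
  conj : r * x * r⁻¹ = x ^ 2
  r_pow : r ^ 4 = 1
  inf_le : 𝒞(Z) ⊓ 𝒞[x] ≤ Z ⊔ zpowers x
  cent_le : 𝒞[x] ≤ 𝒩(Z)
  card_cent : Nat.card 𝒞[x] = 6720
  g_mem : g ∈ 𝒞[x]
  g_pow : g ^ 4 = z

theorem Five.cj {Z : Subgroup G} {z x r g : G} (h : Five Z z x r g) (c : G) :
    Five (cj c Z) (c * z * c⁻¹) (c * x * c⁻¹) (c * r * c⁻¹) (c * g * c⁻¹) where
  elem := ⟨isMulCommutative_cj.2 h.elem.1, fun a ha => by
    obtain ⟨b, hb, rfl⟩ := mem_cj'.1 ha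
    rw [conj_pow, h.elem.2 b hb, mul_one, mul_inv_cancel]⟩
  card := (card_cj _ _).trans h.card
  z_mem := conj_mem_cj.2 h.z_mem
  z_ne := fun e => h.z_ne (conj_eq_one_iff.1 e)
  ord := (H8.orderOf_conj' _ _).trans h.ord
  x_mem := cj_centralizer c Z ▸ conj_mem_cj.2 h.x_mem
  conj := by rw [conj_pow, ← h.conj]; group
  r_pow := by rw [conj_pow, h.r_pow, mul_one, mul_inv_cancel]
  inf_le := by
    rw [← cj_centralizer, ← cj_cent1, ← cj_zpowers, ← cj_inf, ← cj_sup]; exact cj_mono c h.inf_le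
  cent_le := by rw [← cj_normalizer, ← cj_cent1]; exact cj_mono c h.cent_le
  card_cent := by rw [← cj_cent1, card_cj, h.card_cent]
  g_mem := cj_cent1 c x ▸ conj_mem_cj.2 h.g_mem
  g_pow := by rw [conj_pow, h.g_pow]

theorem Five.nonsplit [Finite G] {Z L : Subgroup G} {z x r g : G} (h : Five Z z x r g)
    (φ : 𝒩(Z) →* S5 × L3) (hρ : Rep3 Z ((MonoidHom.snd _ _).comp φ))
    (hs : Function.Surjective φ) (hk : ∀ m, φ m = 1 ↔ (m : G) ∈ L) (hL : ∀ l ∈ L, l ^ 4 = 1)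
    (h25 : ¬ 5 * 5 ∣ Nat.card G) (K : Subgroup 𝒩(Z)) :
    ¬ (L.subgroupOf 𝒩(Z)).IsComplement' K := fun hK => by
  have k1 : ∀ k ∈ K, φ k = 1 → k = 1 := fun k hk1 e =>
    disjoint_def.1 hK.disjoint ((hk k).1 e) hk1
  have k2 : ∀ y, ∃ k ∈ K, φ k = y := fun y => by
    obtain ⟨m, rfl⟩ := hs y
    obtain ⟨⟨l, k⟩, rfl⟩ := hK.2 m
    exact ⟨k, k.2, by rw [map_mul, (hk l).2 l.2, one_mul]⟩
  have x5 : x ^ 5 = 1 := h.ord ▸ pow_orderOf_eq_one x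
  obtain ⟨a, ha, e1⟩ := k2 (φ ⟨x, cent_le_norm Z h.x_mem⟩)
  have a1 : (φ a).2 = 1 := e1 ▸ (hρ.ker _).2 h.x_mem
  have a2 : (a : G) ∈ 𝒞(Z) := (hρ.ker a).1 a1
  have : Fact (Nat.Prime 5) := ⟨by decide⟩
  have oa : orderOf (a : G) = 5 := by
    rw [orderOf_coe]
    refine orderOf_eq_prime (k1 _ (pow_mem ha 5) ?_) fun e => ?_
    · rw [map_pow, e1, ← map_pow, ← map_one φ]; exact congrArg φ (Subtype.ext x5)
    · rw [e, map_one, eq_comm, hk] at e1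
      have := h.ord
      rw [eq_one_of_pow_pow (a := 4) (b := 5) (by decide) (hL x e1) x5, orderOf_one] at this
      omega
  obtain ⟨c, hc, e2⟩ := exists_cj_zpowers (by decide) h25 h.x_mem a2 h.ord oa
  have h' := h.cj c
  rw [cj_eq_of_mem_cent hc] at h'
  have b0 := h'.cent_le h'.g_mem
  obtain ⟨b, hb, e3⟩ := k2 (1, (φ ⟨_, b0⟩).2)
  have b1 : ((MonoidHom.snd _ _).comp φ) ⟨_, b0⟩ ^ 4 = 1 := by
    rw [← map_pow, hρ.ker, SubgroupClass.coe_pow, h'.g_pow]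
    exact abelian_iff.1 h.elem.1 h'.z_mem
  have b2 : (b : G) ^ 4 = 1 := congrArg Subtype.val (k1 _ (pow_mem hb 4) (by
    rw [map_pow, e3]; exact Prod.ext (one_pow 4) b1))
  have b3 : (b : G) ∈ 𝒞[(a : G)] := mem_cent1.2 (congrArg Subtype.val (mul_inv_eq_one.1 (k1 _
    (mul_mem (mul_mem hb ha) (inv_mem (mul_mem ha hb))) (by
      rw [map_mul, map_inv, mul_inv_eq_one, map_mul, map_mul, e3]
      exact Prod.ext (by simp) (by simp [a1])))))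
  have b4 := h'.inf_le
  rw [cent1_eq_of_zpowers e2, e2] at b4
  obtain ⟨y, hy, w, hw, e4⟩ := (mem_sup_of_norm_left (zpowers_le.2 (cent_le_norm Z a2))).1
    (b4 (mem_inf.2 ⟨(hρ.ker (⟨_, b0⟩ * b⁻¹)).1 (by
      rw [map_mul, map_inv, mul_inv_eq_one]; exact (congrArg Prod.snd e3).symm),
      mul_mem (cent1_eq_of_zpowers e2 ▸ h'.g_mem) (inv_mem b3)⟩))
  have w1 : w ∈ 𝒞(Z) := zpowers_le.2 a2 hw
  have b5 := hρ.pow4 (⟨w, cent_le_norm Z w1⟩ * b) (by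
    rw [map_mul, (hρ.ker _).2 w1, one_mul, ← b1]; exact congrArg (fun y => y.2 ^ 4) e3) y hy
  have b6 : Commute w b := le_cent_iff.1 (cent_zpowers (a : G)).ge b b3 w hw
  rw [coe_mul, ← mul_assoc, ← e4, coe_mul, coe_inv, inv_mul_cancel_right, h'.g_pow, b6.mul_pow, b2,
    mul_one] at b5
  exact h'.z_ne (mem_bot.1 (five_inf oa a2 h.elem ▸ mem_inf.2 ⟨h'.z_mem, b5 ▸ pow_mem hw 4⟩))

variable {S : Setup G}

theorem not_conj_duad {v : Vb} (h : IsDuad v) : ¬ IsConj S.z (S.th (tr v)) := by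
  rw [isConj_th (tr_mem_Ns.2 h.mem_Ev) (H8.orderOf_two_of (tr_mul_self v) fun e => ?_)]
  · exact fun k => k.elim (fun k => k.2 h) fun k => k.1 (lin_tr v)
  · rw [tr_eq_one.1 e, isDuad_iff] at h
    exact absurd h (by decide +kernel)

theorem not_conj_ty_two {i : G} (hi : i ∈ S.H) {u : Vb} (e : S.pi i = tr u) (h : ty u.val = 2) :
    ¬ IsConj S.z i := fun k => by
  obtain ⟨v, w, h1, h2, h3, h4⟩ := exists_ty_two
  obtain ⟨a, ha, -, e1⟩ := orbit_ty (h.trans h2.symm)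
  obtain ⟨g, hg, rfl⟩ := exists_pi (S := S.toSetup1) (X_le_Hb ha)
  have k1 := k.trans (isConj_iff.2 ⟨g, rfl⟩)
  rcases (pi_eq_iff (conj_mem_H hg hi) (th_gam h1).1).1
    (by rw [pi_conj_tr hg hi e, e1, (th_gam h1).2]) with e2 | e2
  · exact not_conj_duad h3 (e2 ▸ k1)
  · refine not_conj_duad (S := S) h4 ?_
    rwa [th_tr_add h3.mem_Ev zs_mem, show S.th (tr zs) = S.z from th_zN, ← e2]

theorem card_cent_t_le [Finite G] {y : AG} (hy : y ∈ Ns) :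
    Nat.card ↥(𝒞[S.t] ⊓ 𝒞[S.th y]) ≤ Nat.card ↥(Ns ⊓ 𝒞[tN] ⊓ 𝒞[y]) := by
  rw [← card_im (S := S) (inf_le_left.trans inf_le_left)]
  refine card_le_of_le fun g hg => ?_
  obtain ⟨a, ha, rfl⟩ := mem_N.1 (cent_t_le hg.1)
  have k : ∀ b ∈ Ns, S.th a ∈ 𝒞[S.th b] → a ∈ 𝒞[b] := fun b hb h => mem_cent1.2 (by
    rw [← th_inj (S := S) (mul_mem ha hb) (mul_mem hb ha), th_mul ha hb, th_mul hb ha]
    exact mem_cent1.1 h)
  exact (th_mem_im ha).2 ⟨⟨ha, k _ tN_mem hg.1⟩, k _ hy hg.2⟩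

theorem card_le_of_t [Finite G] {p n : ℕ} (hp : p.Prime) (h2 : ¬ p * p ∣ Nat.card G)
    (h : ∃ y ∈ Ns, orderOf y = p ∧ y ∈ 𝒞[tN] ∧ Nat.card ↥(Ns ⊓ 𝒞[tN] ⊓ 𝒞[y]) ≤ n) {i x : G}
    (hi : IsConj S.t i) (hx : x ∈ 𝒞[i]) (ox : orderOf x = p) : Nat.card ↥(𝒞[i] ⊓ 𝒞[x]) ≤ n := by
  obtain ⟨y, hy, h1, h3, h4⟩ := h
  obtain ⟨-, -, -, e⟩ := card_cent_cent hp h2 hi hx (y := S.th y) (mem_cent1.2 (by
    rw [Setup.t, ← th_mul hy tN_mem, mem_cent1.1 h3, th_mul tN_mem hy])) ox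
    ((orderOf_th hy).trans h1)
  exact e.le.trans ((card_cent_t_le hy).trans h4)

variable (S) in
theorem exists_five [Finite G] (h25 : ¬ 5 * 5 ∣ Nat.card G) : ∃ x r g,
    Five (ZZ S.toSetup1) S.z x r g ∧ 𝒩(zpowers x) ≤ 𝒩(ZZ S.toSetup1) := by
  have : Fact (Nat.Prime 5) := ⟨by decide⟩
  have o5 : Odd 5 := by decide
  obtain ⟨x, hx, ex, x5⟩ := exists_lift_odd (S := S.toSetup1) (X_le_Hb (xe_mem 16)) o5 d_pow
  obtain ⟨r, hr, er⟩ := exists_pi (S := S.toSetup1) (X_le_Hb (xe_mem 18))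
  obtain ⟨j, hj, ej⟩ := exists_tr (S := S.toSetup1) v8
  obtain ⟨g, hg, eg⟩ := exists_pi (S := S.toSetup1) (mul_mem (tr_mem_Hb v8) (X_le_Hb (xe_mem 19)))
  obtain ⟨ρ, hρ⟩ := exists_rep3 (ZZ_elem (S := S.toSetup1)) card_ZZ
  have ox : orderOf x = 5 := orderOf_eq_prime x5 fun e => by
    have := orderOf_dp
    rw [← ex, e, pi_one, one_p, orderOf_one] at this
    omega
  have x1 : x ∈ 𝒞(ZZ S.toSetup1) := mem_cent_ZZ.2 ⟨hx, ex ▸ xe_mem_Dm 16 (by decide)⟩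
  have r1 : r ∈ 𝒞(ZZ S.toSetup1) := mem_cent_ZZ.2 ⟨hr, er ▸ xe_mem_Dm 18 (by decide)⟩
  have r2 : r * x * r⁻¹ = x ^ 2 := conj_eq_odd hr hx (pow_mem hx 2) o5 x5
    (by rw [← pow_mul, mul_comm, pow_mul, x5, one_pow]) (by rw [pi_pow hx, er, ex, r_conj])
  have r3 : r ^ 4 = 1 := by
    rw [show r ^ 4 = r * r * (r * r) by simp only [pow_succ, pow_zero]; group]
    refine S.inv_lift _ (mul_mem hr hr) ?_ ?_ <;> rw [pi_mul hr hr, er]
    exacts [mul_mem (xe_mem _) (xe_mem _), r_pow]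
  have c1 : ∀ a ∈ S.H, a ∈ 𝒞[x] → S.pi a * xe 16 = xe 16 * S.pi a := fun a ha h =>
    ex ▸ pi_comm ha hx h
  have c2 : 𝒞(ZZ S.toSetup1) ⊓ 𝒞[x] ≤ ZZ S.toSetup1 ⊔ zpowers x := fun a ha => by
    obtain ⟨h1, h2⟩ := mem_cent_ZZ.1 ha.1
    obtain ⟨n, e⟩ := lin_mem_of_comm h2.1 (c1 a h1 ha.2) h2.2.1 h2.2.2.1
    rw [← inv_mul_cancel_right a (x ^ n)]
    refine mul_mem_sup (mem_ZZ.2 ⟨mul_mem h1 (inv_mem (pow_mem hx n)), _,
      (fix_d (fix_of_comm (xe_v 16) (c1 a h1 ha.2))).2.1 h2.2.2.2, ?_⟩) (npow_mem_zpowers x n)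
    rw [pi_mul h1 (inv_mem (pow_mem hx n)), pi_inv (pow_mem hx n), pi_pow hx, ex, ← e,
      eq_mul_inv_iff_mul_eq, tr_mul_lin]
  have v1 := comm_tr_iff.2 v8_fix
  obtain ⟨f1, f2, f3⟩ := five_core hρ ox x1 ZZ_elem card_ZZ c2
    (fun A => let ⟨m, e⟩ := rho_surj hρ A; e ▸ five_adjust hρ ox x1 h25 r1 r2 m) z_mem_ZZ S.z_ne_one
    ZZ_trans (fun a ha => mem_norm_ZZ ha.1 (m_mem_W1_of_comm (pi_mem a) (c1 a ha.1 ha.2)))
    (fun i hi oi h => by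
      have i2 := H8.mul_self_of_orderOf_two oi
      have k : ∀ w ∈ W1, (S.pi i).m w = w := fun w hw => by
        obtain ⟨e, he, e1⟩ := exists_tr (S := S.toSetup1) w
        rw [← tr_inj, ← pi_conj_tr hi.1 he e1]
        rcases h e (mem_ZZ.2 ⟨he, w, hw, e1.symm⟩) with e2 | e2
        · rw [e2, e1]
        · rw [e2, pi_mul_z he, e1]
      obtain ⟨n, e⟩ := lin_mem_of_comm (pi_mem i) (c1 i hi.1 hi.2) (k _ w1_mem) (k _ w2_mem)
      have e1 := lin_eq_one.1 (eq_one_of_pow_pow (x := lin (S.pi i)) (a := 2) (b := 5) (by decide)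
        (by rw [← map_pow, ← pi_pow hi.1, sq, i2, pi_one, map_one])
        (by rw [e, ← pow_mul, mul_comm, pow_mul, d_pow, one_pow]))
      refine ((fix_d (fix_of_comm (xe_v 16) (c1 i hi.1 hi.2))).2.2.1 ((zp_eq_one S.z_ne_one).1
        ((sq_of_pi hi.1 e1).symm.trans i2))).imp (fun h1 => mem_ZZ.2 ⟨hi.1, _, h1, e1.symm⟩)
        fun h1 => ?_
      have n1 := not_conj_ty_two hi.1 e1 h1
      refine ⟨n1, card_le_of_t (by decide) h25 exists_centN5 ((two' oi).resolve_left n1)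
        (mem_cent1_comm.1 hi.2) ox, ?_⟩
      classical
      choose f hf ef using exists_tr (S := S.toSetup1)
      refine (Set.ncard_le_ncard (t := ((({0x68b, 0x723, 0x830, 0x9ce, 0xf13, 0xf45} : Finset ℕ) ×ˢ
        (Finset.univ : Finset (ZMod 2))).image fun a => f (Vb.of a.1) * zp S.z a.2 : Finset G)) ?_
        (Finset.finite_toSet _)).trans ?_
      · rintro _ ⟨c, hc, rfl⟩
        have e2 := pi_conj_tr hc.1 hi.1 e1
        have h2 := conj_mem_H hc.1 hi.1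
        have h3 := fix_of_comm (xe_v 16) (c1 _ h2 (mul_mem (mul_mem hc.2 hi.2) (inv_mem hc.2)))
        rw [e2, tr_v] at h3
        obtain ⟨a, e3⟩ := exists_zp h2 (hf _) (e2.trans (ef _).symm)
        refine Finset.mem_coe.2 (Finset.mem_image.2 ⟨(_, a), Finset.mem_product.2
          ⟨?_, Finset.mem_univ _⟩, by rw [e3, Vb.of_val]⟩)
        simpa using (fix_d h3).2.2.2 (by rw [ty_m (pi_mem c), h1])
      · rw [Set.ncard_coe_finset]
        exact Finset.card_image_le.trans (by decide))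
    (j := j) ⟨hj, comm_of_odd hj hx o5 x5 (by rw [ej, ex, v1])⟩
    (H8.orderOf_two_of (by rw [sq_of_pi hj ej, q_eq_zero.2 (by rw [v8_ty]; decide), zp_zero])
      fun e => by rw [e, pi_one, eq_comm, tr_eq_one] at ej; exact absurd ej (by decide))
    (not_conj_ty_two hj ej v8_ty)
  refine ⟨x, r, g, ⟨ZZ_elem, card_ZZ, z_mem_ZZ, S.z_ne_one, ox, x1, r2, r3, c2, f1, f2,
    comm_of_odd hg hx o5 x5 ?_, ?_⟩, le_norm_iff.2 fun a ha y hy => ?_⟩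
  · rw [eg, ex, mul_assoc, l_comm, ← mul_assoc, ← v1, mul_assoc]
  · rw [show g ^ 4 = g * g * (g * g) by simp only [pow_succ, pow_zero]; group,
      sq_of_pi (mul_mem hg hg) (by rw [pi_mul hg hg, eg, tr_mul_sq, l_sq, mul_one]), v8_q, zp_one]
  · by_cases y1 : y = 1
    · rw [y1, mul_one, mul_inv_cancel]; exact one_mem _
    · obtain ⟨m, -, e⟩ := ZZ_trans y hy y1
      exact f3 _ (cent_zpowers x ▸ conj_mem_of_norm (norm_cent le_rfl) ha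
        ((cent_zpowers x).ge (le_cent1_iff.2 x1 hy)))
        ((isConj_iff.2 ⟨m, e⟩).trans (isConj_iff.2 ⟨a, rfl⟩))

theorem Five.conj_of [Finite G] {Z : Subgroup G} {z x r g : G} (h : Five Z z x r g)
    (h25 : ¬ 5 * 5 ∣ Nat.card G) {y : G} (oy : orderOf y = 5) : ∃ c, c * x * c⁻¹ = y := by
  obtain ⟨k, -, e⟩ := exists_cj_zpowers (by decide) h25 (mem_top x) (mem_top y) h.ord oy
  have h' := h.cj k
  obtain ⟨n, e1⟩ := exists_conj_five h'.ord h'.conj (e.ge (mem_zpowers y)) fun e => by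
    rw [e, orderOf_one] at oy; omega
  exact ⟨(k * r * k⁻¹) ^ n * k, by rw [← e1]; group⟩

theorem five_of [Finite G] (S : Setup G) (h25 : ¬ 5 * 5 ∣ Nat.card G) {y : G}
    (oy : orderOf y = 5) : ∃ Z z r g, Five Z z y r g := by
  obtain ⟨x, r, g, h, -⟩ := exists_five S h25
  obtain ⟨c, rfl⟩ := h.conj_of h25 oy
  exact ⟨_, _, _, _, h.cj c⟩

end Cfsg.Agent.H60.J4
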