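/-
Project SGJ4.  The elements of order 7.
-/
import Cfsg.Agent.H60.J4Five

set_option autoImplicit false

namespace Cfsg.Agent.H60.J4

open Cfsg.Agent.SGJ4 AG Subgroup Cfsg.Agent.H49 Setup1 Setup

variable {G : Type*} [Group G]

/-- an element inverting `s` can be chosen to centralise an involution centralising `s` -/
theorem exists_inv_cent {I : Subgroup G} {s g : G} (os : orderOf s = 7)
    (h : IsInternalDirectProduct (zpowers s) I 𝒞[s]) (κ : I ≃* S5) (e : g * s * g⁻¹ = s⁻¹) :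
    ∃ i a, orderOf i = 2 ∧ s ∈ 𝒞[i] ∧ a ∈ 𝒞[i] ∧ a * s * a⁻¹ = s⁻¹ := by
  have hn : I ≤ 𝒩(zpowers s) := norm_of_cent (cent_zpowers s ▸ h.2.1)
  have k0 : ∀ w ∈ I, w ^ 120 = 1 := fun w hw => by
    have := pow_card_eq_one' (x := (⟨w, hw⟩ : I))
    rw [Nat.card_congr κ.toEquiv, card_S5] at this
    exact congrArg Subtype.val this
  have k1 : ∀ w ∈ I, g * w * g⁻¹ ∈ I := fun w hw => by
    have h1 : g * w * g⁻¹ ∈ 𝒞[s] := by
      rw [← cent_zpowers, ← zpowers_inv, ← e, ← cj_zpowers, ← cj_centralizer, conj_mem_cj,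
        cent_zpowers]
      exact h.2.1 hw
    obtain ⟨a, ha, b, hb, e1⟩ := (mem_sup_of_norm_left hn).1 (h.2.2.2.2.ge h1)
    have h2 : (a * b) ^ 120 = 1 := by rw [← e1, conj_pow, k0 w hw, mul_one, mul_inv_cancel]
    rw [Commute.mul_pow (h.2.2.1 a ha b hb), k0 b hb, mul_one] at h2
    rw [e1, eq_one_of_pow_pow (a := 120) (b := 7) (by decide) h2
      (pow_eq_one_of_mem_zpowers os ha), one_mul]
    exact hb
  let c : I →* I := MonoidHom.mk' (fun w => ⟨_, k1 w w.2⟩) fun a b =>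
    Subtype.ext (by simp only [coe_mul]; group)
  obtain ⟨σ, hσ⟩ := s5_aut (κ.toMonoidHom.comp (c.comp κ.symm.toMonoidHom))
    (κ.injective.comp (Function.Injective.comp (g := c) (fun a b e => by
      simpa using (Subtype.mk.inj e)) κ.symm.injective))
  have h3 := congrArg (fun σ => (κ.symm σ : G)) (hσ (Equiv.swap 0 1))
  simp only [map_mul, map_inv, MonoidHom.comp_apply, MulEquiv.coe_toMonoidHom, κ.symm_apply_apply,
    coe_mul, coe_inv] at h3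
  change g * _ * g⁻¹ = _ at h3
  refine ⟨κ.symm (Equiv.swap 0 1), (κ.symm σ : G)⁻¹ * g, ?_, mem_cent1_comm.1 (h.2.1 (κ.symm _).2),
    mem_cent1.2 ?_, ?_⟩
  · rw [orderOf_coe, κ.symm.orderOf_eq, H8.orderOf_two_of (by decide) (by decide)]
  · calc _ = (κ.symm σ : G)⁻¹ * (g * κ.symm (Equiv.swap 0 1) * g⁻¹) * g := by group
      _ = _ := by rw [h3]; group
  · calc _ = (κ.symm σ : G)⁻¹ * (g * s * g⁻¹) * κ.symm σ := by group
      _ = _ := by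
        rw [e, mul_assoc, h.2.2.1 _ (inv_mem (mem_zpowers s)) _ (κ.symm σ).2, inv_mul_cancel_left]

theorem not_inv7 {a b : AG} (ha : a.p ∈ M24) (hb : b.p ∈ M24) (h7 : a ^ 7 = 1) (h1 : a.p ≠ 1) :
    b * a * b⁻¹ ≠ a⁻¹ := fun e =>
  haveI : Fact (Nat.Prime 7) := ⟨by decide⟩
  m24_seven ha (orderOf_p h7 h1) _ hb (congrArg AG.p e)

variable (S : Setup G)
include S

theorem not_real_aux {i s a : G} (oi : orderOf i = 2) (os : orderOf s = 7) (hs : s ∈ 𝒞[i])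
    (ha : a ∈ 𝒞[i]) : a * s * a⁻¹ ≠ s⁻¹ := fun e => by
  have k : ∀ w : G, IsConj w i → ∃ s ∈ 𝒞[w], ∃ a ∈ 𝒞[w], s ^ 7 = 1 ∧ s ≠ 1 ∧ a * s * a⁻¹ = s⁻¹ :=
    fun w hw => by
      obtain ⟨c, rfl⟩ := isConj_iff.1 hw.symm
      refine ⟨_, cj_cent1 c i ▸ conj_mem_cj.2 hs, _, cj_cent1 c i ▸ conj_mem_cj.2 ha, ?_, ?_, ?_⟩
      · rw [conj_pow, ← os, pow_orderOf_eq_one, mul_one, mul_inv_cancel]
      · rw [Ne, conj_eq_one_iff]; rintro rfl; simp at os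
      · rw [conj_inv (a := s), ← e]; group
  rcases two' (S := S) oi with h | h
  · obtain ⟨s, hs, a, ha, h7, h1, e⟩ := k _ h
    refine not_inv7 (p_mem_M22x _ (pi_mem (S := S.toSetup1) s)).1 (p_mem_M22x _ (pi_mem a)).1
      (by rw [← pi_pow hs, h7, pi_one]) (fun e1 => h1 ?_) (by rw [← pi_conj ha hs, e, pi_inv hs])
    have h2 : lin (S.pi s ^ 3) = 1 := by
      rw [map_pow]
      rcases ker_X _ (lin_mem_X (pi_mem (S := S.toSetup1) s)) e1 with e | e | e <;> rw [e]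
      exacts [one_pow 3, om_pow_three, by rw [← sq, ← pow_mul, mul_comm, pow_mul, om_pow_three,
        one_pow]]
    have h3 := sq_of_pi (pow_mem hs 3) ((pi_pow hs 3).trans (lin_eq_one.1 h2))
    refine eq_one_of_pow_pow (a := 12) (b := 7) (by decide) ?_ h7
    rw [show s ^ 12 = s ^ 3 * s ^ 3 * (s ^ 3 * s ^ 3) by simp only [← pow_add], h3, zp_mul_self]
  · obtain ⟨s, hs, a, ha, h7, h1, e⟩ := k _ h
    obtain ⟨s, h2, rfl⟩ := mem_N.1 (cent_t_le hs)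
    obtain ⟨a, h3, rfl⟩ := mem_N.1 (cent_t_le ha)
    rw [← th_pow h2, th_eq_one (pow_mem h2 7)] at h7
    rw [← th_conj h3 h2, ← th_inv h2,
      th_inj (mul_mem (mul_mem h3 h2) (inv_mem h3)) (inv_mem h2)] at e
    refine not_inv7 h2.1.1 h3.1.1 h7 (fun e1 => h1 ((th_eq_one h2).2 ?_)) e
    refine eq_one_of_pow_pow (a := 2) (b := 7) (by decide) ?_ h7
    rw [lin_eq_one.1 (lin_eq_of_p h2.1 Nf.one_mem e1), sq, tr_mul_self]

theorem seven_bound [Finite G] (h49 : ¬ 7 * 7 ∣ Nat.card G) {s : G} (os : orderOf s = 7) (i : G)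
    (oi : orderOf i = 2) (hs : s ∈ 𝒞[i]) : Nat.card ↥(𝒞[i] ⊓ 𝒞[s]) ≤ 84 := by
  rcases two' (S := S) oi with h | h
  · have : Fact (Nat.Prime 7) := ⟨by decide⟩
    obtain ⟨y, hy, ey, y7⟩ :=
      exists_lift_odd (S := S.toSetup1) (X_le_Hb (xe_mem 20)) (by decide) y_pow
    obtain ⟨-, -, -, e⟩ := card_cent_cent (by decide) h49 h hs hy os
      (orderOf_eq_prime y7 fun e => by
        have := orderOf_yp
        rw [← ey, e, pi_one, one_p, orderOf_one] at this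
        omega)
    rw [e, card_of_z_mem (S := S.toSetup1) inf_le_left ⟨S.z_mem, mem_cent1_comm.1 hy⟩]
    refine Nat.mul_le_mul_left 2 (le_trans (card_le_of_le fun b hb => ?_) card_cent_y)
    obtain ⟨g, h1, h2, rfl⟩ := mem_bar.1 hb
    exact ⟨pi_mem g, mem_cent1.2 (ey ▸ pi_comm h2 hy h1.2)⟩
  · exact (card_le_of_t (by decide) h49 exists_centN7 h hs os).trans (by decide)

theorem exists_seven_G [Finite G] (h49 : ¬ 7 * 7 ∣ Nat.card G) : ∃ s : G, orderOf s = 7 ∧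
    (∃ I ≤ 𝒩(ZZ S.toSetup1), IsInternalDirectProduct (zpowers s) I 𝒞[s] ∧ Nonempty (I ≃* S5)) ∧
    Nat.card 𝒞[s] = 840 ∧ Nat.card 𝒩(zpowers s) = 2520 ∧ 𝒩(zpowers s) ≤ 𝒩(ZZ S.toSetup1) := by
  obtain ⟨φ, -, hs, hk⟩ := exists_phi S
  obtain ⟨s, h1, u, h2, h3, h4, -⟩ := exists_seven
  have a1 := K2_le_Ns h1
  have a2 := K2_le_Ns h2
  have os := (orderOf_th (S := S) a1).trans h3
  have m1 := K2_le_norm ((th_mem_im (S := S) a1).2 h1)
  have m2 := K2_le_norm ((th_mem_im (S := S) a2).2 h2)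
  have e : S.th u * S.th s * (S.th u)⁻¹ = S.th s ^ 2 := by rw [← th_conj a2 a1, h4, th_pow a1]
  obtain ⟨I, i1, i2, ⟨κ⟩⟩ := seven_core φ hs (fun a => ⟨2, Subtype.ext (Subtype.ext
    (pow_four_LL ((hk a).1 a.2)))⟩) m1 os (seven_bound S h49 os)
  have c1 : Nat.card 𝒞[S.th s] = 840 := by
    rw [card_of_idp i2, Nat.card_zpowers, os, Nat.card_congr κ.toEquiv, card_S5]
  have c2 : Nat.card 𝒩(zpowers (S.th s)) = 2520 := by
    rw [card_norm_seven os e fun h => ?_, c1]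
    obtain ⟨g, e⟩ := isConj_iff.1 h
    obtain ⟨i, a, b1, b2, b3, b4⟩ := exists_inv_cent os i2 κ e
    exact not_real_aux S b1 os b2 b3 b4
  refine ⟨_, os, ⟨I, i1, i2, ⟨κ⟩⟩, c1, c2, ?_⟩
  have b1 : 𝒞[S.th s] ≤ 𝒩(zpowers (S.th s)) ⊓ 𝒩(ZZ S.toSetup1) :=
    le_inf (norm_of_cent (cent_zpowers _).ge) (i2.2.2.2.2 ▸ sup_le (zpowers_le.2 m1) i1)
  obtain ⟨k, hk⟩ := card_dvd_of_le b1
  obtain ⟨l, hl⟩ := card_dvd_of_le
    (inf_le_left : 𝒩(zpowers (S.th s)) ⊓ 𝒩(ZZ S.toSetup1) ≤ 𝒩(zpowers (S.th s)))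
  rw [hk, c1, c2, mul_assoc] at hl
  rcases (Nat.dvd_prime Nat.prime_three).1 ⟨l, (by omega : 3 = k * l)⟩ with rfl | rfl
  · have b2 := mem_cent1.1 ((eq_of_le_of_card_eq b1 (by omega)).ge
      (mem_inf.2 ⟨mem_norm_zpowers.2 (e ▸ npow_mem_zpowers _ 2), m2⟩))
    rw [b2, mul_inv_cancel_right, sq, left_eq_mul] at e
    rw [e, orderOf_one] at os
    omega
  · exact inf_eq_left.1 (eq_of_le_of_card_eq inf_le_left (by omega))

theorem seven_of [Finite G] (h49 : ¬ 7 * 7 ∣ Nat.card G) {s : G} (os : orderOf s = 7) :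
    (∃ I, IsInternalDirectProduct (zpowers s) I 𝒞[s] ∧ Nonempty (I ≃* S5)) ∧
      Nat.card 𝒞[s] = 840 ∧ Nat.card 𝒩(zpowers s) = 2520 := by
  obtain ⟨x, ox, ⟨I, -, h1, ⟨κ⟩⟩, h2, h3, -⟩ := exists_seven_G S h49
  obtain ⟨k, -, e⟩ := exists_cj_zpowers (by decide) h49 (mem_top x) (mem_top s) ox os
  rw [← cent1_eq_of_zpowers e, ← e, ← cj_zpowers, ← cj_cent1, ← cj_normalizer, card_cj, card_cj]
  exact ⟨⟨_, idp_cj h1 k, ⟨(cjEquiv k I).symm.trans κ⟩⟩, h2, h3⟩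

end Cfsg.Agent.H60.J4
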