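import Cfsg.Agent.H3.Lay3
import Cfsg.Agent.H44.LocalBal
import Cfsg.Agent.H49.Frob

/-! Coprime action of a solvable group: the subgroup `O^p(F*(H))` and invariant cores. -/

set_option autoImplicit false
set_option linter.unusedSectionVars false

namespace Cfsg.Agent.H60.NC

open Subgroup H49
open H44 hiding cj
open scoped commutatorElement

universe u

variable {X : Type u} [Group X] [Finite X] {p q r : ℕ} {G H K R J M N P U W Y Z A : Subgroup X}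

/-- `O_{p'}(F(H))` -/
abbrev Op (p : ℕ) (H : Subgroup X) : Subgroup X := piCoreOf {p}ᶜ (Fof H)

/-- `O^p(F*(H))` -/
def Dp (p : ℕ) (H : Subgroup X) : Subgroup X := Eof H ⊔ Op p H

theorem Op_le (p : ℕ) (H : Subgroup X) : Op p H ≤ H := (piCoreOf_le _ _).trans (Fof_le H)

theorem Dp_le (p : ℕ) (H : Subgroup X) : Dp p H ≤ H := sup_le (Eof_le H) (Op_le p H)

theorem norm_Op (h : A ≤ 𝒩(H)) : A ≤ 𝒩(Op p H) :=
  norm_piCoreOf _ (h.trans (normalizer_le_normalizer_Fof H))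

theorem norm_Eof (h : A ≤ 𝒩(H)) : A ≤ 𝒩(Eof H) := h.trans (normalizer_le_normalizer_Eof H)

theorem norm_Dp (h : A ≤ 𝒩(H)) : A ≤ 𝒩(Dp p H) := norm_sup (norm_Eof h) (norm_Op h)

theorem le_Op (h1 : SN H U) (h2 : Group.IsNilpotent U) (h3 : IsPi {p}ᶜ U) : U ≤ Op p H :=
  nilpotent_le_piCoreOf (Fof_isNilpotent H) (le_Fof_of_sn h1 h2) h3

theorem Op_nil (p : ℕ) (H : Subgroup X) : Group.IsNilpotent (Op p H) :=
  nilpotent_of_le (Fof_isNilpotent H) (piCoreOf_le _ _)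

theorem le_core (h1 : SN H U) (h3 : IsPi {p} U) : U ≤ piCoreOf {p} H :=
  le_piCoreOf_of_subnormal h1.le h1.isSubnormal_subgroupOf h3

theorem Dp_mono (h : SN H K) : Dp p K ≤ Dp p H :=
  sup_le_sup (Eof_le_Eof_of_sn h) (le_Op (h.trans (SN.of_le_normalizer (Op_le p K) (norm_Op le_normalizer)))
    (Op_nil p K) (piCoreOf_pi _ _))

theorem Fof_eq (p : ℕ) (H : Subgroup X) : Fof H = piCoreOf {p} H ⊔ Op p H := by
  have h := (nilpotent_isDp (Fof_isNilpotent H) {p}).1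
  rw [← h]
  congr 1
  exact pcore_fittingOf p H

theorem FSof_eq' (p : ℕ) (H : Subgroup X) : FSof H = Dp p H ⊔ piCoreOf {p} H := by
  rw [FSof_eq, Fof_eq p, Dp, sup_assoc, sup_comm (Op p H)]

theorem le_Fof_of_cent (h : J ≤ H) (h1 : J ≤ 𝒞(Dp p H)) (h2 : J ≤ 𝒞(piCoreOf {p} H)) : J ≤ Fof H := by
  refine le_trans (le_inf h ?_) (inf_centralizer_FSof_le_Fof H)
  rw [FSof_eq' p, cent_sup]
  exact le_inf h1 h2

/-- `O^p(F*(H))` centralizes the `p`-subgroups that it normalizes -/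
theorem Dp_cent (h : U ≤ H) (hU : IsPi {p} U) (hn : Dp p H ≤ 𝒩(U)) : Dp p H ≤ 𝒞(U) := by
  refine sup_le (H49.commutator_eq_bot_iff.1 (commutator_Eof_eq_bot_of_solvable h (le_sup_left.trans hn)
    (solvable_of_nilpotent hU.nilpotent))) (cent_symm ?_)
  exact hU.cent_of_norm (piCoreOf_pi _ _) (norm_Op (norm_of_le h)) (le_sup_right.trans hn)

theorem Dp_cent_core (p : ℕ) (H : Subgroup X) : Dp p H ≤ 𝒞(piCoreOf {p} H) :=
  Dp_cent (piCoreOf_le _ _) (piCoreOf_pi _ _) (norm_piCoreOf _ (norm_of_le (Dp_le p H)))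

theorem Op_le_of (h : ∀ q : ℕ, q.Prime → q ≠ p → piCoreOf {q} H ≤ K) : Op p H ≤ K := by
  refine le_of_sylowOf_le fun q hq hd => ?_
  obtain ⟨S, hS⟩ := exists_sylowOf q (Op p H)
  refine ⟨S, hS, le_trans ?_ (h q hq (piCoreOf_pi _ _ q hq hd))⟩
  rw [← pcore_fittingOf]
  exact nilpotent_le_piCoreOf (Fof_isNilpotent H) (hS.le.trans (piCoreOf_le _ _)) hS.pi

theorem comm_le_of_sup (h1 : R ≤ 𝒩(U)) (h2 : Z ≤ 𝒞(R)) (h3 : Z ≤ 𝒩(U)) (h : Y ≤ U ⊔ Z) :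
    ⁅Y, R⁆ ≤ U := by
  refine commutator_le.2 fun y hy s hs => ?_
  obtain ⟨a, ha, z, hz, rfl⟩ := (mem_sup_of_norm_left h3).1 (h hy)
  have e : z * s = s * z := (h2 hz s hs).symm
  have : ⁅a * z, s⁆ = a * (s * a⁻¹ * s⁻¹) := by
    rw [commutatorElement_def, mul_inv_rev, mul_assoc a, e]
    group
  rw [this]
  exact U.mul_mem ha (conj_mem_of_norm h1 hs (U.inv_mem ha))

theorem comm_le_cent (h1 : H ≤ 𝒩(U)) (h2 : R ≤ 𝒞(U)) : ⁅H, R⁆ ≤ 𝒞(U) :=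
  (commutator_mono le_rfl h2).trans (commutator_le_right_of_norm (norm_cent h1))

/-- coprime action of the solvable group `R` on `H` -/
structure Act (R H : Subgroup X) : Prop where
  norm : R ≤ 𝒩(H)
  cop : (Nat.card R).Coprime (Nat.card H)
  sol : Group.IsSolvable R

namespace Act

theorem sub (h : Act R G) (h1 : H ≤ G) (h2 : R ≤ 𝒩(H)) : Act R H :=
  ⟨h2, coprime_of_le h.cop le_rfl h1, h.sol⟩

theorem of_le (h : Act R G) (h1 : A ≤ R) : Act A G :=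
  ⟨h1.trans h.norm, coprime_of_le h.cop h1 le_rfl, solvable_of_le h.sol h1⟩

theorem cc (h : Act R H) : ⁅⁅H, R⁆, R⁆ = ⁅H, R⁆ := coprime_comm_comm h.norm h.cop (.inl h.sol)

theorem comm_le (h : Act R H) : ⁅H, R⁆ ≤ H := commutator_le_left_of_norm h.norm

theorem comm (h : Act R H) : Act R ⁅H, R⁆ := h.sub h.comm_le (le_norm_commutator_right H R)

theorem dec (h : Act R H) : ⁅H, R⁆ ⊔ (H ⊓ 𝒞(R)) = H := coprime_comm_sup_cent h.norm h.cop (.inl h.sol)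

theorem syl_ge (h : Act R H) (hq : q.Prime) (hU : IsPi {q} U) (h1 : U ≤ H) (h2 : R ≤ 𝒩(U)) :
    ∃ S, IsSylowOf q S H ∧ R ≤ 𝒩(S) ∧ U ≤ S := by
  haveI := Fact.mk hq
  obtain ⟨P, a1, a2⟩ := H1.invariant_sylow_ge _ H h.norm h.cop (.inl h.sol) q U h1 (hU.isPGroup hq) h2
  exact ⟨_, sylowOf_map hq P, a2, a1⟩

theorem quo (h : Act R H) (N : Subgroup X) : Act (quo R N) (quo H N) :=
  ⟨quo_norm N h.norm, (h.cop.coprime_dvd_left (card_quo_dvd R N)).coprime_dvd_right (card_quo_dvd H N),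
    solvable_quo h.sol N⟩

/-- a commutator subgroup whose `p'`-elements centralize `O_p(H)` -/
theorem pgrp (hp : p.Prime) (h : Act R H) (hg : R ≤ 𝒞(Dp p H)) (hJ : J ≤ H) (hn : R ≤ 𝒩(J))
    (hc : ∀ y ∈ ⁅J, R⁆, IsPiElt {p}ᶜ y → y ∈ 𝒞(piCoreOf {p} H)) : IsPi {p} ⁅J, R⁆ := by
  have aJ := h.sub hJ hn
  have aY := aJ.comm
  have hY : ⁅J, R⁆ ≤ H := aJ.comm_le.trans hJ
  have h1 : ⁅J, R⁆ ≤ 𝒞(Dp p H) := (commutator_mono hJ le_rfl).trans (comm_le_cent (norm_Dp le_normalizer) hg)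
  obtain ⟨S, hS, nS, -⟩ := aY.syl_ge hp (isPi_bot _) bot_le (by rw [norm_bot]; exact le_top)
  have h2 : ⁅J, R⁆ ⊓ Op p H ≤ 𝒞(⁅J, R⁆) :=
    inf_le_right.trans (cent_symm (h1.trans (cent_anti le_sup_right)))
  have h3 : ⁅J, R⁆ ≤ S ⊔ (⁅J, R⁆ ⊓ Op p H) := by
    refine le_of_sylowOf_le fun q hq _ => ?_
    by_cases e : q = p
    · exact ⟨S, e ▸ hS, le_sup_left⟩
    obtain ⟨T, hT⟩ := exists_sylowOf q ⁅J, R⁆
    have t1 : IsPi {p}ᶜ T := hT.pi.compl_singleton_of_ne e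
    refine ⟨T, hT, le_sup_of_le_right (le_inf hT.le ?_)⟩
    exact nilpotent_le_piCoreOf (Fof_isNilpotent H) (le_Fof_of_cent (hT.le.trans hY) (hT.le.trans h1)
      fun y hy => hc y (hT.le hy) (t1.elt hy)) t1
  have h4 := comm_le_of_sup nS (inf_le_right.trans (cent_symm (hg.trans (cent_anti le_sup_right))))
    (norm_of_cent (h2.trans (cent_anti hS.le))) h3
  rw [aJ.cc] at h4
  exact hS.pi.of_le h4

theorem good_of_pi (h : Act R H) (hc : IsPi {p} ⁅Dp p H, R⁆) : R ≤ 𝒞(Dp p H) := by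
  have h1 : ⁅Dp p H, R⁆ ≤ Dp p H := commutator_le_left_of_norm (norm_Dp h.norm)
  have h2 := cent_symm (Dp_cent (h1.trans (Dp_le p H)) hc (le_norm_commutator_left _ _))
  rw [Dp, cent_sup]
  refine le_inf (H3.Lay.cent_of_comm (Eof_perfect H) ?_) (cent_symm (H49.commutator_eq_bot_iff.1 ?_))
  · rw [commutator_comm]
    exact ((commutator_mono le_sup_left le_rfl).trans h2).trans (cent_anti le_sup_left)
  · refine IsPi.eq_bot (π := {p}) (hc.of_le (commutator_mono le_sup_right le_rfl)) ?_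
    exact (piCoreOf_pi _ _).of_le (commutator_le_left_of_norm (norm_Op h.norm))

theorem good_of_FS (hp : p.Prime) (h : Act R H) (hg : R ≤ 𝒞(Dp p H)) (h1 : FSof H ≤ W) (h2 : W ≤ H)
    (hn : R ≤ 𝒩(W)) : R ≤ 𝒞(Dp p W) := by
  refine (h.sub h2 hn).good_of_pi (h.pgrp hp hg ((Dp_le p W).trans h2) (norm_Dp hn) fun y hy _ => ?_)
  refine Dp_cent (H := W) ?_ (piCoreOf_pi _ _) (norm_piCoreOf _ (norm_of_le ((Dp_le p W).trans h2)))
    (commutator_le_left_of_norm (norm_Dp hn) hy)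
  exact le_trans (by rw [FSof_eq' p]; exact le_sup_right) h1

/-- the `A × B` step -/
theorem axb (hp : p.Prime) (h : Act R M) (hg : R ≤ 𝒞(Dp p M)) (hK : K ≤ M) (kp : IsPi {p} K) (hJ : J ≤ M)
    (hn : R ≤ 𝒩(J)) (hc : J ≤ 𝒞(K)) (h1 : ⁅piCoreOf {p} M ⊓ 𝒞(K), J⁆ ≤ 𝒞(J)) : IsPi {p} ⁅J, R⁆ := by
  haveI := Fact.mk hp
  refine h.pgrp hp hg hJ hn fun y hy py => ?_
  have h2 : zpowers y ≤ J := zpowers_le.2 (commutator_le_left_of_norm hn hy)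
  have h3 : IsPi {p}ᶜ (zpowers y) := isPi_zpowers.2 py
  have h4 : zpowers y ≤ 𝒩(piCoreOf {p} M) := norm_piCoreOf _ (norm_of_le (h2.trans hJ))
  refine S0028.result p K (zpowers y) _ (kp.isPGroup hp) ((isPi_compl_singleton_iff_coprime hp).1 h3)
    ((piCoreOf_pi _ _).isPGroup hp) (cent_symm (h2.trans hc)) (norm_piCoreOf _ (norm_of_le hK)) h4
    (cent_symm ?_) (mem_zpowers y)
  refine coprime_cent_of_stable (norm_inf h4 (norm_cent (norm_of_cent (h2.trans hc))))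
    (h3.coprime' ((piCoreOf_pi _ _).inf_left _)) (.inl (FLAV.solv_zp y)) ?_
  exact ((commutator_mono le_rfl h2).trans h1).trans (cent_anti h2)

end Act

/-- the largest `q`-subgroup of `G` invariant under `R` and `C_G(R)` -/
def Oi (q : ℕ) (G R : Subgroup X) : Subgroup X :=
  sSup {U | U ≤ G ∧ IsPi {q} U ∧ R ≤ 𝒩(U) ∧ G ⊓ 𝒞(R) ≤ 𝒩(U)}

theorem Oi_le (q : ℕ) (G R : Subgroup X) : Oi q G R ≤ G := sSup_le fun _ h => h.1

theorem le_Oi (h1 : U ≤ G) (h2 : IsPi {q} U) (h3 : R ≤ 𝒩(U)) (h4 : G ⊓ 𝒞(R) ≤ 𝒩(U)) : U ≤ Oi q G R :=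
  le_sSup ⟨h1, h2, h3, h4⟩

theorem norm_Oi (h1 : A ≤ 𝒩(G)) (h2 : A ≤ 𝒩(R)) : A ≤ 𝒩(Oi q G R) := by
  intro g hg
  refine mem_norm_of_le_cj (sSup_le fun U hU => le_cj_iff.2 ?_)
  have a1 := cj_eq_of_mem_norm (h1 (A.inv_mem hg))
  have a2 := cj_eq_of_mem_norm (h2 (A.inv_mem hg))
  refine le_Oi (a1 ▸ cj_mono _ hU.1) (hU.2.1.cj _) ?_ ?_
  · rw [← cj_normalizer]
    exact a2.ge.trans (cj_mono _ hU.2.2.1)
  · rw [← cj_normalizer]
    refine le_trans ?_ (cj_mono _ hU.2.2.2)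
    rw [cj_inf, H49.cj_centralizer, a1, a2]

theorem Act.Oi_le_syl (h : Act R G) (hq : q.Prime) {S : Subgroup X} (hS : IsSylowOf q S G) (hn : R ≤ 𝒩(S)) :
    Oi q G R ≤ S := by
  refine sSup_le fun U hU => ?_
  obtain ⟨T, t1, t2, t3⟩ := h.syl_ge hq hU.2.1 hU.1 hU.2.2.1
  obtain ⟨g, hg, rfl⟩ := sylowOf_conj t1 hS
  obtain ⟨c, hc, e⟩ := exists_cent_cj h.norm h.cop (.inl h.sol) hg t2 hn
  rw [← e, ← cj_eq_of_mem_norm (hU.2.2.2 hc)]
  exact cj_mono _ t3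

theorem Act.sup_Oi (h : Act R G) (hq : q.Prime) (h1 : U ≤ G) (h2 : IsPi {q} U) (h3 : R ≤ 𝒩(U)) :
    IsPi {q} (U ⊔ Oi q G R) := by
  obtain ⟨T, t1, t2, t3⟩ := h.syl_ge hq h2 h1 h3
  exact t1.pi.of_le (sup_le t3 (h.Oi_le_syl hq t1 t2))

theorem Act.Oi_pi (h : Act R G) (hq : q.Prime) : IsPi {q} (Oi q G R) :=
  (h.sup_Oi hq bot_le (isPi_bot _) (by rw [norm_bot]; exact le_top)).of_le le_sup_right

theorem Act.norm_Oi (h : Act R G) : R ≤ 𝒩(Oi q G R) := NC.norm_Oi h.norm le_normalizer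

theorem cnorm_Oi (q : ℕ) (G R : Subgroup X) : G ⊓ 𝒞(R) ≤ 𝒩(Oi q G R) :=
  norm_Oi (norm_of_le inf_le_left) (norm_of_cent inf_le_right)

theorem Act.Oi_inf (h : Act R G) (hq : q.Prime) (h1 : H ≤ G) (h2 : R ≤ 𝒩(H)) (h3 : G ⊓ 𝒞(R) ≤ H) :
    Oi q H R = Oi q G R ⊓ H := by
  refine le_antisymm (le_inf ?_ (Oi_le _ _ _)) ?_
  · exact le_Oi ((Oi_le _ _ _).trans h1) ((h.sub h1 h2).Oi_pi hq) (h.sub h1 h2).norm_Oi
      ((le_inf h3 inf_le_right).trans (cnorm_Oi _ _ _))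
  · exact le_Oi inf_le_right ((h.Oi_pi hq).inf_left _) (norm_inf h.norm_Oi h2)
      (norm_inf ((inf_le_inf_right _ h1).trans (cnorm_Oi _ _ _)) (norm_of_le inf_le_left))

/-- a Frobenius group `A⟨a⟩` with `A` centralizing the fixed points of `a` -/
theorem frob {a : X} (hr : r.Prime) (ha : orderOf a = r) (h1 : a ∈ 𝒩(A)) (h2 : A ⊓ 𝒞[a] = ⊥)
    (h3 : A ≤ 𝒩(J)) (h4 : a ∈ 𝒩(J)) (hs : Group.IsSolvable J) (c1 : (Nat.card J).Coprime (Nat.card A))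
    (c2 : (Nat.card J).Coprime r) (hc : J ⊓ 𝒞[a] ≤ 𝒞(A)) : A ≤ 𝒞(J) := by
  have e : Nat.card (zpowers a) = r := by rw [Nat.card_zpowers, ha]
  have h5 := frob_wielandt (FLAV.zn h1) (semiregular_of_prime_card (e ▸ hr) (by rwa [cent_zpowers]))
    (sup_le h3 (FLAV.zn h4)) hs (coprime_sup_right (.inr (FLAV.zn h1)) c1 (e ▸ c2))
  have h6 : J ⊓ 𝒞(A ⊔ zpowers a) = J ⊓ 𝒞(zpowers a) := by
    rw [cent_sup, cent_zpowers]
    exact le_antisymm (inf_le_inf_left _ inf_le_right) (le_inf inf_le_left (le_inf hc inf_le_right))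
  rw [h6] at h5
  have h7 := Nat.eq_of_mul_eq_mul_left (pow_pos Nat.card_pos _) h5
  exact cent_symm ((eq_of_le_of_card_ge inf_le_left h7.le).ge.trans inf_le_right)

end Cfsg.Agent.H60.NC
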