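import Cfsg.Agent.H60.NC1
import Cfsg.Agent.FZJ.Top

/-! The equivariant ZJ-type theorem for groups of characteristic `p` modulo fixed points. -/

set_option autoImplicit false
set_option linter.unusedSectionVars false

namespace Cfsg.Agent.H60.NC

open Subgroup H49
open H44 hiding cj
open scoped commutatorElement

universe u

variable {X : Type u} [Group X] [Finite X] {p q r : ℕ} {G H K R J M N P U W Y Z A : Subgroup X}

/-- the lower K-infinity subgroup in the ambient group -/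
def KK (P : Subgroup X) : Subgroup X := (kInfLower P).map P.subtype

theorem KK_le (P : Subgroup X) : KK P ≤ P := map_subtype_le _

theorem KK_eq (P : Subgroup X) : KK P = ⨆ n, H61.kEvenIn P n := by
  rw [KK, H61.map_kInfLower P.subtype_injective, range_subtype]

theorem center_le_KK (P : Subgroup X) : P ⊓ 𝒞(P) ≤ KK P := by
  rw [← H44.map_center_subtype]
  exact map_mono H61.center_le_kInfLower

theorem norm_KK (h : A ≤ 𝒩(P)) : A ≤ 𝒩(KK P) := by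
  refine le_norm_of_cj fun g hg => ?_
  have h1 := H61.map_kInfLower (f := (MulAut.conj g).toMonoidHom.comp P.subtype)
    ((MulAut.conj g).injective.comp P.subtype_injective)
  rw [MonoidHom.range_comp, range_subtype, map_conj_eq_cj, cj_eq_of_mem_norm (h hg), ← KK_eq, ← map_map] at h1
  exact h1

theorem quo_KK (h : P ≤ 𝒩(N)) (hd : P ⊓ N = ⊥) : quo (KK P) N = KK (quo P N) := by
  rw [KK, ← map_cosetOn h, H61.map_kInfLower (cosetOn_injective h hd), range_cosetOn, KK_eq]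

theorem nil_of_quo (hK : H ≤ 𝒩(K)) (hc : H ≤ 𝒞(K)) (h : Group.IsNilpotent (quo H K)) :
    Group.IsNilpotent H := by
  have e := range_cosetOn hK
  haveI : Group.IsNilpotent (cosetOn hK).range := by rw [e]; exact h
  refine Subgroup.isNilpotent_of_ker_le_center (cosetOn hK).rangeRestrict fun x hx => ?_
  rw [MonoidHom.ker_rangeRestrict, ker_cosetOn] at hx
  exact mem_center_iff.2 fun g => Subtype.ext (hc g.2 x hx).symm

theorem le_of_pi_sup {π : Set ℕ} (hU : IsPi π U) (hZ : IsPi πᶜ Z) (hn : Z ≤ 𝒩(K)) (h : U ≤ K ⊔ Z) : U ≤ K := by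
  refine hU.le_of_relIndex (IsPiNat.of_dvd ?_ (relIndex_dvd_of_norm (sup_le le_normalizer hn) h))
  rw [sup_comm, relIndex_sup_of_norm (.inl hn)]
  exact hZ.relIndex K

theorem zj (hp : p.Prime) (h3 : 3 < p) (hr : r.Prime) (hrp : r ≠ p) (hR : IsPi {r} R)
    (hc : (Nat.card H).Coprime r) (h : Act R H) (hg : R ≤ 𝒞(Dp p H)) : H ≤ 𝒩(KK (Oi p H R)) := by
  haveI := Fact.mk hp
  haveI := Fact.mk hr
  set P := Oi p H R
  set H0 := H ⊓ 𝒞(Dp p H)
  set Z := Op p H ⊓ 𝒞(Dp p H)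
  have pP : IsPi {p} P := h.Oi_pi hp
  have pZ : IsPi {p}ᶜ Z := (piCoreOf_pi _ _).inf_left _
  have n0 : H ≤ 𝒩(H0) := norm_inf le_normalizer (norm_cent (norm_Dp le_normalizer))
  have r0 : R ≤ 𝒩(H0) := norm_inf h.norm (norm_cent (norm_Dp h.norm))
  have hD : Dp p H ≤ H ⊓ 𝒞(R) := le_inf (Dp_le p H) (cent_symm hg)
  have hP : P ≤ H0 :=
    le_inf (Oi_le _ _ _) (cent_symm (Dp_cent (Oi_le _ _ _) pP (hD.trans (cnorm_Oi _ _ _))))
  have hZ : Z ≤ H0 := inf_le_inf_right _ (Op_le p H)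
  have cZ : H0 ≤ 𝒞(Z) := inf_le_right.trans (cent_anti (inf_le_left.trans le_sup_right))
  have nZ : H0 ≤ 𝒩(Z) := norm_of_cent cZ
  have rZ : R ≤ 𝒩(Z) := norm_of_cent (hg.trans (cent_anti (inf_le_left.trans le_sup_right)))
  have hT : piCoreOf {p} H ≤ P := le_Oi (piCoreOf_le _ _) (piCoreOf_pi _ _) (norm_piCoreOf _ h.norm)
    (norm_piCoreOf _ (norm_of_le inf_le_left))
  have hF : Fof H ⊓ H0 ≤ piCoreOf {p} H ⊔ Z := by
    rw [Fof_eq p, modular_left (.inl (norm_Op (norm_of_le (piCoreOf_le _ _)))) (hT.trans hP)]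
    exact sup_le_sup_left (inf_le_inf_left _ inf_le_right) _
  have hT0 : quo (piCoreOf {p} H) Z ≤ piCoreOf {p} (quo H0 Z) :=
    (quo_mono Z (le_piCoreOf (hT.trans hP) (norm_piCoreOf _ (norm_of_le inf_le_left))
      (piCoreOf_pi _ _))).trans (quo_piCoreOf_le _ _ _)
  have e : pCoreOf p (quo H0 Z) = piCoreOf {p} (quo H0 Z) := pCore_map_subtype hp _
  have a1 : H72.CharPIn p (quo H0 Z) := by
    rw [H72.CharPIn, e]
    obtain ⟨B, b1, b2, b3⟩ := exists_quo_eq hZ nZ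
      (inf_le_left : quo H0 Z ⊓ 𝒞(piCoreOf {p} (quo H0 Z)) ≤ _)
    rw [← b3]
    have b4 : ⁅B, piCoreOf {p} H⁆ ≤ Z := (quo_cent_iff (b2.trans nZ) ((hT.trans hP).trans nZ)).1
      ((b3.le.trans inf_le_right).trans (cent_anti hT0))
    have b5 : ⁅B, piCoreOf {p} H⁆ = ⊥ := IsPi.eq_bot (π := {p}) ((piCoreOf_pi _ _).of_le
      (commutator_le_right_of_norm (norm_piCoreOf _ (norm_of_le (b2.trans inf_le_left))))) (pZ.of_le b4)
    have b6 := (le_inf (le_Fof_of_cent (p := p) (b2.trans inf_le_left) (b2.trans inf_le_right)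
      (H49.commutator_eq_bot_iff.1 b5)) b2).trans hF
    refine le_trans ((quo_le_quo_iff' (b2.trans nZ) ((hT.trans hP).trans nZ)).2 b6) hT0
  have a2 : pCoreOf p (quo H0 Z) ≤ quo P Z := by
    rw [e]
    obtain ⟨B, b1, b2, b3⟩ := exists_quo_eq hZ nZ (piCoreOf_le {p} (quo H0 Z))
    have b4 : H0 ≤ 𝒩(B) := norm_of_quo_norm nZ b1 (b2.trans nZ) (b3 ▸ le_norm_piCoreOf _ _)
    have b5 : Group.IsNilpotent B := nil_of_quo (b2.trans nZ) (b2.trans cZ) (b3 ▸ (piCoreOf_pi _ _).nilpotent)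
    have b6 : B ≤ Fof H := le_Fof_of_sn ((SN.of_le_normalizer inf_le_left n0).trans (SN.of_le_normalizer b2 b4)) b5
    rw [← b3]
    exact (quo_le_quo_iff' (b2.trans nZ) (hP.trans nZ)).2 (((le_inf b6 b2).trans hF).trans (sup_le_sup_right hT _))
  have a3 := FZJ.kInf_norm (R := quo R Z) h3 hrp a1 a2 (quo_mono Z hP) (quo_norm Z r0) fun g hg => by
    obtain ⟨x, hx, rfl⟩ := mem_quo.1 hg
    have : FZJ.Hyp p r H0 R x := ⟨hR.isPGroup hr, hc.coprime_dvd_left (card_dvd_of_le inf_le_left), r0, hP hx,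
      fun Q q1 q2 q3 => ((h.sup_Oi hp (q1.trans inf_le_left) (isPi_of_isPGroup hp q2) q3).of_le
        (sup_le_sup_left (zpowers_le.2 hx) _)).isPGroup hp⟩
    exact (this.subgroupOf nZ rZ).map (coset Z)
  have a4 : H0 ≤ 𝒩(KK P ⊔ Z) := norm_sup_of_quo_norm nZ (((KK_le P).trans hP).trans nZ) (by
    rw [quo_KK (hP.trans nZ) (pP.inf_eq_bot pZ)]
    exact a3)
  have a5 : H0 ≤ 𝒩(KK P) := fun g hg => mem_norm_of_cj_le (le_of_pi_sup ((pP.of_le (KK_le P)).cj g) pZ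
    (norm_of_cent (cent_symm (((KK_le P).trans hP).trans cZ))) (cj_le_of_mem_norm le_sup_left (a4 hg)))
  rw [← h.dec]
  exact sup_le ((le_inf h.comm_le (comm_le_cent (norm_Dp le_normalizer) hg)).trans a5)
    (norm_KK (cnorm_Oi _ _ _))

/-- adjoining a central `p`-group -/
theorem Dp_sup_le (hZ : IsPi {p} Z) (h1 : Z ≤ 𝒞(W)) (h2 : Z ≤ 𝒞(Z)) : Dp p (W ⊔ Z) ≤ Dp p W := by
  have hn : W ⊔ Z ≤ 𝒩(W) := sup_le le_normalizer (norm_of_cent h1)
  refine sup_le ?_ ?_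
  · exact Eof_le_Eof_of_le le_sup_left (H3.Lay.le_of_le_sup_cen (Eof_perfect _) h1 h2 (Eof_le _)) |>.trans le_sup_left
  · have a : Op p (W ⊔ Z) ≤ W :=
      le_of_pi_sup (piCoreOf_pi _ _) hZ.compl_compl (norm_of_cent h1) (Op_le _ _)
    exact le_sup_of_le_right (le_Op (SN.of_le_normalizer a (norm_Op (norm_of_le le_sup_left))) (Op_nil _ _)
      (piCoreOf_pi _ _))

theorem Dp_quo_le (hZ : IsPi {p} Z) (h1 : Z ≤ W) (h2 : Z ≤ 𝒞(W)) : Dp p (quo W Z) ≤ quo (Dp p W) Z := by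
  have nZ : W ≤ 𝒩(Z) := norm_of_cent (cent_symm h2)
  refine sup_le ((H3.Lay.Eof_quo_le h1 h2).trans (quo_mono Z le_sup_left)) ?_
  obtain ⟨B, b1, b2, b3⟩ := exists_quo_eq h1 nZ (Op_le p (quo W Z))
  have b4 : W ≤ 𝒩(B) := norm_of_quo_norm nZ b1 (b2.trans nZ) (b3 ▸ norm_Op le_normalizer)
  have b5 : Group.IsNilpotent B := nil_of_quo (b2.trans nZ) (b2.trans (cent_symm h2)) (b3 ▸ Op_nil _ _)
  have b6 : piCoreOf {p} B ≤ Z := (quo_eq_bot_iff (((piCoreOf_le _ _).trans b2).trans nZ)).1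
    (IsPi.eq_bot (π := {p}) ((piCoreOf_pi _ _).quo Z)
      ((piCoreOf_pi _ _).of_le ((quo_mono Z (piCoreOf_le _ _)).trans b3.le)))
  have b7 : piCoreOf {p}ᶜ B ≤ Dp p W := le_sup_of_le_right (le_Op ((SN.of_le_normalizer b2 b4).trans
    (SN.of_le_normalizer (piCoreOf_le _ _) (le_norm_piCoreOf _ _))) (nilpotent_of_le b5 (piCoreOf_le _ _))
    (piCoreOf_pi _ _))
  rw [← b3]
  refine (quo_le_quo_iff' (b2.trans nZ) ((Dp_le _ _).trans nZ)).2 ?_
  rw [← (nilpotent_isDp b5 {p}).1, sup_comm]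
  exact sup_le_sup b7 b6

theorem quo_Eof_le (h : W ≤ 𝒩(Z)) : quo (Eof W) Z ≤ Eof (quo W Z) := by
  refine le_trans ?_ (map_Eof_le (coset Z) (W.subgroupOf 𝒩(Z)))
  rw [← Eof_subgroupOf_map h, quo_def]
  exact map_mono (comap_map_eq_self_of_injective (subtype_injective _) _).le

/-- a noncyclic group of order `r ^ 2` -/
structure Sq (r : ℕ) (R : Subgroup X) : Prop where
  pr : r.Prime
  card : Nat.card R = r ^ 2
  nc : ¬ IsCyclic R

namespace Sq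

variable (h : Sq r R)
include h

theorem pi : IsPi {r} R := isPi_of_card_eq_pow h.pr h.card

theorem ab : IsMulCommutative R := by
  haveI := Fact.mk h.pr
  exact ⟨⟨(IsPGroup.commGroupOfCardEqPrimeSq h.card).mul_comm⟩⟩

theorem cent {c : X} (hc : c ∈ R) : R ≤ 𝒞[c] := (abelian_iff.1 h.ab).trans (cent_le_cent1 hc)

theorem ord {c : X} (hc : c ∈ R) (h1 : c ≠ 1) : orderOf c = r := by
  have h2 : orderOf c ∣ r ^ 2 := h.card ▸ R.orderOf_dvd_natCard hc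
  obtain ⟨k, hk, e⟩ := (Nat.dvd_prime_pow h.pr).1 h2
  obtain rfl | rfl | rfl : k = 0 ∨ k = 1 ∨ k = 2 := by omega
  · exact absurd (orderOf_eq_one_iff.1 (by simpa using e)) h1
  · simpa using e
  · refine absurd ?_ h.nc
    rw [← eq_of_le_of_card_ge (zpowers_le.2 hc) (by rw [Nat.card_zpowers, e, h.card])]
    infer_instance

theorem other {c : X} (hc : c ∈ R) (h1 : c ≠ 1) : ∃ d ∈ R, d ≠ 1 ∧ 𝒞[c] ⊓ 𝒞[d] ≤ 𝒞(R) := by
  have a1 : ¬ R ≤ zpowers c := fun e => h.nc (cyclic_of_le inferInstance e)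
  obtain ⟨d, hd, a2⟩ := SetLike.not_le_iff_exists.1 a1
  refine ⟨d, hd, fun e => a2 (e ▸ one_mem _), ?_⟩
  have a3 : zpowers c ⊔ zpowers d ≤ R := sup_le (zpowers_le.2 hc) (zpowers_le.2 hd)
  have a4 : zpowers c < zpowers c ⊔ zpowers d := lt_of_le_of_ne le_sup_left fun e =>
    a2 (e.ge (mem_sup_right (mem_zpowers d)))
  have a5 := card_dvd_of_le a3
  have a6 : r < Nat.card ↥(zpowers c ⊔ zpowers d) := by
    rw [← h.ord hc h1, ← Nat.card_zpowers]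
    exact lt_of_le_of_ne (card_le_of_le a4.le) fun e => a4.ne (eq_of_le_of_card_ge a4.le e.ge)
  rw [h.card] at a5
  obtain ⟨k, hk, e⟩ := (Nat.dvd_prime_pow h.pr).1 a5
  have a7 : k = 2 := by
    rw [e] at a6
    have := (Nat.pow_lt_pow_iff_right h.pr.one_lt (n := 1)).1 (by simpa using a6)
    omega
  rw [← eq_of_le_of_card_ge a3 (by rw [e, a7, h.card]), cent_sup, cent_zpowers, cent_zpowers]

theorem quo (h1 : R ≤ 𝒩(N)) (h2 : R ⊓ N = ⊥) : Sq r (quo R N) :=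
  ⟨h.pr, (card_quo_of_disjoint h1 h2).trans h.card, fun e =>
    h.nc (isCyclic_of_surjective _ (quoEquivOfDisjoint h1 h2).symm.surjective)⟩

theorem act (h1 : R ≤ 𝒩(G)) (h2 : (Nat.card G).Coprime r) : Act R G :=
  ⟨h1, h.card ▸ h2.symm.pow_left 2, solvable_of_abelian h.ab⟩

theorem cop (a : Act R G) : (Nat.card G).Coprime r :=
  (a.cop.coprime_dvd_left (h.card ▸ dvd_pow_self r two_ne_zero)).symm

theorem le_of (a : Act R G) (h1 : ∀ c ∈ R, c ≠ 1 → G ⊓ 𝒞[c] ≤ Y) : G ≤ Y :=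
  coprime_le_of_cent1 h.ab h.nc a.norm a.cop h1

theorem actc (a : Act R G) {c : X} (hc : c ∈ R) : Act R (G ⊓ 𝒞[c]) :=
  a.sub inf_le_left (norm_inf a.norm (norm_of_le (h.cent hc)))

/-- layers of invariant subgroups of the fixed point groups -/
theorem eof_cent (a : Act R G) {c : X} (hc : c ∈ R) (h1 : c ≠ 1) (hg : R ≤ 𝒞(Eof (G ⊓ 𝒞[c])))
    (hW : W ≤ G ⊓ 𝒞[c]) (n1 : R ≤ 𝒩(W)) (n2 : G ⊓ 𝒞(R) ≤ 𝒩(W)) : R ≤ 𝒞(Eof W) := by
  obtain ⟨d, hd, d1, d2⟩ := h.other hc h1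
  have k : FLAV.Cop r (G ⊓ 𝒞[c]) d := ⟨h.pr, h.ord hd d1 ▸ pow_orderOf_eq_one d,
    h.pr.coprime_iff_not_dvd.1 (h.cop (h.actc a hc)).symm⟩
  have e1 : d ∈ 𝒩(Eof W) := norm_Eof n1 hd
  have e2 : FLAV.kk d (Eof W) ≤ W := (FLAV.kk_le e1).trans (Eof_le W)
  have e3 := H3.Lay.Eof_le_Eof k ((h.actc a hc).norm hd) (e2.trans hW) (FLAV.inv_kk d _)
    (fun g hg => FLAV.mem_norm_kk hg.2 (norm_Eof n2 ⟨hg.1.1, d2 ⟨hg.1.2, hg.2⟩⟩))
    (k.kk_kk ((Eof_le W).trans hW) e1)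
  refine cent_symm (Eof_le_iff.2 fun L hL => ?_)
  rcases hL.le_commutator_or (FLAV.zn (n1 hd)) with l | l
  · exact ((hL.mono l e2).le_Eof.trans e3).trans (cent_symm hg)
  · exact (le_inf ((hL.le.trans hW).trans inf_le_right) (FLAV.kk_eq_bot.1 l)).trans d2

end Sq

end Cfsg.Agent.H60.NC
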