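import Cfsg.Agent.H60.NC2

/-! A noncyclic group acting coprimely: the minimal counterexample does not exist. -/

set_option autoImplicit false
set_option linter.unusedSectionVars false

namespace Cfsg.Agent.H60.NC

open Subgroup H49
open H44 hiding cj
open scoped commutatorElement

universe u

variable {X : Type u} [Group X] [Finite X] {p q r : ℕ} {G H K R J M N P U W Y Z A : Subgroup X} {a b c : X}

/-- the local hypothesis -/
def Loc (p : ℕ) (R G : Subgroup X) : Prop := ∀ c ∈ R, c ≠ 1 → R ≤ 𝒞(Dp p (G ⊓ 𝒞[c]))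

/-- the minimal counterexample -/
structure Min (p r : ℕ) (G R : Subgroup X) : Prop where
  pp : p.Prime
  p3 : 3 < p
  sq : Sq r R
  act : Act R G
  loc : Loc p R G
  ih : ∀ H, H < G → R ≤ 𝒩(H) → Loc p R H → R ≤ 𝒞(Dp p H)
  op : piCoreOf {p} G = ⊥
  nc : ¬ G ≤ 𝒞(R)

/-- the uniqueness subgroup -/
abbrev MM (p : ℕ) (G R : Subgroup X) : Subgroup X := G ⊓ 𝒩(KK (Oi p G R))

namespace Min

variable (h : Min p r G R)
include h

theorem pi : IsPi {p} (Oi p G R) := h.act.Oi_pi h.pp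

theorem cle (hc : c ∈ R) : G ⊓ 𝒞(R) ≤ G ⊓ 𝒞[c] := inf_le_inf_left _ (cent_le_cent1 hc)

theorem core_le (h1 : H ≤ G) (h2 : R ≤ 𝒩(H)) (h3 : G ⊓ 𝒞(R) ≤ H) : piCoreOf {p} H ≤ Oi p G R :=
  le_Oi ((piCoreOf_le _ _).trans h1) (piCoreOf_pi _ _) (norm_piCoreOf _ h2) (norm_piCoreOf _ (norm_of_le h3))

theorem T_le (hc : c ∈ R) : piCoreOf {p} (G ⊓ 𝒞[c]) ≤ Oi p G R :=
  h.core_le inf_le_left (h.sq.actc h.act hc).norm (h.cle hc)

theorem T_ne (hc : c ∈ R) (h1 : c ≠ 1) (h2 : ¬ G ⊓ 𝒞[c] ≤ 𝒞(R)) : piCoreOf {p} (G ⊓ 𝒞[c]) ≠ ⊥ := fun e => by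
  have a := h.sq.actc h.act hc
  have a1 := a.pgrp h.pp (h.loc c hc h1) le_rfl a.norm fun y _ _ => by rw [e, cent_bot]; trivial
  exact h2 (H49.commutator_eq_bot_iff.1 (le_bot_iff.1
    ((le_piCoreOf a.comm_le (le_norm_commutator_left _ _) a1).trans e.le)))

theorem P_ne : Oi p G R ≠ ⊥ := fun e => h.nc (h.sq.le_of h.act fun c hc h1 => by
  by_contra h2
  exact h.T_ne hc h1 h2 (le_bot_iff.1 ((h.T_le hc).trans e.le)))

theorem rp : r ≠ p := by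
  rintro rfl
  exact h.pp.coprime_iff_not_dvd.1 (h.sq.cop h.act).symm
    ((h.pi.dvd_card h.P_ne).trans (card_dvd_of_le (Oi_le _ _ _)))

theorem proper (h1 : U ≤ G) (h2 : IsPi {p} U) (h3 : U ≠ ⊥) : G ⊓ 𝒩(U) < G :=
  lt_of_le_of_ne inf_le_left fun e =>
    h3 (le_bot_iff.1 ((le_piCoreOf h1 (e.ge.trans inf_le_right) h2).trans h.op.le))

theorem zj (h1 : H ≤ G) (h2 : R ≤ 𝒩(H)) (h3 : G ⊓ 𝒞(R) ≤ H) (hg : R ≤ 𝒞(Dp p H)) :
    H ≤ 𝒩(KK (Oi p G R ⊓ H)) := by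
  rw [← h.act.Oi_inf h.pp h1 h2 h3]
  exact NC.zj h.pp h.p3 h.sq.pr h.rp h.sq.pi (h.sq.cop (h.act.sub h1 h2)) (h.act.sub h1 h2) hg

theorem good_of_P (h1 : H < G) (h2 : R ≤ 𝒩(H)) (h3 : G ⊓ 𝒞(R) ≤ H) (h4 : Oi p G R ≤ H) : R ≤ 𝒞(Dp p H) := by
  refine h.ih H h1 h2 fun c hc c1 => ?_
  refine (h.sq.actc h.act hc).good_of_FS h.pp (h.loc c hc c1) (le_inf ?_ ((FSof_le _).trans inf_le_right))
    (inf_le_inf_right _ h1.le) (norm_inf h2 (norm_of_le (h.sq.cent hc)))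
  rw [FSof_eq' p]
  exact sup_le ((le_inf ((Dp_le _ _).trans inf_le_left) (cent_symm (h.loc c hc c1))).trans h3)
    ((h.T_le hc).trans h4)

theorem le_M (h1 : H ≤ G) (h2 : R ≤ 𝒩(H)) (h3 : G ⊓ 𝒞(R) ≤ H) (h4 : Oi p G R ≤ H) (hg : R ≤ 𝒞(Dp p H)) :
    H ≤ MM p G R := by
  have := h.zj h1 h2 h3 hg
  rw [inf_eq_left.2 h4] at this
  exact le_inf h1 this

theorem Z_ne : Oi p G R ⊓ 𝒞(Oi p G R) ≠ ⊥ := center_ne_bot_of_nilpotent h.pi.nilpotent h.P_ne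

theorem M_lt : MM p G R < G :=
  h.proper ((KK_le _).trans (Oi_le _ _ _)) (h.pi.of_le (KK_le _)) (ne_bot_mono (center_le_KK _) h.Z_ne)

theorem nM : R ≤ 𝒩(MM p G R) := norm_inf h.act.norm (norm_norm (norm_KK h.act.norm_Oi))

theorem C_le : G ⊓ 𝒞(R) ≤ MM p G R := le_inf inf_le_left (norm_KK (cnorm_Oi _ _ _))

theorem P_le : Oi p G R ≤ MM p G R := le_inf (Oi_le _ _ _) (norm_KK le_normalizer)

theorem M_good : R ≤ 𝒞(Dp p (MM p G R)) := h.good_of_P h.M_lt h.nM h.C_le h.P_le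

theorem actM : Act R (MM p G R) := h.act.sub inf_le_left h.nM

theorem norm_le_M (h1 : A ≤ Oi p G R ⊓ 𝒞(Oi p G R)) (h2 : A ≠ ⊥) (h3 : R ≤ 𝒩(A)) (h4 : G ⊓ 𝒞(R) ≤ 𝒩(A)) :
    G ⊓ 𝒩(A) ≤ MM p G R := by
  have a1 : R ≤ 𝒩(G ⊓ 𝒩(A)) := norm_inf h.act.norm (norm_norm h3)
  have a2 : G ⊓ 𝒞(R) ≤ G ⊓ 𝒩(A) := le_inf inf_le_left h4
  have a3 : Oi p G R ≤ G ⊓ 𝒩(A) := le_inf (Oi_le _ _ _) (norm_of_cent (cent_symm (h1.trans inf_le_right)))
  exact h.le_M inf_le_left a1 a2 a3 (h.good_of_P (h.proper ((h1.trans inf_le_left).trans (Oi_le _ _ _))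
    (h.pi.of_le (h1.trans inf_le_left)) h2) a1 a2 a3)

theorem good_norm (h1 : K ≤ Oi p G R) (h3 : R ≤ 𝒩(K)) (h4 : G ⊓ 𝒞(R) ≤ 𝒩(K))
    (h2 : piCoreOf {p} (G ⊓ 𝒩(K)) ⊓ 𝒞(Oi p G R) ≠ ⊥) : R ≤ 𝒞(Dp p (G ⊓ 𝒩(K))) := by
  set N := G ⊓ 𝒩(K)
  have a1 : R ≤ 𝒩(N) := norm_inf h.act.norm (norm_norm h3)
  have a2 : G ⊓ 𝒞(R) ≤ N := le_inf inf_le_left h4
  have a3 := h.core_le inf_le_left a1 a2
  have a4 : K ≤ piCoreOf {p} N :=
    le_piCoreOf (le_inf (h1.trans (Oi_le _ _ _)) le_normalizer) inf_le_right (h.pi.of_le h1)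
  have a5 : Dp p N ≤ MM p G R := le_trans (le_inf ((Dp_le _ _).trans inf_le_left)
    (norm_of_cent ((Dp_cent_core p N).trans (cent_anti inf_le_left))))
    (h.norm_le_M (inf_le_inf_right _ a3) h2 (norm_inf (norm_piCoreOf _ a1) (norm_cent h.act.norm_Oi))
      (norm_inf (norm_piCoreOf _ (norm_of_le a2)) (norm_cent (cnorm_Oi _ _ _))))
  have a6 : Dp p N ≤ 𝒞(K) := (Dp_cent_core p N).trans (cent_anti a4)
  refine (h.act.sub inf_le_left a1).good_of_pi (h.actM.axb h.pp h.M_good (h1.trans h.P_le) (h.pi.of_le h1) a5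
    (norm_Dp a1) a6 ?_)
  rw [H49.commutator_eq_bot_iff.2 (cent_symm (Dp_cent ?_ ((piCoreOf_pi _ _).inf_left _) ?_))]
  · exact bot_le
  · exact inf_le_inf ((piCoreOf_le _ _).trans inf_le_left) (cent_le_norm K)
  · exact norm_inf (norm_piCoreOf _ (norm_of_le a5)) (norm_cent (norm_of_cent a6))

theorem climb (S : Subgroup X) : ∀ H, Oi p G R ⊓ H = S → H ≤ G → R ≤ 𝒩(H) → G ⊓ 𝒞(R) ≤ H →
    R ≤ 𝒞(Dp p H) → H ⊓ (Oi p G R ⊓ 𝒞(Oi p G R)) ≠ ⊥ → H ≤ MM p G R := by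
  induction S using WellFoundedGT.induction with | ind S ih => ?_
  rintro H rfl h1 h2 h3 hg hz
  by_cases e : Oi p G R ≤ H
  · exact h.le_M h1 h2 h3 e hg
  set P := Oi p G R
  have a1 : H ≤ G ⊓ 𝒩(KK (P ⊓ H)) := le_inf h1 (h.zj h1 h2 h3 hg)
  have a2 : P ⊓ H < P ⊓ 𝒩(P ⊓ H) := lt_inf_norm_of_nilpotent h.pi.nilpotent
    (lt_of_le_of_ne inf_le_left fun e' => e (e'.ge.trans inf_le_right))
  have a3 : R ≤ 𝒩(KK (P ⊓ H)) := norm_KK (norm_inf h.act.norm_Oi h2)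
  have a4 : KK (P ⊓ H) ≤ P := (KK_le _).trans inf_le_left
  have a5 : H ⊓ (P ⊓ 𝒞(P)) ≤ KK (P ⊓ H) := le_trans (le_inf (le_inf (inf_le_right.trans inf_le_left) inf_le_left)
    ((inf_le_right.trans inf_le_right).trans (cent_anti inf_le_left))) (center_le_KK _)
  refine a1.trans (ih _ (a2.trans_le (le_inf inf_le_left (le_inf (inf_le_left.trans (Oi_le _ _ _))
    (norm_KK inf_le_right)))) _ rfl inf_le_left (norm_inf h.act.norm (norm_norm a3)) (h3.trans a1)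
    (h.good_norm a4 a3 ((h3.trans a1).trans inf_le_right) (ne_bot_mono ?_ hz))
    (ne_bot_mono (inf_le_inf_right _ a1) hz))
  exact le_inf (a5.trans (le_piCoreOf (le_inf (a4.trans (Oi_le _ _ _)) le_normalizer) inf_le_right
    (h.pi.of_le a4))) (inf_le_right.trans inf_le_right)

theorem cent_le_M (hc : c ∈ R) (h1 : c ≠ 1) (h2 : Oi p G R ⊓ 𝒞(Oi p G R) ⊓ 𝒞[c] ≠ ⊥) : G ⊓ 𝒞[c] ≤ MM p G R :=
  h.climb _ _ rfl inf_le_left (h.sq.actc h.act hc).norm (h.cle hc) (h.loc c hc h1) (ne_bot_mono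
    (le_inf (inf_le_inf_right _ (inf_le_left.trans (Oi_le _ _ _))) inf_le_left) h2)

end Min

/-- the final configuration -/
structure Fin (p r : ℕ) (G R : Subgroup X) (a b : X) (A K N : Subgroup X) : Prop extends Min p r G R where
  ha : a ∈ R
  a1 : a ≠ 1
  hb : b ∈ R
  b1 : b ≠ 1
  na : ¬ G ⊓ 𝒞[a] ≤ MM p G R
  eA : A = Oi p G R ⊓ 𝒞(Oi p G R) ⊓ 𝒞[b]
  A0 : A ≠ ⊥
  eK : K = Oi p G (zpowers a)
  eN : N = G ⊓ 𝒩(K)

namespace Fin

variable (h : Fin p r G R a b A K N)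
include h

theorem AZ : A ≤ Oi p G R ⊓ 𝒞(Oi p G R) := h.eA.le.trans inf_le_left

theorem AP : A ≤ Oi p G R := h.AZ.trans inf_le_left

theorem pA : IsPi {p} A := h.pi.of_le h.AP

theorem rA : R ≤ 𝒩(A) := h.eA ▸ norm_inf (norm_inf h.act.norm_Oi (norm_cent h.act.norm_Oi))
  (norm_of_le (h.sq.cent h.hb))

theorem cA : G ⊓ 𝒞(R) ≤ 𝒩(A) := h.eA ▸ norm_inf (norm_inf (cnorm_Oi _ _ _) (norm_cent (cnorm_Oi _ _ _)))
  (norm_of_le (inf_le_right.trans (cent_le_cent1 h.hb)))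

theorem fpf : A ⊓ 𝒞[a] = ⊥ := by
  by_contra e
  exact h.na (h.cent_le_M h.ha h.a1 (ne_bot_mono (inf_le_inf_right _ h.AZ) e))

theorem Cb : G ⊓ 𝒞[b] ≤ MM p G R := h.cent_le_M h.hb h.b1 (h.eA ▸ h.A0)

theorem CA : G ⊓ 𝒞(A) ≤ MM p G R :=
  (inf_le_inf_left _ (cent_le_norm A)).trans (h.norm_le_M h.AZ h.A0 h.rA h.cA)

theorem za : zpowers a ≤ R := zpowers_le.2 h.ha

theorem pK : IsPi {p} K := h.eK ▸ (h.act.of_le h.za).Oi_pi h.pp

theorem nK (h1 : Y ≤ 𝒩(G)) (h2 : Y ≤ 𝒞[a]) : Y ≤ 𝒩(K) :=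
  h.eK ▸ norm_Oi h1 (norm_of_cent (by rwa [cent_zpowers]))

theorem le_K (h1 : U ≤ G) (h2 : IsPi {p} U) (h3 : a ∈ 𝒩(U)) (h4 : G ⊓ 𝒞[a] ≤ 𝒩(U)) : U ≤ K :=
  h.eK ▸ le_Oi h1 h2 (FLAV.zn h3) (by rwa [cent_zpowers])

theorem rK : R ≤ 𝒩(K) := h.nK h.act.norm (h.sq.cent h.ha)

theorem Ca : G ⊓ 𝒞[a] ≤ N := h.eN ▸ le_inf inf_le_left (h.nK (norm_of_le inf_le_left) inf_le_right)

theorem KG : K ≤ G := h.eK ▸ Oi_le _ _ _

theorem NG : N ≤ G := h.eN ▸ inf_le_left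

theorem NK : N ≤ 𝒩(K) := h.eN ▸ inf_le_right

theorem CN : G ⊓ 𝒞(R) ≤ N := (h.cle h.ha).trans h.Ca

theorem KP : K ≤ Oi p G R := le_Oi h.KG h.pK h.rK (h.CN.trans h.NK)

theorem TK : piCoreOf {p} (G ⊓ 𝒞[a]) ≤ K :=
  h.le_K ((piCoreOf_le _ _).trans inf_le_left) (piCoreOf_pi _ _)
    (norm_piCoreOf _ (h.sq.actc h.act h.ha).norm h.ha) (le_norm_piCoreOf _ _)

theorem N_lt : N < G := h.eN ▸ h.proper h.KG h.pK (ne_bot_mono h.TK
  (h.T_ne h.ha h.a1 fun e => h.na ((le_inf inf_le_left e).trans h.C_le)))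

theorem rN : R ≤ 𝒩(N) := h.eN ▸ norm_inf h.act.norm (norm_norm h.rK)

theorem AK : A ≤ 𝒞(K) := (h.AZ.trans inf_le_right).trans (cent_anti h.KP)

theorem AN : A ≤ N := h.eN ▸ le_inf (h.AP.trans (Oi_le _ _ _)) (norm_of_cent h.AK)

theorem core : piCoreOf {p} N = K :=
  le_antisymm (h.le_K ((piCoreOf_le _ _).trans h.NG) (piCoreOf_pi _ _) (norm_piCoreOf _ h.rN h.ha)
    (norm_piCoreOf _ (norm_of_le h.Ca))) (le_piCoreOf (h.eN ▸ le_inf h.KG le_normalizer) h.NK h.pK)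

theorem frob (hq : q ≠ p) (h1 : J ≤ G) (h2 : IsPi {q} J) (h3 : R ≤ 𝒩(J)) (h4 : A ≤ 𝒩(J))
    (h5 : J ⊓ 𝒞[a] ≤ 𝒞(R)) : A ≤ 𝒞(J) := by
  have h6 := h2.compl_singleton_of_ne hq
  refine NC.frob h.sq.pr (h.sq.ord h.ha h.a1) (h.rA h.ha) h.fpf h4 (h3 h.ha) (solvable_of_nilpotent h2.nilpotent)
    (h6.coprime' h.pA) (h.sq.cop (h.act.sub h1 h3)) (H49.commutator_eq_bot_iff.1 (IsPi.eq_bot (π := {p})
      (h.pA.of_le (commutator_le_right_of_norm ((le_inf (inf_le_left.trans h1) h5).trans h.cA)))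
      (h6.of_le ((commutator_mono inf_le_left le_rfl).trans (commutator_le_left_of_norm h4)))))

theorem A_Op : A ≤ 𝒞(Op p N) := by
  refine cent_symm (Op_le_of fun q _ hq => cent_symm (h.frob hq ((piCoreOf_le _ _).trans h.NG) (piCoreOf_pi _ _)
    (norm_piCoreOf _ h.rN) (norm_piCoreOf _ (norm_of_le h.AN)) ?_))
  refine le_trans ?_ (cent_symm ((h.loc a h.ha h.a1).trans (cent_anti le_sup_right)))
  exact le_Op (SN.of_le_normalizer (inf_le_inf_right _ ((piCoreOf_le _ _).trans h.NG))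
    (norm_inf (norm_piCoreOf _ (norm_of_le h.Ca)) (norm_of_le inf_le_right)))
    ((piCoreOf_pi {q} N).inf_left _).nilpotent (((piCoreOf_pi {q} N).inf_left _).compl_singleton_of_ne hq)

theorem EG : Eof N ≤ G := (Eof_le N).trans h.NG

theorem rE : R ≤ 𝒩(Eof N) := norm_Eof h.rN

theorem EK : Eof N ≤ 𝒞(K) := h.core ▸ le_sup_left.trans (Dp_cent_core p N)

theorem Ea : ⁅Eof N ⊓ 𝒞[a], R⁆ ≤ K := by
  have a1 : R ≤ 𝒩(Eof N ⊓ 𝒞[a]) := norm_inf h.rE (norm_of_le (h.sq.cent h.ha))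
  have a2 : Eof N ⊓ 𝒞[a] ≤ G ⊓ 𝒞[a] := inf_le_inf_right _ h.EG
  have a3 := commutator_le_left_of_norm a1
  refine (le_core ((SN.of_le_normalizer a2 (norm_inf (norm_Eof (norm_of_le h.Ca)) (norm_of_le inf_le_right))).trans
    (SN.of_le_normalizer a3 (le_norm_commutator_left _ _))) ?_).trans h.TK
  exact (h.sq.actc h.act h.ha).pgrp h.pp (h.loc a h.ha h.a1) a2 a1 fun y hy _ =>
    cent_anti h.TK (h.EK (a3 hy).1)

theorem le_norm (h1 : Y ≤ Eof N) (h2 : R ≤ 𝒩(Y)) (h3 : ⁅Y, R⁆ ≤ K) (h4 : U ≤ Eof N) (h5 : Eof N ⊓ 𝒞(R) ≤ 𝒩(U)) :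
    Y ≤ 𝒩(U) := by
  rw [← (h.act.sub (h1.trans h.EG) h2).dec]
  exact sup_le (norm_of_cent ((h3.trans (cent_symm h.EK)).trans (cent_anti h4)))
    ((inf_le_inf_right _ h1).trans h5)

theorem PE : Oi p G R ⊓ Eof N ≤ K := by
  have a1 : Act (zpowers a) (Eof N) := (h.act.sub h.EG h.rE).of_le h.za
  have a2 : Oi p G R ⊓ Eof N ≤ Oi p (Eof N) (zpowers a) := by
    refine le_Oi inf_le_right (h.pi.inf_left _) (h.za.trans (norm_inf h.act.norm_Oi h.rE)) ?_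
    rw [cent_zpowers]
    exact h.le_norm inf_le_left (norm_inf h.rE (norm_of_le (h.sq.cent h.ha))) h.Ea inf_le_right
      (norm_inf ((inf_le_inf_right _ h.EG).trans (cnorm_Oi _ _ _)) (norm_of_le inf_le_left))
  exact a2.trans (h.le_K ((Oi_le _ _ _).trans h.EG) (a1.Oi_pi h.pp) (a1.norm_Oi (mem_zpowers a))
    (norm_Oi (norm_Eof (norm_of_le h.Ca)) (norm_of_cent (by rw [cent_zpowers]; exact inf_le_right))))

theorem rME : R ≤ 𝒩(MM p G R ⊓ Eof N) := norm_inf h.nM h.rE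

theorem ME : ⁅MM p G R ⊓ Eof N, R⁆ ≤ K := by
  have a1 := commutator_le_left_of_norm h.rME
  have a2 : piCoreOf {p} (MM p G R) ≤ Oi p G R := h.core_le inf_le_left h.nM h.C_le
  have a3 : IsPi {p} ⁅MM p G R ⊓ Eof N, R⁆ := by
    refine h.actM.axb h.pp h.M_good (h.KP.trans h.P_le) h.pK inf_le_left h.rME (inf_le_right.trans h.EK) ?_
    refine le_trans (le_inf ?_ ?_) ((h.PE.trans (cent_symm h.EK)).trans (cent_anti inf_le_right))
    · exact ((commutator_mono inf_le_left inf_le_left).trans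
        (commutator_le_left_of_norm (le_norm_piCoreOf _ _))).trans a2
    · refine (commutator_mono ?_ inf_le_right).trans (commutator_le_right_of_norm (norm_Eof (norm_of_le le_rfl)))
      exact h.eN ▸ inf_le_inf (a2.trans (Oi_le _ _ _)) (cent_le_norm K)
  refine le_trans (le_inf (le_Oi ((a1.trans inf_le_right).trans h.EG) a3 (le_norm_commutator_right _ _) ?_)
    (a1.trans inf_le_right)) h.PE
  exact norm_commutator (norm_inf (norm_of_le h.C_le) (norm_Eof (norm_of_le h.CN))) (norm_of_cent inf_le_right)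

theorem cent_of (hq : q ≠ p) (h1 : J ≤ Y) (h2 : IsPi {q} J) (h3 : R ≤ 𝒩(J)) (h4 : ⁅Y, R⁆ ≤ K) : J ≤ 𝒞(R) :=
  H49.commutator_eq_bot_iff.1 (IsPi.eq_bot (π := {p}) (h.pK.of_le ((commutator_mono h1 le_rfl).trans h4))
    ((h2.compl_singleton_of_ne hq).of_le (commutator_le_left_of_norm h3)))

theorem Jq (hp : q.Prime) (hq : q ≠ p) : Oi q (Eof N) (zpowers b) ≤ 𝒞(R) := by
  have a1 : Act (zpowers b) (Eof N) := (h.act.sub h.EG h.rE).of_le (zpowers_le.2 h.hb)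
  have a2 := a1.Oi_pi hp
  have a3 : R ≤ 𝒩(Oi q (Eof N) (zpowers b)) :=
    norm_Oi h.rE (norm_of_cent (by rw [cent_zpowers]; exact h.sq.cent h.hb))
  have a4 : A ≤ 𝒩(Oi q (Eof N) (zpowers b)) := norm_Oi (norm_Eof (norm_of_le h.AN))
    (norm_of_cent (by rw [cent_zpowers]; exact h.eA.le.trans inf_le_right))
  have a5 := h.frob hq ((Oi_le _ _ _).trans h.EG) a2 a3 a4 (h.cent_of hq (inf_le_inf_right _ (Oi_le _ _ _))
    (a2.inf_left _) (norm_inf a3 (norm_of_le (h.sq.cent h.ha))) h.Ea)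
  exact h.cent_of hq (le_inf ((le_inf ((Oi_le _ _ _).trans h.EG) (cent_symm a5)).trans h.CA) (Oi_le _ _ _))
    a2 a3 h.ME

theorem locE : Loc p R (Eof N) := fun c hc c1 => by
  have a1 : R ≤ 𝒩(Eof N ⊓ 𝒞[c]) := norm_inf h.rE (norm_of_le (h.sq.cent hc))
  rw [Dp, cent_sup]
  refine le_inf (h.sq.eof_cent h.act hc c1 ((h.loc c hc c1).trans (cent_anti le_sup_left))
    (inf_le_inf_right _ h.EG) a1 (norm_inf (norm_Eof (norm_of_le h.CN))
      (norm_of_le (inf_le_right.trans (cent_le_cent1 hc))))) (cent_symm (Op_le_of fun q hp hq => ?_))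
  refine le_trans (le_Oi ((piCoreOf_le _ _).trans inf_le_left) (piCoreOf_pi _ _)
    ((zpowers_le.2 h.hb).trans (norm_piCoreOf _ a1)) ?_) (h.Jq hp hq)
  rw [cent_zpowers]
  refine le_trans (le_inf ((inf_le_inf_right _ h.EG).trans h.Cb) inf_le_left) ?_
  exact h.le_norm inf_le_right h.rME h.ME ((piCoreOf_le _ _).trans inf_le_left)
    (norm_piCoreOf _ (norm_of_le (inf_le_inf_left _ (cent_le_cent1 hc))))

theorem A_E : A ≤ 𝒞(Eof N) := by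
  have a1 := (h.ih _ ((Eof_le N).trans_lt h.N_lt) h.rE h.locE).trans (cent_anti le_sup_left)
  rw [Eof_Eof] at a1
  have a2 : Act (zpowers a) A := (h.act.sub (h.AP.trans (Oi_le _ _ _)) h.rA).of_le h.za
  rw [← coprime_comm_eq_of_cent a2.norm a2.cop (.inl a2.sol) (by rw [cent_zpowers, h.fpf])]
  exact comm_le_cent (norm_Eof (norm_of_le h.AN)) (h.za.trans a1)

theorem false : False := by
  have a1 : A ≤ piCoreOf {p} N := by
    rw [← pcore_fittingOf]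
    exact nilpotent_le_piCoreOf (Fof_isNilpotent N) (le_Fof_of_cent (p := p) h.AN
      (by rw [Dp, cent_sup]; exact le_inf h.A_E h.A_Op) (h.core ▸ h.AK)) h.pA
  have a2 : R ≤ 𝒞(Dp p N) := by
    rw [h.eN] at a1 ⊢
    exact h.good_norm h.KP h.rK (h.CN.trans h.NK) (ne_bot_mono (le_inf a1 (h.AZ.trans inf_le_right)) h.A0)
  exact h.na (h.Ca.trans (h.climb _ _ rfl h.NG h.rN h.CN a2 (ne_bot_mono (le_inf h.AN h.AZ) h.A0)))

end Fin

theorem Min.false (h : Min p r G R) : False := by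
  obtain ⟨a, ha, a1, na⟩ : ∃ a ∈ R, a ≠ 1 ∧ ¬ G ⊓ 𝒞[a] ≤ MM p G R := by
    by_contra! e
    exact h.M_lt.not_ge (h.sq.le_of h.act e)
  obtain ⟨b, hb, b1, nb⟩ : ∃ b ∈ R, b ≠ 1 ∧ Oi p G R ⊓ 𝒞(Oi p G R) ⊓ 𝒞[b] ≠ ⊥ := by
    by_contra! e
    exact h.Z_ne (le_bot_iff.1 (h.sq.le_of (h.act.sub (inf_le_left.trans (Oi_le _ _ _))
      (norm_inf h.act.norm_Oi (norm_cent h.act.norm_Oi))) fun c hc c1 => (e c hc c1).le))
  exact Fin.false ⟨h, ha, a1, hb, b1, na, rfl, nb, rfl, rfl⟩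

theorem Loc.normal (h : Loc p R G) (h1 : H ≤ G) (h2 : G ≤ 𝒩(H)) : Loc p R H := fun c hc c1 =>
  (h c hc c1).trans (cent_anti (Dp_mono (SN.of_le_normalizer (inf_le_inf_right _ h1)
    (norm_inf (inf_le_left.trans h2) (norm_of_le inf_le_right)))))

theorem Loc.quo (h : Loc p R G) (a : Act R G) (hZ : IsPi {p} Z) (h1 : Z ≤ G) (h2 : Z ≤ 𝒞(G)) (h3 : R ≤ 𝒩(Z)) :
    Loc p (quo R Z) (quo G Z) := fun c hc c1 => by
  obtain ⟨x, hx, rfl⟩ := mem_quo.1 hc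
  have x1 : (x : X) ≠ 1 := fun e => c1 (by rw [show x = 1 from Subtype.ext e, map_one])
  have a1 := a.of_le (zpowers_le.2 hx)
  have a2 := coprime_quo_cent a1.norm ((zpowers_le.2 hx).trans h3) (coprime_of_le a1.cop le_rfl h1) (.inl a1.sol)
  rw [quo_zpowers, cent_zpowers, cent_zpowers] at a2
  have a3 : Z ≤ 𝒞(G ⊓ 𝒞[(x : X)]) := h2.trans (cent_anti inf_le_left)
  have a4 : Z ≤ 𝒞(Z) := h2.trans (cent_anti h1)
  rw [← a2, ← quo_sup_ker (norm_of_cent (cent_symm a3))]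
  refine (quo_cent Z (h x hx x1)).trans (cent_anti ((Dp_quo_le hZ le_sup_right ?_).trans
    (quo_mono Z (Dp_sup_le hZ a3 a4))))
  rw [cent_sup]
  exact le_inf a3 a4

theorem main_aux (hp : p.Prime) (h3 : 3 < p) (n : ℕ) : ∀ (X : Type u) [Group X] [Finite X] (G R : Subgroup X),
    Nat.card G = n → Sq r R → Act R G → Loc p R G → R ≤ 𝒞(Dp p G) := by
  induction n using Nat.strong_induction_on with | h n ih => ?_
  intro X _ _ G R hn hs a hl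
  have ih' : ∀ H, H < G → R ≤ 𝒩(H) → Loc p R H → R ≤ 𝒞(Dp p H) := fun H h1 h2 h4 =>
    ih _ (hn ▸ lt_of_le_of_ne (card_le_of_le h1.le) fun e => h1.ne (eq_of_le_of_card_ge h1.le e.ge)) X H R rfl hs
      (a.sub h1.le h2) h4
  rw [Dp, cent_sup]
  refine le_inf ?_ (cent_symm (hs.le_of (a.sub (Op_le p G) (norm_Op a.norm)) fun c hc c1 => ?_))
  · by_cases e : Eof G = G
    swap
    · have := (ih' _ (lt_of_le_of_ne (Eof_le G) e) (norm_Eof a.norm)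
        (hl.normal (Eof_le G) (le_normalizer_Eof G))).trans (cent_anti le_sup_left)
      rwa [Eof_Eof] at this
    by_cases e' : piCoreOf {p} G = ⊥
    · by_contra hc
      exact Min.false ⟨hp, h3, hs, a, hl, ih', e', fun k => hc (cent_symm ((Eof_le G).trans k))⟩
    have z1 : piCoreOf {p} G ≤ 𝒞(G) := cent_symm (e.ge.trans (le_sup_left.trans (Dp_cent_core p G)))
    have z2 : R ≤ 𝒩(piCoreOf {p} G) := norm_piCoreOf _ a.norm
    have z3 := le_norm_piCoreOf {p} G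
    have z4 := ih _ (hn ▸ card_quo_lt z3 (by rwa [inf_eq_left.2 (piCoreOf_le _ _)])) _ _ _ rfl
      (hs.quo z2 (H49.inf_eq_bot_of_coprime (coprime_of_le a.cop le_rfl (piCoreOf_le _ _)))) (a.quo _)
      (hl.quo a (piCoreOf_pi _ _) (piCoreOf_le _ _) z1 z2)
    refine H3.Lay.cent_of_comm (Eof_perfect G) (le_trans ?_ (z1.trans (cent_anti (Eof_le G))))
    exact (quo_cent_iff z2 ((Eof_le G).trans z3)).1 (z4.trans (cent_anti ((quo_Eof_le z3).trans le_sup_left)))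
  · refine le_trans ?_ (cent_symm ((hl c hc c1).trans (cent_anti le_sup_right)))
    exact le_Op (SN.of_le_normalizer (inf_le_inf_right _ (Op_le p G))
      (norm_inf (norm_Op (norm_of_le inf_le_left)) (norm_of_le inf_le_right)))
      (nilpotent_of_le (Op_nil p G) inf_le_left) ((piCoreOf_pi _ _).inf_left _)

theorem main (hp : p.Prime) (h3 : 3 < p) (hs : Sq r R) (a : Act R G) (hl : Loc p R G) : R ≤ 𝒞(Dp p G) :=
  main_aux hp h3 _ X G R rfl hs a hl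

theorem res_eq (hp : p.Prime) (H : Subgroup X) :
    ((pResidual p (generalizedFittingSubgroup H)).map (generalizedFittingSubgroup H).subtype).map H.subtype =
      Dp p H := by
  haveI := Fact.mk hp
  refine le_antisymm ?_ ?_
  · rw [map_le_iff_le_comap, map_le_iff_le_comap, H3.pResidual_le_iff]
    intro g hg
    show ((g : H) : X) ∈ Dp p H
    refine zpowers_le.1 (le_of_pi_sup (π := {p}ᶜ) (Z := piCoreOf {p} H) (isPi_zpowers.2 ?_)
      (piCoreOf_pi _ _).compl_compl (norm_Dp (norm_of_le (piCoreOf_le _ _))) (zpowers_le.2 ?_))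
    · refine (isPiNat_compl_singleton_iff_coprime hp).2 ?_
      rwa [← Subgroup.orderOf_coe, ← Subgroup.orderOf_coe] at hg
    · rw [← FSof_eq']
      exact ⟨g, g.2, rfl⟩
  · have k : ∀ x ∈ FSof H, (orderOf x).Coprime p → x ∈ ((pResidual p (generalizedFittingSubgroup H)).map
        (generalizedFittingSubgroup H).subtype).map H.subtype := by
      rintro _ ⟨y, hy, rfl⟩ hc
      exact ⟨y, H3.mem_map_subtype_pResidual_of_coprime hy (by rwa [← Subgroup.orderOf_coe]), rfl⟩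
    refine sup_le (le_of_perfect_of_coprime_mem (p := p) (Eof_perfect H) fun x hx => k x (Eof_le_FSof H hx))
      fun x hx => k x (Fof_le_FSof H (piCoreOf_le _ _ hx))
        ((isPiNat_compl_singleton_iff_coprime hp).1 ((piCoreOf_pi _ _).elt hx))

end Cfsg.Agent.H60.NC
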